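import Mathlib
import Cfsg.Agent.FV.Defs
import Cfsg.Agent.Chev.E8L2B
import Cfsg.Agent.Chev.FldFix

/-!
# `E₈(2)` over the algebraic closure of `F₂`; modules of `SL₂(64)`
-/

set_option autoImplicit false

namespace Cfsg.Agent.E82

open Cfsg.Lie Cfsg.Lie.ChevalleyDatum Cfsg.Agent.Chev Cfsg.Agent.Chev.S2M Matrix MatrixGroups Polynomial

/-- The algebraic closure of `F₂`. -/
abbrev K2 : Type := AlgebraicClosure (ZMod 2)

/-- The finite group `E₈(2)`. -/
abbrev G0 : Type := chevE8.group (ZMod 2)

/-- The adjoint module. -/
abbrev VV : Type := chevE8.Idx → K2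

/-- Its general linear group. -/
abbrev GG : Type := GL chevE8.Idx K2

/-- The Frobenius map. -/
noncomputable def fr : GG →* GG := GeneralLinearGroup.map (frobenius K2 2)

/-- The embedding of the finite group. -/
noncomputable def emb : G0 →* GG :=
  (GeneralLinearGroup.map (algebraMap (ZMod 2) K2)).comp (chevE8.group (ZMod 2)).subtype

/-- The action of a general linear group on vectors. -/
noncomputable def linG (n : Type) [Fintype n] [DecidableEq n] : Representation K2 (GL n K2) (n → K2) :=
  toLinAlgEquiv'.toMonoidHom.comp (Units.coeHom _)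

theorem linG_apply {n : Type} [Fintype n] [DecidableEq n] (g : GL n K2) (v : n → K2) :
    linG n g v = g.val *ᵥ v := rfl

theorem charpoly_linG {n : Type} [Fintype n] [DecidableEq n] (g : GL n K2) :
    (linG n g).charpoly = g.val.charpoly := charpoly_toLin' _

/-- The action on the adjoint module. -/
noncomputable def lin : Representation K2 GG VV := linG chevE8.Idx

theorem lin_apply (g : GG) (v : VV) : lin g v = g.val *ᵥ v := linG_apply g v

theorem charpoly_lin (g : GG) : (lin g).charpoly = g.val.charpoly := charpoly_linG g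

/-- The eigenvalues of an element of `E₈(2)`. -/
noncomputable def ev (x : G0) : Multiset K2 := (emb x).val.charpoly.roots

theorem coe_fr (g : GG) : (fr g).val = g.val.map (frobenius K2 2) := rfl

theorem coe_emb (a : G0) : (emb a).val = a.val.val.map (algebraMap (ZMod 2) K2) := rfl

theorem fr_mem {g : GG} (hg : g ∈ chevE8.group K2) : fr g ∈ chevE8.group K2 := glMap_mem_group _ _ hg

theorem emb_mem (a : G0) : emb a ∈ chevE8.group K2 := glMap_mem_group _ _ a.2

theorem emb_injective : Function.Injective emb := fun _ _ h =>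
  fieldHom_injective chevE8 (algebraMap (ZMod 2) K2) (Subtype.ext h)

theorem frob_eq_iff (t : K2) : frobenius K2 2 t = t ↔ t ∈ Set.range (algebraMap (ZMod 2) K2) := by
  simpa [frobenius_def] using mem_range_iff_pow_card (ZMod 2) (algebraMap _ K2) t

theorem fr_mulVec (g : GG) (v : VV) :
    (fr g).val *ᵥ (frobenius K2 2 ∘ v) = frobenius K2 2 ∘ (g.val *ᵥ v) :=
  funext fun a => (RingHom.map_mulVec _ _ _ a).symm

theorem fr_eq_iff {g : GG} (hg : g ∈ chevE8.group K2) : fr g = g ↔ g ∈ emb.range := by
  have h := fieldHom_eq_self_iff (ker_torus_E8 K2) (frobeniusEquiv K2 2) (algebraMap (ZMod 2) K2)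
    frob_eq_iff ⟨g, hg⟩
  exact ⟨fun e => (h.1 (Subtype.ext e)).imp fun a ha => congrArg Subtype.val ha,
    fun ⟨a, ha⟩ => congrArg Subtype.val (h.2 ⟨a, Subtype.ext ha⟩)⟩

theorem fr_emb (a : G0) : fr (emb a) = emb a := (fr_eq_iff (emb_mem a)).2 ⟨a, rfl⟩

theorem ev_frob (x : G0) : (ev x).map (· ^ 2) = ev x := by
  have h2 := (IsAlgClosed.splits (emb x).val.charpoly).roots_map (frobenius K2 2)
  rw [← Matrix.charpoly_map, ← coe_fr, fr_emb] at h2
  exact h2.symm

theorem card_ev (x : G0) : (ev x).card = 248 := by
  rw [ev, ← (IsAlgClosed.splits _).natDegree_eq_card_roots, charpoly_natDegree_eq_dim]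
  rfl

/-- A histogram modulo `n`. -/
def hist (n : ℕ) (A : Multiset ℕ) : ℕ := (A.map fun w => 257 ^ (w % n)).sum

/-- The histograms of the elements of order 65. -/
def L65 : List ℕ := [51824663305880044544795330293501892678108502086491403489626929110733196269373008127345819013966802028514090733806697163795523479710139020292711967396886776,
  69098943170292538448523878528060395580875244556515078669433635077232361919218395906704719684020749335739731861236620118941069093470755274261773490218760440,
  34550904488698830050235659368176538855983263733463570073095780717458631625848689303769688737525352176888645699046879108583898783871046310659348150089938680,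
  51824142242871289145785053900148308141921479669560712274981173688124516813279655525703911966704733491231007792208691491646274210193609030287550544515692280,
  69098943162403501848151289143317301259887819682427622757093101142062737284183917684029029905562167372082440197722183764052109305961497732455898722071213816,
  120922824865881018367516087549579543585016573626425181274434532037393514696134502579530409356598575286642642614280063201571916334681400028703942418932954872]

/-- A histogram modulo 63 that does not occur. -/
def HD : ℕ := 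
  1830804779268134542044786257923353067010740240926037171608310810738284819973274851311020242419774157727707682420266833268522503840261180792144554953464

/-- The weights of the adjoint module in terms of the simple roots, modulo `63 * 65`. -/
def tl2 : List (List ℕ) := Alc.tlE8.map fun c => c.map fun v => if v ≤ 6 then v else v + 4078

section Modules

variable {F : Type*} [Field F] (ι : F →+* K2) {M : Type} [AddCommGroup M] [Module K2 M]

/-- `Λ` is the multiset of the highest weights of the composition factors of `σ`. -/
def Ch [FiniteDimensional K2 M] (σ : Representation K2 SL(2, F) M) (Λ : Multiset ℕ) : Prop :=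
  (∀ l ∈ Λ, l < 64) ∧ ∀ g η, Eig ι g η →
    (σ g).charpoly = (Λ.map fun l => ∏ j ∈ JJ K2 l, (Polynomial.X - C (η⁻¹ ^ j * η ^ (l - j)))).prod

/-- `σ` is the simple module with highest weight `l`. -/
def Model (σ : Representation K2 SL(2, F) M) (l : ℕ) : Prop :=
  l < 64 ∧ ∃ Φ : M →ₗ[K2] (SL(2, F) → K2), Function.Injective Φ ∧
    (∀ g w h, Φ (σ g w) h = Φ w (h * g)) ∧ LinearMap.range Φ = LL ι l

/-- The sum of the elements of order at most two. -/
noncomputable def zz [Fintype F] (σ : Representation K2 SL(2, F) M) : Module.End K2 M :=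
  open Classical in ∑ s ∈ Finset.univ.filter (fun s : SL(2, F) => s ^ 2 = 1), σ s

/-- The space of cocycles. -/
def Z1 {Γ : Type*} [Group Γ] (σ : Representation K2 Γ M) : Submodule K2 (Γ → M) where
  carrier := {f | ∀ a b, f (a * b) = f a + σ a (f b)}
  add_mem' := fun {f g} hf hg a b => by
    simp only [Pi.add_apply, hf a b, hg a b, map_add]; abel
  zero_mem' := fun _ _ => by simp
  smul_mem' := fun c f hf a b => by simp only [Pi.smul_apply, hf a b, smul_add, map_smul]

end Modules

/-- The binary submasks of `l`. -/
def js (l : ℕ) : List ℕ := (List.range (l + 1)).filter fun j => j &&& l = j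

/-- The weights (shifted by `63 * 65`) of the simple module with highest weight `l`. -/
def wts (l : ℕ) : List ℕ := (js l).map fun j => 4095 + l - 2 * j

/-- The weights of a module. -/
def WW (Λ : Multiset ℕ) : Multiset ℕ := Λ.bind fun l => (wts l : Multiset ℕ)

/-- The powers of two. -/
def P2 : List ℕ := [1, 2, 4, 8, 16, 32]

/-- The number of two-dimensional composition factors. -/
def dd (Λ : Multiset ℕ) : ℕ := (P2.map fun l => Λ.count l).sum

/-- The highest weights of the modules of dimension 32. -/
def B5 : List ℕ := [31, 47, 55, 59, 61, 62]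

/-- The first feasible decomposition. -/
def La : List ℕ := List.replicate 8 0 ++ P2 ++ P2 ++ [5, 10, 20, 40, 17, 34, 5, 10, 20, 40, 17, 34,
  5, 10, 20, 40, 17, 34, 11, 22, 44, 25, 50, 37, 21, 42, 21, 42, 63]

/-- The second feasible decomposition. -/
def Lb : List ℕ := List.replicate 12 0 ++ P2 ++ [7, 14, 28, 56, 49, 35, 7, 14, 28, 56, 49, 35,
  9, 18, 36, 9, 18, 36, 9, 18, 36, 9, 18, 36, 21, 42, 21, 42, 27, 54, 45]

/-- The third feasible decomposition. -/
def Lc : List ℕ := List.replicate 12 0 ++ P2 ++ P2 ++ P2 ++ P2 ++
  [3, 6, 12, 24, 48, 33, 5, 10, 20, 40, 17, 34, 9, 18, 36, 63, 63]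

/-- The restriction of the adjoint module. -/
noncomputable def rep {Γ : Type*} [Group Γ] (φ : Γ →* G0) : Representation K2 Γ VV :=
  (lin.comp emb).comp φ

theorem rep_apply {Γ : Type*} [Group Γ] (φ : Γ →* G0) (s : Γ) (v : VV) :
    rep φ s v = (emb (φ s)).val *ᵥ v := lin_apply _ v

/-- `H` normalises the image of `φ` and acts faithfully on it. -/
structure Ctx {F : Type*} [Field F] (H : Subgroup G0) (φ : SL(2, F) →* G0) : Prop where
  inj : Function.Injective φ
  le : ∀ s, φ s ∈ H
  nrm : ∀ h ∈ H, ∀ s, ∃ s', h * φ s * h⁻¹ = φ s'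
  cen : ∀ h ∈ H, (∀ s, h * φ s = φ s * h) → h = 1

open FV in
/-- The Lie bracket of the adjoint module in characteristic two. -/
structure IsBr (β : VV →ₗ[K2] VV →ₗ[K2] VV) : Prop where
  inv : ∀ g ∈ chevE8.group K2, ∀ a b, β (g.val *ᵥ a) (g.val *ᵥ b) = g.val *ᵥ β a b
  symm : ∀ a b, β a b = β b a
  hp_eN : ∀ (v : VV) (r : chevE8.Rt), β (hp chevE8 v) (chevE8.eN K2 r) = rt chevE8 r v • chevE8.eN K2 r
  hp_hp : ∀ v w : VV, β (hp chevE8 v) (hp chevE8 w) = 0
  eN_ng : ∀ r : chevE8.Rt, β (chevE8.eN K2 r) (chevE8.eN K2 (chevE8.ng r)) = chevE8.hV K2 (chevE8.cw r)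
  X_eN : ∀ r s : chevE8.Rt, s ≠ chevE8.ng r → ∀ t, (chevE8.X K2 r t).val *ᵥ chevE8.eN K2 s =
    chevE8.eN K2 s + t • β (chevE8.eN K2 r) (chevE8.eN K2 s)

end Cfsg.Agent.E82
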