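import Mathlib
import Cfsg.Agent.E82.Defs
import Cfsg.Agent.Chev.SsE7
import Cfsg.Agent.Chev.AltE8
import Cfsg.Agent.FV.Tor

/-!
# Characteristic polynomials of elements of finite order
-/

set_option autoImplicit false

namespace Cfsg.Agent.E82

open Cfsg.Lie Cfsg.Lie.ChevalleyDatum Cfsg.Agent.Chev Cfsg.Agent.Chev.S2M Matrix MatrixGroups Polynomial Module

namespace TorB

theorem prod_bd (s : Multiset ℂ) (h : ∀ z ∈ s, ‖z‖ = 1) : 1 ≤ ‖(s.map fun z => 2 - z).prod‖ ∧
    ‖(s.map fun z => 2 - z).prod‖ ≤ 3 ^ s.card ∧ (‖(s.map fun z => 2 - z).prod‖ = 1 → ∀ z ∈ s, z = 1) := by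
  induction s using Multiset.induction_on with
  | empty => simp
  | cons a s ih =>
    obtain ⟨h1, h2, h3⟩ := ih fun z hz => h z (Multiset.mem_cons_of_mem hz)
    have ha := h a (Multiset.mem_cons_self _ _)
    have a1 : 1 ≤ ‖2 - a‖ := by
      have := norm_sub_norm_le (2 : ℂ) a
      rw [ha, Complex.norm_two] at this
      linarith
    have a2 : ‖2 - a‖ ≤ 3 := by
      have := norm_sub_le (2 : ℂ) a
      rw [ha, Complex.norm_two] at this
      linarith
    rw [Multiset.map_cons, Multiset.prod_cons, norm_mul, Multiset.card_cons, pow_succ']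
    refine ⟨by nlinarith, by gcongr, fun e z hz => ?_⟩
    have e1 : ‖2 - a‖ = 1 := by nlinarith
    rcases Multiset.mem_cons.1 hz with rfl | hz
    · have b1 := Complex.sq_norm_sub_sq_re z
      have b2 := Complex.sq_norm_sub_sq_re (2 - z)
      rw [ha] at b1
      rw [e1] at b2
      simp only [Complex.sub_re, Complex.sub_im, Complex.re_ofNat, Complex.im_ofNat] at b2
      have b3 : z.re = 1 := by nlinarith
      refine Complex.ext b3 ?_
      rw [b3] at b1
      simpa using b1.symm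
    · exact h3 (by rwa [e1, one_mul] at e) z hz

theorem eval_bd {f : ℤ[X]} (hm : f.Monic) {N k : ℕ} (hN : 0 < N) (hf : f ∣ (Polynomial.X ^ N - 1) ^ k) :
    1 ≤ |f.eval 2| ∧ |f.eval 2| ≤ 3 ^ f.natDegree ∧ (|f.eval 2| = 1 → f = (Polynomial.X - 1) ^ f.natDegree) := by
  have hm' := hm.map (Int.castRingHom ℂ)
  have sp := IsAlgClosed.splits (f.map (Int.castRingHom ℂ))
  have e := sp.eq_prod_roots_of_monic hm'
  have hc : (f.map (Int.castRingHom ℂ)).roots.card = f.natDegree := by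
    rw [← sp.natDegree_eq_card_roots, hm.natDegree_map]
  have hz : ∀ z ∈ (f.map (Int.castRingHom ℂ)).roots, ‖z‖ = 1 := fun z hz => by
    have h1 := (isRoot_of_mem_roots hz).dvd (Polynomial.map_dvd (Int.castRingHom ℂ) hf)
    simp only [Polynomial.map_pow, Polynomial.map_sub, map_X, Polynomial.map_one, IsRoot.def, eval_pow, eval_sub,
      eval_X, eval_one] at h1
    exact Complex.norm_eq_one_of_pow_eq_one (sub_eq_zero.1 (pow_eq_zero_iff'.1 h1).1) hN.ne'
  obtain ⟨h1, h2, h3⟩ := prod_bd _ hz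
  have e2 : ‖((f.map (Int.castRingHom ℂ)).roots.map fun z => 2 - z).prod‖ = ((|f.eval 2| : ℤ) : ℝ) := by
    have := congrArg (eval 2) e
    rw [eval_multiset_prod, Multiset.map_map] at this
    simp only [Function.comp_def, eval_sub, eval_X, eval_C] at this
    rw [← this, show (2 : ℂ) = Int.castRingHom ℂ 2 by simp, eval_map_apply]
    simp
  rw [e2] at h1 h2 h3
  rw [hc] at h2
  refine ⟨by exact_mod_cast h1, by exact_mod_cast h2, fun h => ?_⟩
  have h4 := Multiset.eq_replicate_card.2 (h3 (by rw [h]; simp))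
  refine Polynomial.map_injective (Int.castRingHom ℂ) Int.cast_injective ?_
  rw [e, h4, hc]
  simp

theorem key {l d : ℕ} (hl : l.Prime) (hd : (l : ℤ) ∣ (cyclotomic d ℤ).eval 2) :
    orderOf (2 : ZMod l) ∣ d ∧ (l ∣ d ∨ orderOf (2 : ZMod l) = d) := by
  have := Fact.mk hl
  have h1 : (cyclotomic d (ZMod l)).IsRoot 2 := by
    rw [← map_cyclotomic_int, IsRoot.def, show (2 : ZMod l) = Int.castRingHom _ 2 by simp, eval_map_apply]
    exact (ZMod.intCast_zmod_eq_zero_iff_dvd _ _).2 hd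
  refine ⟨orderOf_dvd_of_pow_eq_one ?_, or_iff_not_imp_left.2 fun h => ?_⟩
  · simpa [sub_eq_zero] using h1.dvd (cyclotomic.dvd_X_pow_sub_one d (ZMod l))
  · have : NeZero (d : ZMod l) := ⟨fun e => h ((ZMod.natCast_eq_zero_iff _ _).1 e)⟩
    exact (isRoot_cyclotomic_iff.1 h1).eq_orderOf.symm

theorem cyc12 : cyclotomic 12 ℤ = Polynomial.X ^ 4 - Polynomial.X ^ 2 + 1 := by
  rw [← cyclotomic_expand_eq_cyclotomic Nat.prime_two (by norm_num : 2 ∣ 6), cyclotomic_six]
  simp; ring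

theorem cyc4 : cyclotomic 4 ℤ = Polynomial.X ^ 2 + 1 := by
  rw [← cyclotomic_expand_eq_cyclotomic Nat.prime_two (dvd_refl 2), cyclotomic_two]
  simp

theorem split {f : ℤ[X]} (hm : f.Monic) {N k l m : ℕ} (hN : 0 < N) (hf : f ∣ (Polynomial.X ^ N - 1) ^ k) (hl : l.Prime)
    (ho : orderOf (2 : ZMod l) = m) (hc : l.Coprime m) (hd : f.natDegree < (l * m).totient) (h : (l : ℤ) ∣ f.eval 2) :
    ∃ g : ℤ[X], g.Monic ∧ f = cyclotomic m ℤ * g ∧ f.natDegree = m.totient + g.natDegree := by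
  obtain ⟨d, hd0, ⟨g, hg⟩, h2⟩ := exists_cyclotomic_dvd hN hl 2 _ hf h
  have hg1 : g.Monic := (cyclotomic.monic d ℤ).of_mul_monic_left (hg ▸ hm)
  have hg2 : f.natDegree = d.totient + g.natDegree := by
    rw [hg, (cyclotomic.monic d ℤ).natDegree_mul hg1, natDegree_cyclotomic]
  obtain ⟨h3, h4 | h4⟩ := key hl h2
  · have := Nat.le_of_dvd (Nat.totient_pos.2 hd0) (Nat.totient_dvd_of_dvd (hc.mul_dvd_of_dvd_of_dvd h4 (ho ▸ h3)))
    omega
  · obtain rfl := ho.symm.trans h4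
    exact ⟨g, hg1, hg, hg2⟩

theorem ord13 : orderOf (2 : ZMod 13) = 12 := by rw [orderOf_eq_iff (by norm_num)]; decide

theorem ord5 : orderOf (2 : ZMod 5) = 4 := by rw [orderOf_eq_iff (by norm_num)]; decide

theorem eval_two {n : Type*} [Fintype n] [DecidableEq n] (A : Matrix n n ℤ) :
    |A.charpoly.eval 2| = |(A - (2 : ℤ) • 1).det| := by
  rw [eval_charpoly, ← neg_sub, det_neg, smul_one_eq_diagonal, abs_mul, abs_pow, abs_neg, abs_one, one_pow, one_mul]
  rfl

theorem charpoly_eq {n : Type*} [Fintype n] [DecidableEq n] (hn : Fintype.card n = 8) {A : Matrix n n ℤ}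
    {N : ℕ} (hN : 0 < N) (h : A ^ N = 1) (h65 : |A.charpoly.eval 2| = 65) : A.charpoly = (Polynomial.X - 1) ^ 2 * (Polynomial.X ^ 6 + 1) := by
  have h1 := charpoly_dvd_of_pow_eq_one h
  have hdeg : A.charpoly.natDegree = 8 := by simp [hn]
  obtain ⟨g, g1, g2, g3⟩ := split A.charpoly_monic hN h1 (l := 13) (by norm_num) ord13 (by norm_num)
    (by rw [hdeg]; decide +kernel) ((dvd_abs _ _).1 (by rw [h65]; norm_num))
  rw [hdeg, show Nat.totient 12 = 4 by decide] at g3
  have h2 := (Dvd.intro_left _ g2.symm).trans h1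
  have h5 : |g.eval 2| = 5 := by
    rw [g2, eval_mul, cyc12, abs_mul] at h65
    norm_num at h65
    omega
  obtain ⟨u, u1, u2, u3⟩ := split g1 hN h2 (l := 5) (by norm_num) ord5 (by norm_num)
    (by rw [show Nat.totient (5 * 4) = 8 by decide]; omega) ((dvd_abs _ _).1 (by rw [h5]; norm_num))
  rw [show Nat.totient 4 = 2 by decide] at u3
  have h6 := (eval_bd u1 hN ((Dvd.intro_left _ u2.symm).trans h2)).2.2 (by
    rw [u2, eval_mul, cyc4, abs_mul] at h5
    norm_num at h5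
    omega)
  rw [g2, u2, h6, show u.natDegree = 2 by omega, cyc12, cyc4]
  ring

theorem fix_gen (D : ChevalleyDatum) [D.Good] (hc : Fintype.card D.Nd = 8) (hL : ∃ L, ∀ v, D.stRoot.lw L v = -v)
    {w : Equiv.Perm D.Rt} (hw : w ∈ D.stRoot.weyl) (h : (D.wm w - (2 : ℤ) • 1).det.natAbs = 65) : ∃ r, w r = r := by
  obtain ⟨L, hL⟩ := hL
  have hw₀ := D.stRoot.wd_mem_weyl L
  have h0 : D.wm (D.stRoot.wd L) = -1 := by
    ext i j
    change D.wl _ (Pi.single j 1) i = _
    rw [← lw_eq_wl, hL]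
    by_cases e : i = j <;> simp [e]
  generalize D.stRoot.wd L = w₀ at hw₀ h0
  have hN : D.wm w ^ orderOf w = 1 := by rw [← D.wm_pow hw, pow_orderOf_eq_one, wm_one]
  have he := charpoly_eq hc (orderOf_pos w) hN (by rw [eval_two, Int.abs_eq_natAbs, h]; rfl)
  have h2 : (D.wm w - 1) * (D.wm w ^ 6 + 1) = 0 := by
    have h1 := aeval_self_charpoly (D.wm w)
    rw [he] at h1
    simp only [map_mul, map_pow, map_sub, map_add, aeval_X, map_one] at h1
    rw [sq, mul_assoc, sub_mul, one_mul, sub_eq_zero] at h1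
    have h3 := congrArg (· * (D.wm w ^ 6 + 1)) (geom_sum_mul (D.wm w) (orderOf w))
    simp only [hN, sub_self, zero_mul, mul_assoc] at h3
    generalize (D.wm w - 1) * (D.wm w ^ 6 + 1) = v at h1 h3
    have h4 : ∀ i, D.wm w ^ i * v = v := fun i => by
      induction i with
      | zero => rw [pow_zero, one_mul]
      | succ i ih => rw [pow_succ, mul_assoc, h1, ih]
    rw [Finset.sum_mul] at h3
    simp only [h4, Finset.sum_const, Finset.card_range] at h3
    ext i j
    simpa [(orderOf_pos w).ne'] using congrFun (congrFun h3 i) j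
  have hR := mul_mem hw₀ (pow_mem hw 6)
  have h5 : D.wm (w₀ * w ^ 6) = -D.wm w ^ 6 := by
    rw [D.wm_mul hw₀ (pow_mem hw 6), h0, D.wm_pow hw, neg_mul, one_mul]
  have hA := geom_sum_mul (D.wm w) 6
  obtain ⟨r, hr⟩ := D.exists_root_neg_of_sq _ (D.stRoot_weyl ▸ hR) rfl
    (D.eq_one_of_wm (mul_mem hR hR) (by
      rw [D.wm_mul hR hR, h5, ← sub_eq_zero, ← mul_zero (∑ i ∈ Finset.range 6, D.wm w ^ i), ← h2, ← mul_assoc, hA]
      noncomm_ring))
    (fun e => by
      rw [e, wm_one, eq_comm, neg_eq_iff_eq_neg] at h5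
      have h6 := congrArg (eval 1) he
      rw [eval_charpoly, map_one, ← neg_sub, det_neg] at h6
      have h7 := congrArg det hA
      rw [h5, det_mul, show (D.wm w - 1).det = 0 by simpa using h6, mul_zero,
        show (-1 - 1 : Matrix D.Nd D.Nd ℤ) = (-2 : ℤ) • 1 by rw [neg_smul, two_smul, neg_add', ], det_smul,
        det_one] at h7
      exact absurd h7.symm (by positivity))
  have h8 : (D.wm w ^ 6).mulVec (D.wt r) = D.wt r := by
    rw [← neg_inj, ← neg_mulVec, ← h5, wm_mulVec, D.wl_wt hR, hr, wt_ng]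
  have := congrArg (·.mulVec (D.wt r)) h2
  simp only [← mulVec_mulVec, add_mulVec, h8, one_mulVec, zero_mulVec] at this
  rw [← two_smul ℤ, mulVec_smul, smul_eq_zero_iff_right two_ne_zero, sub_mulVec, sub_eq_zero, one_mulVec] at this
  exact ⟨r, D.wt_inj (by rw [← D.wl_wt hw, ← wm_mulVec, this])⟩

end TorB

open TorB

theorem fix_root {w : Equiv.Perm chevE8.Rt} (hw : w ∈ chevE8.stRoot.weyl)
    (h : (chevE8.wm w - (2 : ℤ) • 1).det.natAbs = 65) : ∃ r, w r = r :=
  fix_gen chevE8 (by decide) AS.neg_E8 hw h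

theorem det_four {n : Type*} [Fintype n] [DecidableEq n] (hn : Fintype.card n = 4) {A : Matrix n n ℤ}
    {N : ℕ} (hN : 0 < N) (h : A ^ N = 1) (h13 : (13 : ℤ) ∣ (A - (2 : ℤ) • 1).det) :
    ¬ (5 : ℤ) ∣ (A - (2 : ℤ) • 1).det := by
  have hdeg : A.charpoly.natDegree = 4 := by simp [hn]
  rw [← dvd_abs, ← eval_two] at h13 ⊢
  obtain ⟨g, g1, g2, g3⟩ := split A.charpoly_monic hN (charpoly_dvd_of_pow_eq_one h) (l := 13) (by norm_num) ord13
    (by norm_num) (by rw [hdeg]; decide +kernel) ((dvd_abs _ _).1 h13)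
  rw [hdeg, show Nat.totient 12 = 4 by decide] at g3
  rw [g2, g1.natDegree_eq_zero.1 (by omega), cyc12]
  norm_num

theorem det_three {n : Type*} [Fintype n] [DecidableEq n] (hn : Fintype.card n = 3) {A : Matrix n n ℤ}
    {N : ℕ} (hN : 0 < N) (h : A ^ N = 1) (h9 : (9 : ℤ) ∣ (A - (2 : ℤ) • 1).det) :
    ¬ (7 : ℤ) ∣ (A - (2 : ℤ) • 1).det := by
  have hdeg : A.charpoly.natDegree = 3 := by simp [hn]
  rw [← dvd_abs, ← eval_two] at h9 ⊢
  obtain ⟨h1, h2, -⟩ := eval_bd A.charpoly_monic hN (charpoly_dvd_of_pow_eq_one h)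
  rw [hdeg] at h2
  omega

end Cfsg.Agent.E82
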