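import Mathlib
import Cfsg.Agent.E82.TorB

/-!
# The action of a Weyl group element on the annihilator of a Levi subsystem
-/

set_option autoImplicit false

namespace Cfsg.Agent.E82

open Cfsg.Lie Cfsg.Lie.ChevalleyDatum Cfsg.Agent.Chev Cfsg.Agent.Chev.S2M Matrix MatrixGroups Polynomial Module

namespace Blk

variable {ι : Type*} [Fintype ι] [DecidableEq ι] (I : Finset ι)

omit [DecidableEq ι] in
theorem sum_eq (g : ι → ℤ) (h : ∀ j ∉ I, g j = 0) : ∑ j, g j = ∑ j : I, g j := by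
  rw [Finset.sum_coe_sort I g]
  exact (Finset.sum_subset (Finset.subset_univ I) fun j _ hj => h j hj).symm

theorem pow_blk {B : Matrix ι ι ℤ} (h : ∀ j ∉ I, ∀ i ∈ I, B j i = 0) (k : ℕ) :
    (∀ j ∉ I, ∀ i ∈ I, (B ^ k) j i = 0) ∧
      (B.submatrix Subtype.val Subtype.val : Matrix I I ℤ) ^ k =
        (B ^ k).submatrix Subtype.val Subtype.val := by
  induction k with
  | zero =>
    refine ⟨fun j hj i hi => ?_, ?_⟩
    · rw [pow_zero, Matrix.one_apply_ne]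
      rintro rfl
      exact hj hi
    · rw [pow_zero, pow_zero, Matrix.submatrix_one _ Subtype.val_injective]
  | succ k ih =>
    refine ⟨fun j hj i hi => ?_, ?_⟩
    · rw [pow_succ, Matrix.mul_apply]
      refine Finset.sum_eq_zero fun l _ => ?_
      by_cases hl : l ∈ I
      · rw [ih.1 j hj l hl, zero_mul]
      · rw [h l hl i hi, mul_zero]
    · ext a b
      rw [pow_succ, pow_succ, ih.2, Matrix.mul_apply, Matrix.submatrix_apply, Matrix.mul_apply,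
        sum_eq I _ fun l hl => by rw [h l hl b b.2, mul_zero]]
      rfl

theorem dvd_det {κ : Type*} [Fintype κ] [DecidableEq κ] {n : ℤ} (B : Matrix κ κ ℤ) (φ : κ → ℤ)
    (h : ∀ i, n ∣ (φ ᵥ* B) i) (i : κ) : n ∣ φ i * B.det := by
  have e : (φ ᵥ* B) ᵥ* B.adjugate = B.det • φ := by
    rw [Matrix.vecMul_vecMul, Matrix.mul_adjugate, Matrix.vecMul_smul, Matrix.vecMul_one]
  have e' := congrFun e i
  rw [Pi.smul_apply, smul_eq_mul, mul_comm] at e'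
  rw [← e', Matrix.vecMul, dotProduct]
  exact Finset.dvd_sum fun k _ => (h k).mul_right _

theorem wm_app (D : ChevalleyDatum) [D.Good] (w : Equiv.Perm D.Rt) (j i : D.Nd) :
    D.wm w j i = D.cw (w⁻¹ (D.sr j) : D.Rt) i := by
  change D.cw (w⁻¹ (D.sr j) : D.Rt) ⬝ᵥ _ = _
  simp

theorem blk0 (D : ChevalleyDatum) [D.Good] {n m : ℕ} (hm : m ∣ n) {w : Equiv.Perm D.Rt}
    (hw : w ∈ D.stRoot.weyl)
    {f : D.Lat →+ ℤ} (hf : ∀ v, (n : ℤ) ∣ f (D.wl w v) - 2 * f v) (hodd : Odd m)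
    (I : Finset D.Nd) (hI : ∀ r : D.Rt, (m : ℤ) ∣ f (D.wt r) → ∀ i ∈ I, D.cw r i = 0)
    (hJ : ∀ j ∉ I, (m : ℤ) ∣ f (D.wt (D.simple j))) :
    ∃ (A : Matrix I I ℤ) (N : ℕ), 0 < N ∧ A ^ N = 1 ∧ ∀ i : I,
      (n : ℤ) ∣ f (Pi.single i.1 1) * (A - (2 : ℤ) • 1).det := by
  have h0 : ∀ j ∉ I, ∀ i ∈ I, D.wm w j i = 0 := fun j hj i hi => by
    rw [wm_app]
    refine hI _ ?_ i hi
    have h1 := (Int.natCast_dvd_natCast.2 hm).trans (hf (D.wt (w⁻¹ (D.sr j) : D.Rt)))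
    rw [D.wl_wt hw, Equiv.Perm.coe_inv, Equiv.apply_symm_apply] at h1
    have h2 : (m : ℤ) ∣ 2 * f (D.wt (w⁻¹ (D.sr j) : D.Rt)) := by
      have := dvd_sub (hJ j hj) h1
      rwa [sr_val, sub_sub_cancel] at this
    have h3 : IsCoprime (m : ℤ) 2 := by
      obtain ⟨k, rfl⟩ := hodd
      exact ⟨1, -k, by push_cast; ring⟩
    exact h3.dvd_of_dvd_mul_left h2
  refine ⟨(D.wm w).submatrix Subtype.val Subtype.val, orderOf w, orderOf_pos w, ?_, ?_⟩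
  · rw [(pow_blk I h0 _).2, ← D.wm_pow hw, pow_orderOf_eq_one, wm_one,
      Matrix.submatrix_one _ Subtype.val_injective]
  · refine dvd_det _ (fun i : I => f (Pi.single i.1 1)) fun i => ?_
    have h1 := hf (Pi.single i.1 1)
    have e : D.wl w (Pi.single i.1 1) = ∑ k, D.wm w k i • (Pi.single k 1 : D.Lat) := by
      rw [← wm_mulVec]
      ext k
      simp [Finset.sum_apply, Pi.single_apply]
    rw [e, map_sum, sum_eq I _ fun k hk => by rw [h0 k hk i i.2, zero_smul, map_zero]] at h1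
    convert h1 using 1
    rw [Matrix.vecMul_sub, Matrix.vecMul_smul, Matrix.vecMul_one, Pi.sub_apply, Pi.smul_apply, smul_eq_mul,
      Matrix.vecMul, dotProduct]
    refine congrArg (· - _) (Finset.sum_congr rfl fun k _ => ?_)
    rw [map_zsmul, smul_eq_mul, mul_comm]
    rfl

end Blk

theorem blk {n m : ℕ} (hm : m ∣ n) {w : Equiv.Perm chevE8.Rt} (hw : w ∈ chevE8.stRoot.weyl)
    {f : chevE8.Lat →+ ℤ} (hf : ∀ v, (n : ℤ) ∣ f (chevE8.wl w v) - 2 * f v) (hodd : Odd m)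
    (I : Finset chevE8.Nd) (hI : ∀ r : chevE8.Rt, (m : ℤ) ∣ f (chevE8.wt r) → ∀ i ∈ I, chevE8.cw r i = 0)
    (hJ : ∀ j ∉ I, (m : ℤ) ∣ f (chevE8.wt (chevE8.simple j))) :
    ∃ (A : Matrix I I ℤ) (N : ℕ), 0 < N ∧ A ^ N = 1 ∧ ∀ i : I,
      (n : ℤ) ∣ f (Pi.single i.1 1) * (A - (2 : ℤ) • 1).det :=
  Blk.blk0 chevE8 hm hw hf hodd I hI hJ

theorem blk13 {w : Equiv.Perm chevE8.Rt} (hw : w ∈ chevE8.stRoot.weyl)
    {f : chevE8.Lat →+ ℤ} (hf : ∀ v, (65 : ℤ) ∣ f (chevE8.wl w v) - 2 * f v)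
    (I : Finset chevE8.Nd) (hc : I.card = 4)
    (hI : ∀ r : chevE8.Rt, (13 : ℤ) ∣ f (chevE8.wt r) → ∀ i ∈ I, chevE8.cw r i = 0)
    (hJ : ∀ j ∉ I, (13 : ℤ) ∣ f (chevE8.wt (chevE8.simple j)))
    (h0 : ∃ i ∈ I, ¬ (13 : ℤ) ∣ f (Pi.single i 1)) : ∀ i ∈ I, (5 : ℤ) ∣ f (Pi.single i 1) := by
  obtain ⟨A, N, hN, hA, h⟩ := blk (n := 65) (m := 13) (by norm_num) hw hf (by decide) I hI hJ
  obtain ⟨i0, hi0, h1⟩ := h0
  have h13 : (13 : ℤ) ∣ (A - (2 : ℤ) • 1).det :=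
    ((Int.prime_iff_natAbs_prime.2 (by norm_num) : Prime (13 : ℤ)).dvd_or_dvd
      (Dvd.dvd.trans (by norm_num) (h ⟨i0, hi0⟩))).resolve_left h1
  have h5 := det_four (by simpa using hc) hN hA h13
  intro i hi
  exact ((Int.prime_iff_natAbs_prime.2 (by norm_num) : Prime (5 : ℤ)).dvd_or_dvd
    (Dvd.dvd.trans (by norm_num) (h ⟨i, hi⟩))).resolve_right h5

theorem blk9 {w : Equiv.Perm chevE8.Rt} (hw : w ∈ chevE8.stRoot.weyl)
    {f : chevE8.Lat →+ ℤ} (hf : ∀ v, (63 : ℤ) ∣ f (chevE8.wl w v) - 2 * f v)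
    (I : Finset chevE8.Nd) (hc : I.card = 3)
    (hI : ∀ r : chevE8.Rt, (9 : ℤ) ∣ f (chevE8.wt r) → ∀ i ∈ I, chevE8.cw r i = 0)
    (hJ : ∀ j ∉ I, (9 : ℤ) ∣ f (chevE8.wt (chevE8.simple j)))
    (h0 : ∃ i ∈ I, ¬ (3 : ℤ) ∣ f (Pi.single i 1)) : ∀ i ∈ I, (7 : ℤ) ∣ f (Pi.single i 1) := by
  obtain ⟨A, N, hN, hA, h⟩ := blk (n := 63) (m := 9) (by norm_num) hw hf (by decide) I hI hJ
  obtain ⟨i0, hi0, h1⟩ := h0
  have h9 : (9 : ℤ) ∣ (A - (2 : ℤ) • 1).det := by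
    have h2 : IsCoprime ((3 : ℤ) ^ 2) (f (Pi.single i0 1)) :=
      ((Int.prime_three.coprime_iff_not_dvd).2 h1).pow_left
    exact h2.dvd_of_dvd_mul_left (Dvd.dvd.trans (by norm_num) (h ⟨i0, hi0⟩))
  have h7 := det_three (by simpa using hc) hN hA h9
  intro i hi
  exact ((Int.prime_iff_natAbs_prime.2 (by norm_num) : Prime (7 : ℤ)).dvd_or_dvd
    (Dvd.dvd.trans (by norm_num) (h ⟨i, hi⟩))).resolve_right h7

end Cfsg.Agent.E82
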