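import Mathlib
import Cfsg.Agent.E82.Defs
import Cfsg.Agent.FV.Irr

/-!
# The Lie bracket
-/

set_option autoImplicit false

namespace Cfsg.Agent.E82

open Cfsg.Lie Cfsg.Lie.ChevalleyDatum Cfsg.Agent.Chev Cfsg.Agent.Chev.S2M Matrix MatrixGroups Polynomial Module

namespace Br

open FV

variable {D : ChevalleyDatum} [hG : D.Good] {K : Type*} [Field K]

omit hG in
theorem lext {W : Type*} [AddCommGroup W] [Module K W] {f g : (D.Idx → K) →ₗ[K] W}
    (h1 : ∀ v, f (hp D v) = g (hp D v)) (h2 : ∀ s : D.Rt, f (D.eN K s) = g (D.eN K s)) : f = g :=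
  LinearMap.ext fun v => by
    rw [eq_hp_add v]
    simp only [map_add, map_sum, map_smul, h1, h2]

variable (D K) in
/-- The quadratic part of a root element. -/
noncomputable def Fr (r : D.Rt) : (D.Idx → K) →ₗ[K] (D.Idx → K) :=
  -(LinearMap.proj (R := K) (φ := fun _ : D.Idx => K) (Sum.inr (D.ng r))).smulRight (D.eN K r)

variable (D K) in
/-- The linear part of a root element. -/
noncomputable def Er (r : D.Rt) : (D.Idx → K) →ₗ[K] (D.Idx → K) :=
  (D.xR K r 1).mulVecLin - LinearMap.id - Fr D K r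

theorem Fr_apply (r : D.Rt) (v : D.Idx → K) : Fr D K r v = -(v (Sum.inr (D.ng r)) • D.eN K r) := rfl

theorem Er_apply (r : D.Rt) (v : D.Idx → K) :
    Er D K r v = D.xR K r 1 *ᵥ v - v + v (Sum.inr (D.ng r)) • D.eN K r := by
  rw [← sub_neg_eq_add]; rfl

theorem Fr_hp (r : D.Rt) (v : D.Idx → K) : Fr D K r (hp D v) = 0 := by simp [Fr_apply, hp_inr]

theorem Fr_ne {r s : D.Rt} (h : s ≠ D.ng r) : Fr D K r (D.eN K s) = 0 := by
  simp [Fr_apply, eN_inr, h.symm]

theorem Fr_ng (r : D.Rt) : Fr D K r (D.eN K (D.ng r)) = -D.eN K r := by simp [Fr_apply, eN_inr]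

theorem Er_hp (r : D.Rt) (v : D.Idx → K) : Er D K r (hp D v) = -(rt D r v • D.eN K r) := by
  rw [Er_apply, xR_mulVec_hp, hp_inr]
  module

theorem Er_self (r : D.Rt) : Er D K r (D.eN K r) = 0 := by
  rw [Er_apply, xR_mulVec_eN_self, eN_inr, if_neg (D.ng_ne r)]
  module

theorem Er_ng (r : D.Rt) : Er D K r (D.eN K (D.ng r)) = D.hV K (D.cw r) := by
  rw [Er_apply, xR_mulVec_eN_ng, eN_inr, if_pos rfl]
  module

theorem col (hl : ∀ r s : D.Rt, D.chainLen r s ≤ 1) {r s : D.Rt} (h1 : s ≠ r) (h2 : s ≠ D.ng r) (t : K) :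
    D.xR K r t *ᵥ D.eN K s =
      D.eN K s + t • (D.chainM r s 1 : K) • D.eN K ((D.chainRoot r s 1).getD 0) := by
  rw [D.xR_mulVec_eN_of_ne K h1 h2]
  have := hl r s
  unfold chainLen at this
  unfold chainM chainRoot
  rcases h : D.chainEntry r s with _ | ⟨q, _ | ⟨q', l⟩⟩
  · simp
  · simp [smul_smul, mul_comm]
  · simp [h] at this

theorem Er_ne (hl : ∀ r s : D.Rt, D.chainLen r s ≤ 1) {r s : D.Rt} (h1 : s ≠ r) (h2 : s ≠ D.ng r) :
    Er D K r (D.eN K s) = (D.chainM r s 1 : K) • D.eN K ((D.chainRoot r s 1).getD 0) := by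
  rw [Er_apply, col hl h1 h2, eN_inr, if_neg h2.symm]
  module

theorem expand (hl : ∀ r s : D.Rt, D.chainLen r s ≤ 1) (r : D.Rt) (t : K) (v : D.Idx → K) :
    D.xR K r t *ᵥ v = v + t • Er D K r v + t ^ 2 • Fr D K r v := by
  have : (D.xR K r t).mulVecLin = LinearMap.id + t • Er D K r + t ^ 2 • Fr D K r := by
    refine lext (fun v => ?_) fun s => ?_ <;>
      simp only [mulVecLin_apply, LinearMap.add_apply, LinearMap.id_apply, LinearMap.smul_apply]
    · rw [xR_mulVec_hp, Er_hp, Fr_hp]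
      module
    by_cases h1 : s = r
    · rw [h1, xR_mulVec_eN_self, Er_self, Fr_ne (D.ng_ne r).symm]
      module
    by_cases h2 : s = D.ng r
    · rw [h2, xR_mulVec_eN_ng, Er_ng, Fr_ng]
      module
    rw [col hl h1 h2, Er_ne hl h1 h2, Fr_ne h2]
    module
  exact LinearMap.congr_fun this v

variable (D K) in
/-- The bracket. -/
noncomputable def br : (D.Idx → K) →ₗ[K] (D.Idx → K) →ₗ[K] (D.Idx → K) :=
  LinearMap.mk₂ K (fun a b => (∑ s : D.Rt, a (Sum.inr s) • Er D K s b) +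
      ∑ s : D.Rt, (rt D s a * b (Sum.inr s)) • D.eN K s)
    (fun a a' b => by
      simp only [Pi.add_apply, rt_add, add_mul, add_smul, Finset.sum_add_distrib]; abel)
    (fun c a b => by
      simp only [Pi.smul_apply, rt_smul, smul_eq_mul, smul_add, Finset.smul_sum, smul_smul, mul_assoc])
    (fun a b b' => by
      simp only [Pi.add_apply, map_add, mul_add, add_smul, smul_add, Finset.sum_add_distrib]; abel)
    (fun c a b => by
      simp only [Pi.smul_apply, map_smul, smul_eq_mul, smul_add, Finset.smul_sum, smul_smul,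
        mul_left_comm _ c, mul_comm _ c])

theorem br_apply (a b : D.Idx → K) : br D K a b = (∑ s : D.Rt, a (Sum.inr s) • Er D K s b) +
    ∑ s : D.Rt, (rt D s a * b (Sum.inr s)) • D.eN K s := rfl

theorem br_eN (r : D.Rt) (b : D.Idx → K) : br D K (D.eN K r) b = Er D K r b := by
  simp [br_apply, rt, eN_inl, eN_inr]

theorem br_hp_eN (v : D.Idx → K) (r : D.Rt) : br D K (hp D v) (D.eN K r) = rt D r v • D.eN K r := by
  simp [br_apply, hp_inr, eN_inr, rt_hp]

theorem br_hp_hp (v w : D.Idx → K) : br D K (hp D v) (hp D w) = 0 := by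
  simp [br_apply, hp_inr]

omit hG in
theorem hp_hV (c : D.Lat) : hp D (D.hV K c) = D.hV K c :=
  hp_eq_self fun r h => h (D.hV_inr K c r)

theorem rt_hV (r : D.Rt) : rt D r (D.hV K (D.cw r)) = 2 := by
  have := congrArg (Int.cast : ℤ → K) ((D.pairing_eq_dot r r).symm.trans (hG.pairing_self r r.2))
  simpa [rt, hV_inl, dotProduct, mul_comm] using this

theorem anti (hl : ∀ r s : D.Rt, D.chainLen r s ≤ 1) (a b : D.Idx → K) : br D K a b = -br D K b a := by
  have : br D K = -(br D K).flip := by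
    refine lext (fun v => lext (fun w => ?_) fun s => ?_) fun r => lext (fun w => ?_) fun s => ?_ <;>
      simp only [LinearMap.neg_apply, LinearMap.flip_apply]
    · rw [br_hp_hp, br_hp_hp, neg_zero]
    · rw [br_hp_eN, br_eN, Er_hp, neg_neg]
    · rw [br_hp_eN, br_eN, Er_hp]
    rw [br_eN, br_eN]
    by_cases h1 : s = r
    · rw [h1, Er_self, neg_zero]
    by_cases h2 : s = D.ng r
    · have := Er_ng (K := K) (D.ng r)
      rw [ng_ng, cw_ng, hV_neg] at this
      rw [h2, Er_ng, this, neg_neg]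
    have h3 : r ≠ D.ng s := fun e => h2 (by rw [e, ng_ng])
    rw [Er_ne hl h1 h2, Er_ne hl (Ne.symm h1) h3, (D.pairOK h1 h2).root_symm, (D.pairOK h1 h2).antisymm]
    simp
  exact LinearMap.congr_fun₂ this a b

omit hG in
theorem coef [Infinite K] {a1 a2 a3 a4 : D.Idx → K}
    (h : ∀ u : K, u • a1 + u ^ 2 • a2 + u ^ 3 • a3 + u ^ 4 • a4 = 0) : a1 = 0 := funext fun i => by
  have : C (a1 i) * Polynomial.X ^ 1 + C (a2 i) * Polynomial.X ^ 2 + C (a3 i) * Polynomial.X ^ 3 +
      C (a4 i) * Polynomial.X ^ 4 = (0 : K[X]) :=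
    Polynomial.funext fun u => by
      have := congrFun (h u) i
      simp only [Pi.add_apply, Pi.smul_apply, smul_eq_mul, Pi.zero_apply] at this
      simp only [eval_add, eval_mul, eval_C, eval_pow, eval_X, eval_zero]
      linear_combination this
  have h1 := congrArg (fun p : K[X] => p.coeff 1) this
  simp only [coeff_add, coeff_C_mul_X_pow, coeff_zero] at h1
  simpa using h1

theorem comm (hL : D.stRoot.SL) (hl : ∀ r s : D.Rt, D.chainLen r s ≤ 1) {r s : D.Rt} (h1 : s ≠ r)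
    (h2 : s ≠ D.ng r) : ∃ (p : D.Rt) (c : K), Er D K r (D.eN K s) = c • D.eN K p ∧
      ∀ t u : K, D.xR K s u * D.xR K r t = D.xR K r t * D.xR K s u * D.xR K p (c * -t * u) := by
  have e := Er_ne (K := K) hl h1 h2
  have f := fun t u : K => D.wordR_comm K h1 h2 t u
  have := hl r s
  unfold chainLen at this
  unfold chainM chainRoot at e
  simp only [commWordR, D.commTerms_eq_of_sl hL h1 h2] at f
  rcases h : D.chainEntry r s with _ | ⟨q, _ | ⟨q', l⟩⟩
  · refine ⟨s, 0, by simpa [h] using e, fun t u => ?_⟩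
    simpa [h, wordR, xR_zero] using f t u
  · refine ⟨⟨q.1, hG.entry_lt r r.2 s q (by simp [h])⟩, q.2, by simpa [h] using e, fun t u => ?_⟩
    simpa [h, wordR, Matrix.mul_assoc] using f t u
  · simp [h] at this

variable [Infinite K] (hL : D.stRoot.SL) (hl : ∀ r s : D.Rt, D.chainLen r s ≤ 1)
include hL hl

theorem key {r s : D.Rt} (h1 : s ≠ r) (h2 : s ≠ D.ng r) (t : K) (b : D.Idx → K) :
    br D K (D.xR K r t *ᵥ D.eN K s) (D.xR K r t *ᵥ b) = D.xR K r t *ᵥ br D K (D.eN K s) b := by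
  obtain ⟨p, c, e, f⟩ := comm (K := K) hL hl h1 h2
  have k : ∀ w, Er D K s (D.xR K r (-t) *ᵥ w) -
      D.xR K r (-t) *ᵥ (Er D K s w + (c * t) • Er D K p w) = 0 := fun w => by
    refine coef (a2 := Fr D K s (D.xR K r (-t) *ᵥ w) - D.xR K r (-t) *ᵥ (Fr D K s w +
        (c * t) • Er D K s (Er D K p w) + (c * t) ^ 2 • Fr D K p w))
      (a3 := -(D.xR K r (-t) *ᵥ ((c * t) ^ 2 • Er D K s (Fr D K p w) + (c * t) • Fr D K s (Er D K p w))))
      (a4 := -(D.xR K r (-t) *ᵥ ((c * t) ^ 2 • Fr D K s (Fr D K p w)))) fun u => ?_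
    have := congrArg (· *ᵥ w) (f (-t) u)
    simp only [← mulVec_mulVec, neg_neg] at this
    rw [expand hl s u, expand hl s u, expand hl p] at this
    simp only [map_add, map_smul, mulVec_add, mulVec_smul] at this ⊢
    linear_combination (norm := module) this
  have i1 : ∀ w, D.xR K r (-t) *ᵥ (D.xR K r t *ᵥ w) = w := fun w => by
    rw [mulVec_mulVec, xR_add, neg_add_cancel, xR_zero, one_mulVec]
  have i2 : ∀ w, D.xR K r t *ᵥ (D.xR K r (-t) *ᵥ w) = w := fun w => by
    rw [mulVec_mulVec, xR_add, add_neg_cancel, xR_zero, one_mulVec]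
  have := sub_eq_zero.1 (k (D.xR K r t *ᵥ b))
  rw [i1] at this
  rw [br_eN, this, i2, expand hl r t (D.eN K s), Fr_ne h2, e, smul_zero, add_zero, smul_smul, map_add,
    map_smul, LinearMap.add_apply, LinearMap.smul_apply, br_eN, br_eN, mul_comm t]

theorem inv_xR (r : D.Rt) (t : K) (a b : D.Idx → K) :
    br D K (D.xR K r t *ᵥ a) (D.xR K r t *ᵥ b) = D.xR K r t *ᵥ br D K a b := by
  have sw : ∀ {a b}, br D K (D.xR K r t *ᵥ a) (D.xR K r t *ᵥ b) = D.xR K r t *ᵥ br D K a b →
      br D K (D.xR K r t *ᵥ b) (D.xR K r t *ᵥ a) = D.xR K r t *ᵥ br D K b a := fun {a b} h => by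
    rw [anti hl, h, anti hl b a, mulVec_neg]
  have n1 := Er_ng (K := K) (D.ng r)
  rw [ng_ng, cw_ng, hV_neg] at n1
  have n2 : Er D K r (D.hV K (D.cw r)) = -((2 : K) • D.eN K r) := by rw [← hp_hV, Er_hp, rt_hV]
  have n3 : Er D K (D.ng r) (D.hV K (D.cw r)) = (2 : K) • D.eN K (D.ng r) := by
    rw [← hp_hV, Er_hp, rt_ng, rt_hV, neg_smul, neg_neg]
  have n4 : ∀ v, br D K (hp D v) (D.hV K (D.cw r)) = 0 := fun v => by rw [← hp_hV, br_hp_hp]
  have he : ∀ (v) (s : D.Rt), br D K (D.xR K r t *ᵥ hp D v) (D.xR K r t *ᵥ D.eN K s) =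
      D.xR K r t *ᵥ br D K (hp D v) (D.eN K s) := fun v s => by
    by_cases h1 : s = r
    · rw [h1, br_hp_eN, mulVec_smul, xR_mulVec_hp, xR_mulVec_eN_self]
      simp only [map_sub, map_smul, LinearMap.sub_apply, LinearMap.smul_apply, br_eN, br_hp_eN, Er_self]
      module
    by_cases h2 : s = D.ng r
    · rw [h2, br_hp_eN, mulVec_smul, xR_mulVec_hp, xR_mulVec_eN_ng]
      simp only [map_sub, map_add, map_smul, LinearMap.sub_apply, LinearMap.smul_apply, br_eN, br_hp_eN,
        Er_self, Er_ng, n2, n4, rt_ng]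
      module
    exact sw (key hL hl h1 h2 t _)
  have pm : br D K (D.xR K r t *ᵥ D.eN K r) (D.xR K r t *ᵥ D.eN K (D.ng r)) =
      D.xR K r t *ᵥ br D K (D.eN K r) (D.eN K (D.ng r)) := by
    rw [br_eN, Er_ng, xR_mulVec_eN_self, xR_mulVec_eN_ng, ← hp_hV, xR_mulVec_hp, hp_hV, rt_hV]
    simp only [map_sub, map_add, map_smul, br_eN, Er_self, Er_ng, n2]
    module
  have : (br D K).compl₁₂ (D.xR K r t).mulVecLin (D.xR K r t).mulVecLin =
      (br D K).compr₂ (D.xR K r t).mulVecLin := by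
    refine lext (fun v => lext (fun w => ?_) fun s => ?_) fun s => lext (fun w => ?_) fun u => ?_ <;>
      simp only [LinearMap.compl₁₂_apply, LinearMap.compr₂_apply, mulVecLin_apply]
    · rw [br_hp_hp, xR_mulVec_hp, xR_mulVec_hp, mulVec_zero]
      simp only [map_sub, map_smul, LinearMap.sub_apply, LinearMap.smul_apply, br_eN, br_hp_eN, br_hp_hp,
        Er_self, Er_hp]
      module
    · exact he v s
    · exact sw (he w s)
    by_cases h1 : s ≠ r ∧ s ≠ D.ng r
    · exact key hL hl h1.1 h1.2 t _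
    by_cases h2 : u ≠ r ∧ u ≠ D.ng r
    · exact sw (key hL hl h2.1 h2.2 t _)
    rw [not_and_or, not_not, not_not] at h1 h2
    rcases h1 with h1 | h1 <;> rcases h2 with h2 | h2 <;> rw [h1, h2]
    · rw [xR_mulVec_eN_self, br_eN, Er_self, mulVec_zero]
    · exact pm
    · exact sw pm
    · have n5 : ∀ s : D.Rt, br D K (D.hV K (D.cw r)) (D.eN K s) = -Er D K s (D.hV K (D.cw r)) := fun s => by
        rw [anti hl, br_eN]
      have n6 := n4 (D.hV K (D.cw r))
      rw [hp_hV] at n6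
      rw [br_eN, Er_self, mulVec_zero, xR_mulVec_eN_ng]
      simp only [map_sub, map_add, map_smul, LinearMap.sub_apply, LinearMap.add_apply, LinearMap.smul_apply,
        br_eN, Er_self, Er_ng, n1, n2, n3, n5, n6]
      module
  exact LinearMap.congr_fun₂ this a b

theorem inv {g : GL D.Idx K} (hg : g ∈ D.group K) :
    ∀ a b, br D K (g.val *ᵥ a) (g.val *ᵥ b) = g.val *ᵥ br D K a b := by
  rw [group_eq_closure] at hg
  induction hg using Subgroup.closure_induction with
  | mem g h =>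
    obtain ⟨r, t, rfl⟩ := h
    rw [coe_X_eq_xR]
    exact inv_xR hL hl r t
  | one => simp
  | mul g h _ _ hg hh => simp only [Units.val_mul, ← mulVec_mulVec, hg, hh, implies_true]
  | inv g _ hg =>
    intro a b
    have := congrArg (g⁻¹.val *ᵥ ·) (hg (g⁻¹.val *ᵥ a) (g⁻¹.val *ᵥ b))
    simp only [mulVec_mulVec, Units.mul_inv, Units.inv_mul, one_mulVec] at this
    exact this.symm

end Br

open Br FV in
theorem exists_br : ∃ β, IsBr β := by
  refine ⟨br chevE8 K2, fun g hg => inv slE8 Irr.len_le hg, fun a b => ?_, br_hp_eN, br_hp_hp,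
    fun r => (br_eN _ _).trans (Er_ng r), fun r s h t => ?_⟩
  · rw [anti Irr.len_le]
    exact funext fun i => CharTwo.neg_eq _
  · rw [coe_X_eq_xR, expand Irr.len_le, Fr_ne h, smul_zero, add_zero, br_eN]

end Cfsg.Agent.E82
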