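import Mathlib
import Cfsg.Agent.E82.Defs

/-!
# Weights of the simple modules of `SL₂(64)`; semisimple elements
-/

set_option autoImplicit false

namespace Cfsg.Agent.E82

open Cfsg.Lie Cfsg.Lie.ChevalleyDatum Cfsg.Agent.Chev Cfsg.Agent.Chev.S2M Matrix MatrixGroups Polynomial Module

variable {F : Type*} [Field F] [Fintype F]

theorem Wt.tab1 : ∀ l < 64, ∀ j < 64, (j &&& l = j ↔ j ≤ l ∧ ¬ 2 ∣ l.descFactorial j / j.factorial) := by
  decide +kernel

theorem Wt.mem_js {l j : ℕ} : j ∈ js l ↔ j ≤ l ∧ j &&& l = j := by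
  simp [js]

theorem JJ_eq {l : ℕ} (h : l < 64) : (JJ K2 l).val = js l :=
  (Multiset.Nodup.ext (JJ K2 l).nodup (Multiset.coe_nodup.2 (List.nodup_range.filter _))).2 fun j => by
    rw [Finset.mem_val, mem_JJ, Multiset.mem_coe, Ne, CharP.cast_eq_zero_iff K2 2,
      Nat.choose_eq_descFactorial_div_factorial]
    change _ ↔ j ∈ js l
    rw [Wt.mem_js]
    exact ⟨fun k => ⟨k.1, (Wt.tab1 l h j (by omega)).2 k⟩, fun k => (Wt.tab1 l h j (by omega)).1 k.2⟩

namespace Wt

theorem tab2 : ∀ l < 64, 4095 + l ∈ wts l ∧ (∀ w ∈ wts l, w ≤ 4095 + l ∧ 4095 ≤ w + l) ∧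
    ((wts l).map (8190 - ·)).Perm (wts l) := by decide +kernel

theorem bind_inj {A B : Multiset ℕ} (hA : ∀ l ∈ A, l < 64) (hB : ∀ l ∈ B, l < 64) (h : WW A = WW B) : A = B := by
  induction hn : (A + B).card using Nat.strong_induction_on generalizing A B with
  | _ n ih =>
    by_cases h0 : A + B = 0
    · rw [(add_eq_zero.1 h0).1, (add_eq_zero.1 h0).2]
    obtain ⟨l, h1, h2⟩ := (A + B).exists_max_image id h0
    have h3 : ∀ {A B : Multiset ℕ}, (∀ l ∈ A, l < 64) → (∀ l ∈ B, l < 64) →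
        WW A = WW B → (∀ k ∈ B, k ≤ l) → l ∈ A → l ∈ B := fun {A B} hA hB h h2 h1 => by
      have h5 : 4095 + l ∈ WW A := Multiset.mem_bind.2 ⟨l, h1, (tab2 l (hA l h1)).1⟩
      obtain ⟨k, h3, h4⟩ := Multiset.mem_bind.1 (h ▸ h5 : 4095 + l ∈ WW B)
      have := ((tab2 k (hB k h3)).2.1 _ h4).1
      have := h2 k h3
      rwa [show l = k by omega]
    have h4 : l ∈ A ∧ l ∈ B := (Multiset.mem_add.1 h1).elim
      (fun e => ⟨e, h3 hA hB h (fun k hk => h2 k (by simp [hk])) e⟩)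
      fun e => ⟨h3 hB hA h.symm (fun k hk => h2 k (by simp [hk])) e, e⟩
    obtain ⟨A, rfl⟩ := Multiset.exists_cons_of_mem h4.1
    obtain ⟨B, rfl⟩ := Multiset.exists_cons_of_mem h4.2
    rw [WW, WW, Multiset.cons_bind, Multiset.cons_bind, add_right_inj] at h
    rw [ih (A + B).card (by simp at hn ⊢; omega) (fun k hk => hA k (by simp [hk])) (fun k hk => hB k (by simp [hk]))
      h rfl]

theorem WW_bd {A : Multiset ℕ} (hA : ∀ l ∈ A, l < 64) :
    (∀ w ∈ WW A, w ≤ 4158 ∧ 4032 ≤ w) ∧ (WW A).map (8190 - ·) = WW A := by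
  refine ⟨fun w hw => ?_, ?_⟩
  · obtain ⟨l, h1, h2⟩ := Multiset.mem_bind.1 hw
    have := (tab2 l (hA l h1)).2.1 w h2
    have := hA l h1
    omega
  · rw [WW, Multiset.map_bind]
    exact Multiset.bind_congr fun l hl => by
      rw [Multiset.map_coe]; exact Multiset.coe_eq_coe.2 (tab2 l (hA l hl)).2.2

theorem key {A : Multiset ℕ} (hA : ∀ w ∈ A, w ≤ 4158 ∧ 4032 ≤ w) (sA : A.map (8190 - ·) = A) :
    (∀ k ≤ 63, A.count (4095 - k) = A.count (4095 + k)) ∧ (A.map (· % 65)).count 0 = A.count (4095 + 0) ∧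
      (A.map (· % 65)).count 1 = A.count (4095 + 1) ∧
      (∀ k < 63, k ≠ 0 → (A.map (· % 63)).count k = A.count (4095 + k) + A.count (4095 + (63 - k))) ∧
      ∀ k < 64, 2 ≤ k → (A.map (· % 65)).count k = A.count (4095 + k) + A.count (4095 + (65 - k)) := by
  have h3 : ∀ k ≤ 63, A.count (4095 - k) = A.count (4095 + k) := fun k hk => by
    conv_lhs => rw [← sA]
    rw [Kac.count_map_eq {4095 + k} (by simp; omega) fun w hw e => by have := hA w hw; simp; omega]
    simp
  refine ⟨h3, ?_, ?_, fun k hk hk' => ?_, fun k hk hk' => ?_⟩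
  · rw [Kac.count_map_eq {4095 + 0} ?_ fun w hw e => ?_, Finset.sum_singleton]
    all_goals
      try have := hA w hw
      simp only [Finset.mem_singleton, forall_eq]
      try omega
  · rw [Kac.count_map_eq {4095 + 1} ?_ fun w hw e => ?_, Finset.sum_singleton]
    all_goals
      try have := hA w hw
      simp only [Finset.mem_singleton, forall_eq]
      try omega
  · rw [Kac.count_map_eq {4095 + k, 4095 - (63 - k)} ?_ fun w hw e => ?_, Finset.sum_pair (by omega),
      h3 _ (by omega)]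
    all_goals
      try have := hA w hw
      simp only [Finset.mem_insert, Finset.mem_singleton, forall_eq_or_imp, forall_eq]
      omega
  · rw [Kac.count_map_eq {4095 + k, 4095 - (65 - k)} ?_ fun w hw e => ?_, Finset.sum_pair (by omega),
      h3 _ (by omega)]
    all_goals
      try have := hA w hw
      simp only [Finset.mem_insert, Finset.mem_singleton, forall_eq_or_imp, forall_eq]
      omega

theorem eq_of_mod {A B : Multiset ℕ} (hA : ∀ w ∈ A, w ≤ 4158 ∧ 4032 ≤ w) (hB : ∀ w ∈ B, w ≤ 4158 ∧ 4032 ≤ w)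
    (sA : A.map (8190 - ·) = A) (sB : B.map (8190 - ·) = B) (h1 : A.map (· % 63) = B.map (· % 63))
    (h2 : A.map (· % 65) = B.map (· % 65)) : A = B := by
  obtain ⟨a1, a2, a3, a4, a5⟩ := key hA sA
  obtain ⟨b1, b2, b3, b4, b5⟩ := key hB sB
  rw [h1] at a4
  rw [h2] at a2 a3 a5
  have h4 : ∀ j < 32, A.count (4095 + (2 * j + 1)) = B.count (4095 + (2 * j + 1)) := fun j hj => by
    induction j with
    | zero => exact a3.symm.trans b3
    | succ j ih =>
      have := ih (by omega)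
      have := a4 (2 * j + 1) (by omega) (by omega)
      have := b4 (2 * j + 1) (by omega) (by omega)
      have c1 := a5 (63 - (2 * j + 1)) (by omega) (by omega)
      have c2 := b5 (63 - (2 * j + 1)) (by omega) (by omega)
      rw [show 65 - (63 - (2 * j + 1)) = 2 * (j + 1) + 1 by omega] at c1 c2
      omega
  have h3 : ∀ k ≤ 63, A.count (4095 + k) = B.count (4095 + k) := fun k hk => by
    obtain ⟨j, rfl | rfl⟩ := k.even_or_odd'
    · rcases eq_or_ne j 0 with rfl | h
      · exact a2.symm.trans b2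
      · have c1 := a4 (2 * j) (by omega) (by omega)
        have c2 := b4 (2 * j) (by omega) (by omega)
        have := h4 (31 - j) (by omega)
        rw [show 63 - 2 * j = 2 * (31 - j) + 1 by omega] at c1 c2
        omega
    · exact h4 j (by omega)
  refine Multiset.ext.2 fun w => ?_
  by_cases hw : w ≤ 4158 ∧ 4032 ≤ w
  · rcases le_total w 4095 with h | h
    · rw [show w = 4095 - (4095 - w) by omega, a1 _ (by omega), b1 _ (by omega), h3 _ (by omega)]
    · rw [show w = 4095 + (w - 4095) by omega, h3 _ (by omega)]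
  · rw [Multiset.count_eq_zero.2 fun h => hw (hA w h), Multiset.count_eq_zero.2 fun h => hw (hB w h)]

end Wt

theorem WW_inj {A B : Multiset ℕ} (hA : ∀ l ∈ A, l < 64) (hB : ∀ l ∈ B, l < 64)
    (h1 : (WW A).map (· % 63) = (WW B).map (· % 63)) (h2 : (WW A).map (· % 65) = (WW B).map (· % 65)) :
    A = B :=
  Wt.bind_inj hA hB (Wt.eq_of_mod (Wt.WW_bd hA).1 (Wt.WW_bd hB).1 (Wt.WW_bd hA).2 (Wt.WW_bd hB).2 h1 h2)

/-- The Frobenius twist on highest weights. -/
def rot (l : ℕ) : ℕ := if l = 63 then 63 else 2 * l % 63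

theorem Wt.tab3 : ∀ l < 64, rot l < 64 ∧
    ∀ n ∈ [63, 65], ((wts (rot l)).map (· % n)).Perm ((wts l).map (2 * · % n)) := by decide +kernel

theorem rot_inv {A : Multiset ℕ} (hA : ∀ l ∈ A, l < 64)
    (h : ∀ n ∈ [63, 65], (WW A).map (2 * · % n) = (WW A).map (· % n)) : A.map rot = A := by
  have k : ∀ n ∈ [63, 65], (WW (A.map rot)).map (· % n) = (WW A).map (· % n) := fun n hn => by
    rw [← h n hn, WW, WW, Multiset.bind_map, Multiset.map_bind, Multiset.map_bind]
    exact Multiset.bind_congr fun l hl => by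
      rw [Multiset.map_coe, Multiset.map_coe]; exact Multiset.coe_eq_coe.2 ((Wt.tab3 l (hA l hl)).2 n hn)
  refine WW_inj (fun l hl => ?_) hA (k 63 (by simp)) (k 65 (by simp))
  obtain ⟨m, hm, rfl⟩ := Multiset.mem_map.1 hl
  exact (Wt.tab3 m (hA m hm)).1

theorem Wt.charTwo (hF : Fintype.card F = 64) : CharP F 2 :=
  (CharP.charP_iff_prime_eq_zero Nat.prime_two).2 (by
    have h := FiniteField.cast_card_eq_zero F
    rw [hF, show (64 : ℕ) = 2 ^ 6 by norm_num, Nat.cast_pow] at h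
    exact pow_eq_zero_iff (by norm_num) |>.1 h)

theorem exists_elt (ι : F →+* K2) (hF : Fintype.card F = 64) {n : ℕ} (h1 : 1 < n) (hn : n ∣ 63 ∨ n ∣ 65)
    {ξ : K2} (hξ : IsPrimitiveRoot ξ n) : ∃ g : SL(2, F), Eig ι g ξ ∧ orderOf g = n := by
  have := Wt.charTwo hF
  have := Fact.mk Nat.prime_two
  have ho : n.Coprime 2 := hn.elim (fun h => Nat.Coprime.coprime_dvd_left h (by norm_num))
    fun h => Nat.Coprime.coprime_dvd_left h (by norm_num)
  have h0 : ξ ≠ 0 := hξ.ne_zero (by omega)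
  have h2 : ξ ^ 2 ≠ 1 := fun e => by
    have := ho.eq_one_of_dvd ((hξ.pow_eq_one_iff_dvd 2).1 e)
    omega
  obtain ⟨g, hg⟩ := Kac.exists_eig (ι := ι) h0 h2 2 (by
    rw [hF]
    refine hn.imp (fun h => ?_) fun h => eq_inv_of_mul_eq_one_left ?_
    · rw [pow_succ, (hξ.pow_eq_one_iff_dvd _).2 h, one_mul]
    · rw [← pow_succ, (hξ.pow_eq_one_iff_dvd _).2 h])
  refine ⟨g, hg, Nat.dvd_antisymm (orderOf_dvd_of_pow_eq_one ?_) ?_⟩
  · have h3 := (Kac.eig_center (Kac.eig_pow hg n)).2 (by rw [hξ.pow_eq_one, one_pow])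
    obtain ⟨r, h4, h5⟩ := Matrix.SpecialLinearGroup.mem_center_iff.1 h3
    rw [Fintype.card_fin, sq_eq_one_iff, CharTwo.neg_eq, or_self] at h4
    subst h4
    exact Subtype.ext (h5.symm.trans (map_one _))
  · have h3 := (Kac.eig_center (Kac.eig_pow hg (orderOf g))).1 (by rw [pow_orderOf_eq_one]; exact one_mem _)
    rw [← pow_mul] at h3
    exact ho.dvd_of_dvd_mul_right ((hξ.pow_eq_one_iff_dvd _).1 h3)

theorem exists_root {n : ℕ} (hn : Odd n) : ∃ ξ : K2, IsPrimitiveRoot ξ n := by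
  have : NeZero (n : K2) := ⟨fun h => (Nat.not_even_iff_odd.2 hn) (even_iff_two_dvd.2
    ((CharP.cast_eq_zero_iff K2 2 n).1 h))⟩
  exact HasEnoughRootsOfUnity.exists_primitiveRoot K2 n

end Cfsg.Agent.E82
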