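import Mathlib
import Cfsg.Agent.E82.Wt

/-!
# Composition factors of modules of `SL₂(64)`
-/

set_option autoImplicit false
set_option linter.unusedSectionVars false

namespace Cfsg.Agent.E82

namespace Mod

open Cfsg.Agent.Chev Cfsg.Agent.Chev.S2M Polynomial Matrix MatrixGroups Module

section

variable {F K : Type*} [Field F] [Fintype F] [Field K] (ι : F →+* K) [IsAlgClosed K] (p : ℕ) [hp : Fact p.Prime]
  [CharP F p]

theorem exists_phi [CharP K p] {W : Type*} [AddCommGroup W] [Module K W] [FiniteDimensional K W]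
    [Nontrivial W] (σ : Representation K SL(2, F) W)
    (hs : ∀ N : Submodule K W, (∀ g, N ≤ N.comap (σ g)) → N = ⊥ ∨ N = ⊤) :
    ∃ l < Fintype.card F, ∃ Φ : W →ₗ[K] (SL(2, F) → K), Function.Injective Φ ∧
      (∀ g w h, Φ (σ g w) h = Φ w (h * g)) ∧ LinearMap.range Φ = LL ι l := by
  classical
  obtain ⟨φ, l, h1, h2, h3, h4⟩ := exists_form ι p σ
  let Φ : W →ₗ[K] (SL(2, F) → K) := LinearMap.pi fun h => φ ∘ₗ σ h
  have h5 : ∀ g w h, Φ (σ g w) h = Φ w (h * g) := fun g w h => by simp [Φ]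
  have h6 : Function.Injective Φ := LinearMap.ker_eq_bot.1 ((hs (LinearMap.ker Φ) fun g w hw =>
    show Φ (σ g w) = 0 from _root_.funext fun h => (h5 g w h).trans
      (congrFun (LinearMap.mem_ker.1 hw) _)).resolve_right fun e => h1 (LinearMap.ext fun w => by
      have h6 : Φ w = 0 := LinearMap.mem_ker.1 (e ▸ Submodule.mem_top)
      simpa [Φ] using congrFun h6 1))
  have h7 : ∀ w a x h, Φ w (bb a x * h) = ι a ^ l * Φ w h := fun w a x h => by simp [Φ, h4]
  suffices ∃ k < Fintype.card F, ∃ w, Φ w = lf ι ![1, 0] ^ k by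
    obtain ⟨k, hk, w, hw⟩ := this
    have h8 : LL ι k ≤ LinearMap.range Φ := LL_le ι (c := ![1, 0]) (d := ![0, 1]) (by simp) fun j hj =>
      mem_of_interp ι (LinearMap.range Φ) (lf ι ![1, 0]) (lf ι ![0, 1]) hk
        (fun s => ⟨σ (nn 0 * bb (-1) s * nn 0) w, _root_.funext fun h => by
          rw [h5, hw]
          simp [lf_10, lf_01, coe_nn, coe_bb, mul_apply, add_comm, mul_comm]⟩) (mem_JJ.1 hj).2
    refine ⟨k, hk, Φ, h6, h5, le_antisymm ?_ h8⟩
    rw [LinearMap.range_le_iff_comap]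
    refine (hs _ fun g v hv => ?_).resolve_left fun e => ?_
    · have := Submodule.mem_map_of_mem (f := LinearMap.funLeft K K (· * g)) (Submodule.mem_comap.1 hv)
      rw [LL, Submodule.map_span] at this
      rw [Submodule.mem_comap, Submodule.mem_comap, _root_.funext (h5 g v)]
      refine Submodule.span_mono ?_ this
      rintro _ ⟨_, ⟨c, rfl⟩, rfl⟩
      exact ⟨g.1.map ι *ᵥ c, _root_.funext fun h => by simp [lf_mul]⟩
    · have h9 : w ∈ (LL ι k).comap Φ := by
        rw [Submodule.mem_comap, hw]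
        exact Submodule.subset_span (Set.mem_range_self _)
      rw [e, Submodule.mem_bot] at h9
      simpa [h9, lf_10, coe_nn] using congrFun hw (nn 0)
  have key : ∀ w k, k < Fintype.card F → ∀ A : K, A ≠ 0 → Φ w = A • lf ι ![1, 0] ^ k →
      ∃ k < Fintype.card F, ∃ w, Φ w = lf ι ![1, 0] ^ k := fun w k hk A hA e =>
    ⟨k, hk, A⁻¹ • w, by rw [map_smul, e, inv_smul_smul₀ hA]⟩
  obtain ⟨w, hw, h8⟩ := exists_fix p σ
  have h9 : ∀ h x, Φ w (h * bb 1 x) = Φ w h := fun h x => by rw [← h5, h8]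
  have h10 : ∀ a x, Φ w (bb a x) = ι a ^ l * Φ w 1 := fun a x => by rw [← h7, mul_one]
  have h11 : ∀ y t : F, nn y * bb 1 t = nn (y + t) := fun y t => Subtype.ext (by simp [coe_nn, coe_bb, add_comm])
  have h12 : ∀ a x y, Φ w (bb a x * nn y) = ι a ^ l * Φ w (nn 0) := fun a x y => by
    rw [h7, ← zero_add y, ← h11, h9]
  by_cases hA : ∑ t, Φ w (nn t * nn 0) = 0
  swap
  · refine key (∑ t, σ (bb 1 t * nn 0) w) l h3 _ hA (_root_.funext fun h => ?_)
    simp only [map_sum, Finset.sum_apply, h5]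
    rcases bruhat h with ⟨a, x, rfl⟩ | ⟨a, x, y, rfl⟩
    · simp only [h7]
      have : (Fintype.card F : K) = 0 := by rw [← map_natCast ι, FiniteField.cast_card_eq_zero, map_zero]
      simp [lf_10, coe_bb, h2.ne', this]
    · simp only [mul_assoc, h7, ← mul_assoc (nn y), h11, ← Finset.mul_sum]
      rw [show ∑ t, Φ w (nn (y + t) * nn 0) = _ from
        Equiv.sum_comp (Equiv.addLeft y) fun t => Φ w (nn t * nn 0)]
      simp [lf_10, coe_bb, coe_nn, mul_comm]
  have h13 : ∀ t : F, Φ w (nn t * nn 0) = ι t ^ l * Φ w (nn 0) +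
      if t = 0 then (-1) ^ l * Φ w 1 else 0 := fun t => by
    split_ifs with ht
    · rw [ht, show nn 0 * nn 0 = bb (-1) (0 : F) from Subtype.ext (by simp [coe_nn, coe_bb]), h10]
      simp [h2.ne']
    · rw [show nn t * nn 0 = bb (.mk0 t ht) (-1) * nn (-t⁻¹) from Subtype.ext (by simp [coe_nn, coe_bb, ht]), h12]
      simp
  simp only [h13, Finset.sum_add_distrib, ← Finset.sum_mul, ← map_pow, ← map_sum,
    Finset.sum_ite_eq', Finset.mem_univ, if_true] at hA
  have h14 : Φ w ≠ 0 := fun e => hw (h6 (e.trans (map_zero Φ).symm))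
  by_cases hl : l < Fintype.card F - 1
  · rw [FiniteField.sum_pow_lt_card_sub_one F l hl] at hA
    have h15 : Φ w 1 = 0 := by simpa using hA
    have h16 : Φ w = Φ w (nn 0) • lf ι ![1, 0] ^ l := _root_.funext fun h => by
      rcases bruhat h with ⟨a, x, rfl⟩ | ⟨a, x, y, rfl⟩
      · rw [h10]; simp [h15, lf_10, coe_bb, h2.ne']
      · rw [h12]; simp [lf_10, coe_bb, coe_nn, mul_comm]
    exact key w l h3 _ (fun e => h14 (by rw [h16, e, zero_smul])) h16
  · obtain rfl : l = Fintype.card F - 1 := by omega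
    have h15 : ∀ a : Fˣ, ι a ^ (Fintype.card F - 1) = 1 := fun a => by
      rw [← map_pow, FiniteField.pow_card_sub_one_eq_one _ a.ne_zero, map_one]
    have h17 : ∑ t : F, t ^ (Fintype.card F - 1) = -1 := by
      have := FiniteField.sum_pow_units F (Fintype.card F - 1)
      rw [if_pos dvd_rfl] at this
      rw [← this, ← Finset.sum_subset (Finset.subset_univ (Finset.univ.map ⟨Units.val, Units.val_injective⟩))
        fun t _ ht => ?_, Finset.sum_map]
      · rfl
      · rw [show t = 0 from by_contra fun e => ht (Finset.mem_map.2 ⟨.mk0 t e, Finset.mem_univ _, rfl⟩), zero_pow h2.ne']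
    have h16 : Φ w = Φ w 1 • lf ι ![1, 0] ^ 0 := _root_.funext fun h => by
      rcases bruhat h with ⟨a, x, rfl⟩ | ⟨a, x, y, rfl⟩
      · rw [h10, h15]; simp
      · have := h15 (-1)
        rw [h12, h15]
        simp only [Units.val_neg, Units.val_one, map_neg, map_one] at this
        rw [h17, this] at hA
        simpa [neg_add_eq_zero] using hA
    exact key w 0 (by omega) _ (fun e => h14 (by rw [h16, e, zero_smul])) h16

end

variable {F K : Type*} [Field F] [Field K] {ι : F →+* K} {g : SL(2, F)} {η : K}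

theorem eig_inv (h : Eig ι g η) : Eig ι g⁻¹ η := by
  obtain ⟨h0, c, d, h1, h2, h3⟩ := h
  have k : ∀ {v : Fin 2 → K} {a : K}, a ≠ 0 → g.1.map ι *ᵥ v = a • v → (g⁻¹).1.map ι *ᵥ v = a⁻¹ • v :=
    fun {v a} ha e => by
      have e1 : (g⁻¹).1.map ι *ᵥ (g.1.map ι *ᵥ v) = v := by
        rw [mulVec_mulVec, ← Matrix.map_mul, show (g⁻¹).1 * g.1 = (g⁻¹ * g).1 from rfl, inv_mul_cancel]
        simp
      rw [e, mulVec_smul] at e1
      rw [eq_inv_smul_iff₀ ha, e1]
  exact ⟨h0, d, c, fun e => h1 (by linear_combination -e), by simpa using k (inv_ne_zero h0) h3, k h0 h2⟩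

theorem eig_one : Eig ι 1 1 := ⟨one_ne_zero, ![1, 0], ![0, 1], by simp, by simp, by simp⟩

theorem eq_one (h : Eig ι g 1) : g = 1 := by
  obtain ⟨-, c, d, h1, h2, h3⟩ := h
  have h4 := sub_ne_zero.2 h1
  have a0 := congrFun h2 0
  have a1 := congrFun h2 1
  have b0 := congrFun h3 0
  have b1 := congrFun h3 1
  simp only [mulVec, dotProduct, Fin.sum_univ_two, map_apply, Pi.smul_apply, smul_eq_mul, inv_one] at a0 a1 b0 b1
  have e0 : ι (g.1 0 0) = 1 := mul_right_cancel₀ h4 (by linear_combination d 1 * a0 - c 1 * b0)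
  have e1 : ι (g.1 1 1) = 1 := mul_right_cancel₀ h4 (by linear_combination c 0 * b1 - d 0 * a1)
  have e2 : ι (g.1 0 1) = 0 := mul_right_cancel₀ h4 (by linear_combination c 0 * b0 - d 0 * a0)
  have e3 : ι (g.1 1 0) = 0 := mul_right_cancel₀ h4 (by linear_combination d 1 * a1 - c 1 * b1)
  rw [map_eq_one_iff ι ι.injective] at e0 e1
  rw [map_eq_zero] at e2 e3
  refine Subtype.ext (Matrix.ext fun i j => ?_)
  fin_cases i <;> fin_cases j
  exacts [e0, e2, e3, e1]

theorem charpoly_dual {V : Type*} [AddCommGroup V] [Module K V] [FiniteDimensional K V] (f : V →ₗ[K] V) :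
    (Dual.transpose (R := K) f).charpoly = f.charpoly := by
  let b := Module.finBasis K V
  rw [← LinearMap.charpoly_toMatrix _ b.dualBasis, LinearMap.toMatrix_transpose, charpoly_transpose,
    LinearMap.charpoly_toMatrix]

end Mod

open Cfsg.Lie Cfsg.Lie.ChevalleyDatum Cfsg.Agent.Chev Cfsg.Agent.Chev.S2M Matrix MatrixGroups Polynomial Module

variable {F : Type*} [Field F] [Fintype F] {ι : F →+* K2} {M : Type} [AddCommGroup M] [Module K2 M]
  [FiniteDimensional K2 M] {σ : Representation K2 SL(2, F) M}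

theorem exists_model (ι : F →+* K2) (hF : Fintype.card F = 64) [Nontrivial M]
    (hs : ∀ N : Submodule K2 M, (∀ g, N ≤ N.comap (σ g)) → N = ⊥ ∨ N = ⊤) : ∃ l, Model ι σ l := by
  have := RingHom.charP ι ι.injective 2
  obtain ⟨l, h1, h2⟩ := Mod.exists_phi ι 2 σ hs
  exact ⟨l, hF ▸ h1, h2⟩

theorem Model.ch (hF : Fintype.card F = 64) {l : ℕ} (h : Model ι σ l) : Ch ι σ {l} := by
  obtain ⟨h0, Φ, h1, h2, h3⟩ := h
  refine ⟨by simpa using h0, fun g η hg => ?_⟩
  rw [Multiset.map_singleton, Multiset.prod_singleton]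
  exact charpoly_of_range ι σ Φ h1 h2 (hF ▸ h0) h3 hg

theorem Ch.add {N : Submodule K2 M} {hN : ∀ g, N ≤ N.comap (σ g)} {A B : Multiset ℕ}
    (hA : Ch ι (σ.subrepresentation N hN) A) (hB : Ch ι (σ.quotient N hN) B) : Ch ι σ (A + B) :=
  ⟨fun l hl => (Multiset.mem_add.1 hl).elim (hA.1 l) (hB.1 l), fun g η h => by
    rw [Multiset.map_add, Multiset.prod_add, ← hA.2 g η h, ← hB.2 g η h]
    exact charpoly_mul _ N (hN g)⟩

theorem Ch.dual {A : Multiset ℕ} (h : Ch ι σ A) : Ch ι σ.dual A :=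
  ⟨h.1, fun g η hg => by rw [Representation.dual_apply, Mod.charpoly_dual, h.2 _ η (Mod.eig_inv hg)]⟩

theorem Ch.roots {A : Multiset ℕ} (h : Ch ι σ A) {g : SL(2, F)} {η : K2} (hg : Eig ι g η)
    (hη : η ^ 4095 = 1) : (σ g).charpoly.roots = (WW A).map (η ^ ·) := by
  rw [h.2 g η hg, ← roots_multiset_prod_X_sub_C ((WW A).map (η ^ ·)), WW, Multiset.map_bind, Multiset.map_bind,
    Multiset.prod_bind]
  congr 2
  refine Multiset.map_congr rfl fun l hl => ?_
  have hl' := h.1 l hl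
  rw [wts, ← Multiset.map_coe, ← JJ_eq hl', Multiset.map_map, Multiset.map_map, Finset.prod_eq_multiset_prod]
  congr 1
  refine Multiset.map_congr rfl fun j hj => ?_
  have hj' := (mem_JJ.1 hj).1
  simp only [Function.comp_apply]
  rw [show 4095 + l - 2 * j = 4095 - j + (l - j) by omega, pow_add, inv_pow,
    inv_eq_of_mul_eq_one_left (a := η ^ (4095 - j)) (b := η ^ j) (by rw [← pow_add, Nat.sub_add_cancel (by omega), hη])]

theorem Ch.finrank_eq {A : Multiset ℕ} (h : Ch ι σ A) : finrank K2 M = (WW A).card := by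
  rw [← (σ 1).charpoly_natDegree, (IsAlgClosed.splits _).natDegree_eq_card_roots, h.roots Mod.eig_one (one_pow _),
    Multiset.card_map]

theorem Ch.finrank_eig {A : Multiset ℕ} (h : Ch ι σ A) {n : ℕ} (hn : n ∣ 4095) {g : SL(2, F)} {ξ : K2}
    (hξ : IsPrimitiveRoot ξ n) (hg : Eig ι g ξ) (k : ℕ) :
    finrank K2 (End.eigenspace (σ g) (ξ ^ k)) = ((WW A).map (· % n)).count (k % n) := by
  classical
  have h1 : g ^ n = 1 := Mod.eq_one (hξ.pow_eq_one ▸ Kac.eig_pow hg n)
  have h2 : (n : K2) ≠ 0 := fun e => by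
    have := ((CharP.cast_eq_zero_iff K2 2 n).1 e).trans hn
    omega
  have h3 : End.IsSemisimple (σ g) := End.isSemisimple_of_squarefree_aeval_eq_zero
    (X_pow_sub_one_separable_iff.2 h2).squarefree (by rw [map_sub, map_pow, aeval_X, ← map_pow, h1]; simp)
  rw [← h3.isFinitelySemisimple.maxGenEigenspace_eq_eigenspace, LinearMap.finrank_maxGenEigenspace_eq,
    ← count_roots, h.roots hg ((hξ.pow_eq_one_iff_dvd _).2 hn), Multiset.count_map, Multiset.count_map]
  congr 1
  refine Multiset.filter_congr fun w _ => ?_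
  rw [(hξ.isOfFinOrder (by rintro rfl; simp at h2)).pow_inj_mod, ← hξ.eq_orderOf]

theorem Ch.uniq (hF : Fintype.card F = 64) {A B : Multiset ℕ} (hA : Ch ι σ A) (hB : Ch ι σ B) : A = B := by
  have k : ∀ n, 1 < n → Odd n → n ∣ 63 ∨ n ∣ 65 → n ∣ 4095 → (WW A).map (· % n) = (WW B).map (· % n) :=
    fun n h1 h2 h3 h4 => by
      obtain ⟨ξ, hξ⟩ := exists_root h2
      obtain ⟨g, hg, -⟩ := exists_elt ι hF h1 h3 hξ
      have e := (hξ.pow_eq_one_iff_dvd _).2 h4
      exact Kac.map_mod_eq (by omega) hξ ((hA.roots hg e).symm.trans (hB.roots hg e))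
  exact WW_inj hA.1 hB.1 (k 63 (by norm_num) (by decide) (.inl dvd_rfl) (by norm_num))
    (k 65 (by norm_num) (by decide) (.inr dvd_rfl) (by norm_num))

theorem Mod.ind (ι : F →+* K2) (hF : Fintype.card F = 64) (P : ∀ (M : Type) [AddCommGroup M] [Module K2 M]
      [FiniteDimensional K2 M], Representation K2 SL(2, F) M → Multiset ℕ → Prop)
    (h0 : ∀ (M : Type) [AddCommGroup M] [Module K2 M] [FiniteDimensional K2 M] [Subsingleton M]
      (σ : Representation K2 SL(2, F) M), P M σ 0)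
    (h1 : ∀ (M : Type) [AddCommGroup M] [Module K2 M] [FiniteDimensional K2 M]
      (σ : Representation K2 SL(2, F) M) (l : ℕ), Model ι σ l → P M σ {l})
    (h2 : ∀ (M : Type) [AddCommGroup M] [Module K2 M] [FiniteDimensional K2 M]
      (σ : Representation K2 SL(2, F) M) (N : Submodule K2 M) (hN : ∀ g, N ≤ N.comap (σ g))
      (A B : Multiset ℕ), P N (σ.subrepresentation N hN) A → P (M ⧸ N) (σ.quotient N hN) B →
        P M σ (A + B)) (V : Type) [AddCommGroup V] [Module K2 V] [FiniteDimensional K2 V]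
    (ρ : Representation K2 SL(2, F) V) : ∃ A, Ch ι ρ A ∧ P V ρ A := by
  induction hn : finrank K2 V using Nat.strong_induction_on generalizing V with
  | _ n ih =>
    rcases subsingleton_or_nontrivial V with hV | hV
    · refine ⟨0, ⟨by simp, fun g η _ => ?_⟩, h0 V ρ⟩
      rw [Multiset.map_zero, Multiset.prod_zero, ← (ρ g).charpoly_monic.natDegree_eq_zero,
        LinearMap.charpoly_natDegree]
      exact finrank_zero_of_subsingleton
    by_cases h : ∀ N : Submodule K2 V, (∀ g, N ≤ N.comap (ρ g)) → N = ⊥ ∨ N = ⊤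
    · obtain ⟨l, hl⟩ := exists_model ι hF h
      exact ⟨_, hl.ch hF, h1 V ρ l hl⟩
    push Not at h
    obtain ⟨N, h3, h4, h5⟩ := h
    have h6 := N.finrank_quotient_add_finrank
    have h7 := Submodule.finrank_lt h5
    have h8 : finrank K2 N ≠ 0 := by rwa [Ne, Submodule.finrank_eq_zero]
    obtain ⟨A, a1, a2⟩ := ih _ (by omega) N (ρ.subrepresentation N h3) rfl
    obtain ⟨B, b1, b2⟩ := ih _ (by omega) (V ⧸ N) (ρ.quotient N h3) rfl
    exact ⟨_, a1.add b1, h2 V ρ N h3 A B a2 b2⟩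

theorem exists_ch (ι : F →+* K2) (hF : Fintype.card F = 64) (σ : Representation K2 SL(2, F) M) :
    ∃ A, Ch ι σ A :=
  (Mod.ind ι hF (fun _ _ _ _ _ _ => True) (fun _ _ _ _ _ _ => trivial) (fun _ _ _ _ _ _ _ => trivial)
    (fun _ _ _ _ _ _ _ _ _ _ _ => trivial) M σ).imp fun _ h => h.1

theorem ch_ind (hF : Fintype.card F = 64) (P : ∀ (M : Type) [AddCommGroup M] [Module K2 M]
      [FiniteDimensional K2 M], Representation K2 SL(2, F) M → Multiset ℕ → Prop)
    (h0 : ∀ (M : Type) [AddCommGroup M] [Module K2 M] [FiniteDimensional K2 M] [Subsingleton M]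
      (σ : Representation K2 SL(2, F) M), P M σ 0)
    (h1 : ∀ (M : Type) [AddCommGroup M] [Module K2 M] [FiniteDimensional K2 M]
      (σ : Representation K2 SL(2, F) M) (l : ℕ), Model ι σ l → P M σ {l})
    (h2 : ∀ (M : Type) [AddCommGroup M] [Module K2 M] [FiniteDimensional K2 M]
      (σ : Representation K2 SL(2, F) M) (N : Submodule K2 M) (hN : ∀ g, N ≤ N.comap (σ g))
      (A B : Multiset ℕ), P N (σ.subrepresentation N hN) A → P (M ⧸ N) (σ.quotient N hN) B →
        P M σ (A + B)) {A : Multiset ℕ} (h : Ch ι σ A) : P M σ A := by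
  obtain ⟨B, b1, b2⟩ := Mod.ind ι hF P h0 h1 h2 M σ
  rwa [h.uniq hF b1]

end Cfsg.Agent.E82
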