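import Mathlib
import Cfsg.Agent.E82.Mod

/-!
# Cocycles with values in the simple modules
-/

set_option autoImplicit false

namespace Cfsg.Agent.E82

open Cfsg.Lie Cfsg.Lie.ChevalleyDatum Cfsg.Agent.Chev Cfsg.Agent.Chev.S2M Matrix MatrixGroups Polynomial Module

variable {F : Type*} [Field F] [Fintype F] {ι : F →+* K2} {M : Type} [AddCommGroup M] [Module K2 M]
  [FiniteDimensional K2 M] {σ : Representation K2 SL(2, F) M}

namespace Coc

theorem exists_coef (hF : Fintype.card F = 64) {l : ℕ} (hl : l < 64) {ψ : SL(2, F) → K2}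
    (h : ψ ∈ LL ι l) : ∃ c : ℕ → K2, (∀ j, j ∉ JJ K2 l → c j = 0) ∧
      ∀ g, ψ g = ∑ j ∈ Finset.range (63 + 1), c j * (ι (g.1 1 1) ^ j * ι (g.1 1 0) ^ (l - j)) := by
  classical
  rw [← span_eq ι (hF ▸ hl) (c := ![1, 0]) (d := ![0, 1]) (by simp),
    Submodule.mem_span_range_iff_exists_fun] at h
  obtain ⟨c, rfl⟩ := h
  refine ⟨fun i => if h : i ∈ JJ K2 l then c ⟨i, h⟩ else 0, fun j hj => dif_neg hj, fun g => ?_⟩
  rw [← Finset.sum_subset (s₁ := JJ K2 l)
    (fun i hi => Finset.mem_range.2 (lt_of_le_of_lt (mem_JJ.1 hi).1 hl)) fun i _ hi => by simp [hi],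
    ← Finset.sum_coe_sort (JJ K2 l), Finset.sum_apply]
  exact Finset.sum_congr rfl fun j _ => by simp [lf_10, lf_01]

theorem tab : ∀ l < 63, l ≠ 0 → 32 * l % 63 ≠ 0 ∧ (l ∉ P2 → ∃ i < 32 * l % 63,
    (32 * l % 63).descFactorial i / i.factorial % 2 = 1 ∧ l.descFactorial i / i.factorial % 2 = 0) := by
  decide +kernel

theorem cast_zero {n : ℕ} : (n : K2) = 0 ↔ 2 ∣ n := CharP.cast_eq_zero_iff K2 2 n

omit [Fintype F] in
theorem nn_mul_bb (a b : F) : nn a * bb 1 b = nn (a + b) :=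
  Subtype.ext (by simp [coe_bb, coe_nn, add_comm])

omit [Fintype F] in
theorem nn_bb (a : Fˣ) : nn 0 * bb a⁻¹ 0 = bb a 0 * nn (0 : F) :=
  Subtype.ext (by simp [coe_bb, coe_nn])

omit [Fintype F] in
theorem bb_pow (a : Fˣ) (k : ℕ) : bb a (0 : F) ^ k = bb (a ^ k) 0 := by
  induction k with
  | zero => rw [pow_zero, pow_zero, bb_one]
  | succ k ih => rw [pow_succ, ih, bb_mul, pow_succ]; simp

omit [Fintype F] [FiniteDimensional K2 M] in
theorem z_one {f : SL(2, F) → M} (hf : f ∈ Z1 σ) : f 1 = 0 := by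
  have := hf 1 1
  simpa using this

section
variable {l : ℕ} {Φ : M →ₗ[K2] (SL(2, F) → K2)}

omit [FiniteDimensional K2 M] in
theorem eq_zero (hF : Fintype.card F = 64) (hl : l < 64) (h1 : Function.Injective Φ)
    (h3 : LinearMap.range Φ = LL ι l) {w : M} (hw : ∀ a, Φ w (nn a) = 0) : w = 0 := by
  obtain ⟨c, -, hc⟩ := exists_coef hF hl (h3 ▸ LinearMap.mem_range_self Φ w)
  have h4 := fun j => coef_eq_zero ι (l := 63) (by omega) c (fun s => by
    simpa [hc, coe_nn] using hw s) (j := j)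
  refine h1 (_root_.funext fun g => ?_)
  rw [hc, map_zero]
  exact Finset.sum_eq_zero fun j hj => by rw [h4 j (Finset.mem_range_succ_iff.1 hj), zero_mul]

omit [FiniteDimensional K2 M] in
theorem fix_zero (hF : Fintype.card F = 64) (hl : l < 63) (h0 : l ≠ 0) (h1 : Function.Injective Φ)
    (h2 : ∀ g w h, Φ (σ g w) h = Φ w (h * g)) (h3 : LinearMap.range Φ = LL ι l) {a : Fˣ}
    (ha : orderOf a = 63) {w : M} (hw : σ (bb a 0) w = w) : w = 0 := by
  obtain ⟨c, hz, hc⟩ := exists_coef hF (by omega : l < 64) (h3 ▸ LinearMap.mem_range_self Φ w)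
  have h4 := fun j => coef_eq_zero ι (l := 63) (by omega)
    (fun j => c j * (ι ((a ^ j * a⁻¹ ^ (l - j) : Fˣ) : F) - 1)) (fun s => by
      have e := h2 (bb a 0) w (nn s)
      rw [hw, hc, hc] at e
      rw [← sub_eq_zero.2 e.symm, ← Finset.sum_sub_distrib]
      refine Finset.sum_congr rfl fun j _ => ?_
      simp [coe_nn, coe_bb, mul_pow]
      ring) (j := j)
  refine h1 (_root_.funext fun g => ?_)
  rw [hc, map_zero]
  refine Finset.sum_eq_zero fun j hj => ?_
  by_cases h5 : j ∈ JJ K2 l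
  · rcases mul_eq_zero.1 (h4 j (Finset.mem_range_succ_iff.1 hj)) with h6 | h6
    · rw [h6, zero_mul]
    · obtain ⟨h7, h8⟩ := mem_JJ.1 h5
      have h9 : a ^ j * a⁻¹ ^ (l - j) = 1 :=
        Units.ext (ι.injective (by rw [sub_eq_zero.1 h6]; simp))
      rw [_root_.inv_pow, mul_inv_eq_one, pow_eq_pow_iff_modEq, ha] at h9
      have h10 : l = 2 * j := by
        unfold Nat.ModEq at h9
        omega
      refine (h8 (cast_zero.2 ?_)).elim
      rw [h10]
      exact Nat.two_dvd_centralBinom_of_one_le (by omega)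
  · rw [hz j h5, zero_mul]

omit [FiniteDimensional K2 M] in
theorem z_zero (hF : Fintype.card F = 64) (hl : l < 63) (h0 : l ≠ 0) (h1 : Function.Injective Φ)
    (h2 : ∀ g w h, Φ (σ g w) h = Φ w (h * g)) (h3 : LinearMap.range Φ = LL ι l) {a : Fˣ}
    (ha : orderOf a = 63) {f : SL(2, F) → M} (hf : f ∈ Z1 σ) (hT : ∀ t, f (bb t 0) = 0)
    (hU : ∀ b, f (bb 1 b) = 0) : f = 0 := by
  have hm : ∀ x y, f x = 0 → f y = 0 → f (x * y) = 0 := fun x y hx hy => by
    rw [hf x y, hx, hy, map_zero, add_zero]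
  have hB : ∀ t x, f (bb t x) = 0 := fun t x => by
    have := hm _ _ (hT t) (hU (t * x))
    rw [bb_mul] at this
    simpa using this
  have hw : f (nn 0) = 0 := fix_zero hF hl h0 h1 h2 h3 ha (by
    have e := congrArg f (nn_bb a)
    rw [hf, hf, hT, hT, map_zero, add_zero, zero_add] at e
    exact e.symm)
  have hn : ∀ y, f (nn y) = 0 := fun y => by
    have := hm _ _ hw (hU y)
    rwa [nn_mul_bb, zero_add] at this
  funext g
  rcases bruhat g with ⟨t, x, rfl⟩ | ⟨t, x, y, rfl⟩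
  · exact hB t x
  · exact hm _ _ (hB t x) (hn y)

omit [FiniteDimensional K2 M] in
theorem val_eq (hF : Fintype.card F = 64) (hl : l < 63) (h0 : l ≠ 0)
    (h2 : ∀ g w h, Φ (σ g w) h = Φ w (h * g)) (h3 : LinearMap.range Φ = LL ι l)
    {f : SL(2, F) → M} (hf : f ∈ Z1 σ) (hT : ∀ t, f (bb t 0) = 0) (b c : F) :
    Φ (f (bb 1 c)) (nn b) =
      Φ (f (bb 1 1)) (nn 0) * (ι (b + c) ^ (32 * l % 63) - ι b ^ (32 * l % 63)) := by
  have hA : ∀ b : F, Φ (f (bb 1 b)) (nn 0) = Φ (f (bb 1 1)) (nn 0) * ι b ^ (32 * l % 63) := by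
    intro b
    by_cases hb : b = 0
    · rw [hb, bb_one, z_one hf, map_zero, map_zero, zero_pow (tab l hl h0).1, mul_zero]
      rfl
    have h63 : b ^ 63 = 1 := by
      have := FiniteField.pow_card_sub_one_eq_one b hb
      rwa [hF] at this
    obtain ⟨t, ht⟩ : ∃ t : Fˣ, ((t⁻¹ : Fˣ) : F) = b ^ 32 := ⟨(Units.mk0 b hb ^ 32)⁻¹, by simp⟩
    have e1 : bb t 0 * bb 1 1 = bb 1 b * bb t (0 : F) := by
      rw [bb_mul, bb_mul, mul_one, one_mul]
      congr 1
      have e2 : ((t⁻¹ : Fˣ) : F) * t = 1 := t.inv_mul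
      rw [ht] at e2 ⊢
      simp only [mul_one, zero_mul, add_zero, mul_zero, zero_add]
      linear_combination (-b ^ 32) * e2 + b * t * h63
    have e3 := congrArg (fun g => Φ (f g) (nn 0)) e1
    simp only [hf _ _, hT, zero_add, map_zero, add_zero, h2] at e3
    obtain ⟨c, -, hc⟩ := exists_coef hF (by omega : l < 64)
      (h3 ▸ LinearMap.mem_range_self Φ (f (bb 1 1)))
    have e4 : ι b ^ (32 * l % 63) = ι (b ^ 32) ^ l := by
      rw [← map_pow, ← map_pow, ← pow_mul, ← pow_eq_pow_mod _ h63]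
    rw [← e3, hc, hc, e4, ← ht, Finset.sum_range_succ' _ 63, Finset.sum_range_succ' _ 63]
    simp [coe_nn, coe_bb]
  have e := congrArg (fun g => Φ (f g) (nn 0)) (bb_mul (1 : Fˣ) 1 b c)
  simp only [hf _ _, map_add, Pi.add_apply, h2, nn_mul_bb, zero_add, mul_one, inv_one, Units.val_one,
    one_mul] at e
  rw [hA b, hA (c + b), add_comm c b] at e
  linear_combination e

omit [FiniteDimensional K2 M] in
theorem gam_zero (hF : Fintype.card F = 64) (hl : l < 63) (h0 : l ≠ 0) (hP : l ∉ P2)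
    (h2 : ∀ g w h, Φ (σ g w) h = Φ w (h * g)) (h3 : LinearMap.range Φ = LL ι l)
    {f : SL(2, F) → M} (hf : f ∈ Z1 σ) (hT : ∀ t, f (bb t 0) = 0) : Φ (f (bb 1 1)) (nn 0) = 0 := by
  obtain ⟨i, hi, h4, h5⟩ := (tab l hl h0).2 hP
  rw [← Nat.choose_eq_descFactorial_div_factorial] at h4 h5
  have hv := fun b => val_eq hF hl h0 h2 h3 hf hT b 1
  obtain ⟨c, hz, hc⟩ := exists_coef hF (by omega : l < 64)
    (h3 ▸ LinearMap.mem_range_self Φ (f (bb 1 1)))
  have he : 32 * l % 63 < 63 := Nat.mod_lt _ (by norm_num)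
  generalize Φ (f (bb 1 1)) (nn 0) = γ at hv
  generalize 32 * l % 63 = e at hv hi h4 he
  have h6 := coef_eq_zero ι (l := 63) (by omega)
    (fun j => c j - if j < e then γ * e.choose j else 0) (fun s => by
      have e1 := hv s
      rw [hc, map_add, map_one, add_pow, Finset.sum_range_succ (n := e)] at e1
      simp only [coe_nn, of_apply, cons_val', cons_val_one, cons_val_fin_one, cons_val_zero, map_one,
        one_pow, mul_one, Nat.choose_self, Nat.cast_one, add_sub_cancel_right] at e1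
      simp only [sub_mul, Finset.sum_sub_distrib, e1, Finset.mul_sum]
      rw [sub_eq_zero, ← Finset.sum_subset (s₁ := Finset.range e) (s₂ := Finset.range (63 + 1))
        (Finset.range_mono (by omega)) fun j _ hj => by simp [mt Finset.mem_range.2 hj]]
      exact Finset.sum_congr rfl fun j hj => by rw [if_pos (Finset.mem_range.1 hj)]; ring)
    (j := i) (by omega)
  rw [hz i fun h => (mem_JJ.1 h).2 (cast_zero.2 (by omega)), if_pos hi, zero_sub, neg_eq_zero] at h6
  exact (mul_eq_zero.1 h6).resolve_right fun h => by have := cast_zero.1 h; omega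

end

end Coc

theorem Model.z1_le (hF : Fintype.card F = 64) {l : ℕ} (h : Model ι σ l) (h0 : l ≠ 0) (h1 : l ≠ 63)
    (h2 : l ∉ B5) : finrank K2 (Z1 σ) ≤ finrank K2 M + if l ∈ P2 then 1 else 0 := by
  obtain ⟨hl', Φ, h3, h4, h5⟩ := h
  have hl : l < 63 := by omega
  obtain ⟨a, ha⟩ := IsCyclic.exists_generator (α := Fˣ)
  have ho : orderOf a = 63 := by
    rw [orderOf_eq_card_of_forall_mem_zpowers ha, Nat.card_units, Nat.card_eq_fintype_card, hF]
  let ev : Z1 σ →ₗ[K2] M := (LinearMap.proj (bb a 0)).comp (Z1 σ).subtype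
  have hT : ∀ f : LinearMap.ker ev, ∀ t, f.1.1 (bb t 0) = 0 := fun f t => by
    obtain ⟨k, rfl⟩ := (mem_powers_iff_mem_zpowers.2 (ha t) : t ∈ Submonoid.powers a)
    have hy : f.1.1 (bb a 0) = 0 := f.2
    beta_reduce
    rw [← Coc.bb_pow]
    induction k with
    | zero => rw [pow_zero, Coc.z_one f.1.2]
    | succ k ih => rw [pow_succ, f.1.2, ih, hy, map_zero, add_zero]
  have hz : ∀ f : LinearMap.ker ev, Φ (f.1.1 (bb 1 1)) (nn 0) = 0 → f = 0 := fun f hf =>
    Subtype.ext (Subtype.ext (Coc.z_zero hF hl h0 h3 h4 h5 ho f.1.2 (hT f) fun b =>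
      Coc.eq_zero hF hl' h3 h5 fun s => by rw [Coc.val_eq hF hl h0 h4 h5 f.1.2 (hT f), hf, zero_mul]))
  rw [← ev.finrank_range_add_finrank_ker]
  refine add_le_add (Submodule.finrank_le _) ?_
  split_ifs with hP
  · let γ : LinearMap.ker ev →ₗ[K2] K2 := ((LinearMap.proj (nn 0)).comp Φ).comp
      (((LinearMap.proj (bb 1 1)).comp (Z1 σ).subtype).comp (LinearMap.ker ev).subtype)
    have hi : Function.Injective γ := fun f g e => sub_eq_zero.1 (hz _ (by
      change Φ (f.1.1 (bb 1 1) - g.1.1 (bb 1 1)) (nn 0) = 0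
      rw [map_sub]
      exact sub_eq_zero.2 e))
    exact (LinearMap.finrank_le_finrank_of_injective hi).trans (finrank_self K2).le
  · have : Subsingleton (LinearMap.ker ev) := subsingleton_of_forall_eq 0 fun f =>
      hz f (Coc.gam_zero hF hl h0 hP h4 h5 f.1.2 (hT f))
    exact (Module.finrank_zero_of_subsingleton).le

end Cfsg.Agent.E82
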