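import Mathlib
import Cfsg.Agent.E82.Mod

/-!
# The sum of the involutions on the simple modules
-/

set_option autoImplicit false
set_option linter.unusedSectionVars false

namespace Cfsg.Agent.E82

open Cfsg.Lie Cfsg.Lie.ChevalleyDatum Cfsg.Agent.Chev Cfsg.Agent.Chev.S2M Matrix MatrixGroups Polynomial Module

variable {F : Type*} [Field F] [Fintype F] {ι : F →+* K2} {M : Type} [AddCommGroup M] [Module K2 M]
  [FiniteDimensional K2 M] {σ : Representation K2 SL(2, F) M}

namespace Zel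

open Classical in
/-- The elements of order at most two. -/
noncomputable def S (F : Type*) [Field F] [Fintype F] : Finset SL(2, F) := Finset.univ.filter fun s => s ^ 2 = 1

theorem mem_S {s : SL(2, F)} : s ∈ S F ↔ s ^ 2 = 1 := by simp [S]

theorem mem_S' {s : SL(2, F)} : s ∈ S F ↔ s.1 * s.1 = 1 := by rw [mem_S, pow_two]; exact Subtype.ext_iff

theorem sum_aut {N : Type*} [AddCommMonoid N] (α : SL(2, F) ≃* SL(2, F)) (f : SL(2, F) → N) :
    ∑ s ∈ S F, f (α s) = ∑ s ∈ S F, f s :=
  Finset.sum_equiv α.toEquiv (fun s => by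
    rw [mem_S, mem_S, MulEquiv.toEquiv_eq_coe, MulEquiv.coe_toEquiv, ← map_pow, map_eq_one_iff _ α.injective])
    fun _ _ => rfl

variable [CharP F 2]

/-- The parametrisation of the involutions. -/
def iv (x : F × F) : SL(2, F) := ⟨!![1 + x.1 * x.2, x.1 ^ 2; x.2 ^ 2, 1 + x.1 * x.2], by
  rw [det_fin_two_of]; linear_combination (x.1 * x.2) * CharTwo.two_eq_zero (R := F)⟩

theorem sum_iv {N : Type*} [AddCommMonoid N] (f : SL(2, F) → N) : ∑ x : F × F, f (iv x) = ∑ s ∈ S F, f s := by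
  have t0 := CharTwo.two_eq_zero (R := F)
  have sq : ∀ a b : F, a ^ 2 = b ^ 2 → a = b := fun a b e => frobenius_inj F 2 e
  refine Finset.sum_nbij iv (fun x _ => mem_S'.2 ?_) (fun x _ y _ e => ?_) (fun s hs => ?_) fun _ _ => rfl
  · rw [one_fin_two]
    change !![_, _; _, _] * !![_, _; _, _] = _
    rw [mul_fin_two]
    ext i j
    fin_cases i <;> fin_cases j <;> simp only [of_apply, cons_val', cons_val_zero, cons_val_one, cons_val_fin_one,
      Fin.zero_eta, Fin.mk_one]
    · linear_combination (x.1 * x.2 + x.1 ^ 2 * x.2 ^ 2) * t0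
    · linear_combination ((1 + x.1 * x.2) * x.1 ^ 2) * t0
    · linear_combination ((1 + x.1 * x.2) * x.2 ^ 2) * t0
    · linear_combination (x.1 * x.2 + x.1 ^ 2 * x.2 ^ 2) * t0
  · exact Prod.ext (sq _ _ (congrArg (fun s : SL(2, F) => s.1 0 1) e)) (sq _ _ (congrArg (fun s : SL(2, F) => s.1 1 0) e))
  · obtain ⟨p, hp⟩ := surjective_frobenius F 2 (s.1 0 1)
    obtain ⟨q, hq⟩ := surjective_frobenius F 2 (s.1 1 0)
    rw [frobenius_def] at hp hq
    have h := mem_S'.1 hs
    have h0 := congrFun (congrFun h 0) 0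
    have h1 := congrFun (congrFun h 1) 1
    simp only [mul_apply, Fin.sum_univ_two, one_apply_eq, ← hp, ← hq] at h0 h1
    refine ⟨(p, q), by simp, Subtype.ext ?_⟩
    rw [eta_fin_two s.1, ← hp, ← hq, sq (s.1 0 0) (1 + p * q) (by linear_combination h0 - (p * q + p ^ 2 * q ^ 2) * t0),
      sq (s.1 1 1) (1 + p * q) (by linear_combination h1 - (p * q + p ^ 2 * q ^ 2) * t0)]
    rfl

theorem sum_pow (hF : Fintype.card F = 64) {j : ℕ} (hj : j < 64) : ∑ u : F, u ^ j = if j = 63 then 1 else 0 := by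
  split_ifs with h
  · classical
    have : ∀ u : F, u ^ j = 1 - if u = 0 then 1 else 0 := fun u => by
      split_ifs with h0
      · simp [h0, h]
      · rw [sub_zero, h]; simpa [hF] using FiniteField.pow_card_sub_one_eq_one u h0
    simp only [this, Finset.sum_sub_distrib, Finset.sum_const, Finset.card_univ, Finset.sum_ite_eq', Finset.mem_univ,
      if_true, nsmul_eq_mul, FiniteField.cast_card_eq_zero, zero_mul, zero_sub, CharTwo.neg_eq]
  · exact FiniteField.sum_pow_lt_card_sub_one F j (by omega)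

theorem sum_mon (hF : Fintype.card F = 64) {j l : ℕ} (hj : j ≤ l) (hl : l < 64) :
    ∑ x : F × F, (1 + x.1 * x.2) ^ j * (x.2 ^ 2) ^ (l - j) = if j = 63 then 1 else 0 := by
  have k : ∀ q : F, ∑ p : F, (1 + p * q) ^ j = q ^ 63 * if j = 63 then 1 else 0 := fun q => by
    by_cases h0 : q = 0
    · simp [h0]
    · rw [← sum_pow hF (hj.trans_lt hl), show q ^ 63 = 1 by simpa [hF] using FiniteField.pow_card_sub_one_eq_one q h0,
        one_mul]
      exact Fintype.sum_equiv ((Equiv.mulRight₀ q h0).trans (Equiv.addLeft 1)) _ _ fun _ => rfl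
  rw [Fintype.sum_prod_type_right]
  simp only [← Finset.sum_mul, k]
  split_ifs with h
  · simpa [show l - j = 0 by omega] using sum_pow hF (j := 63) (by norm_num)
  · simp

theorem sum_LL (hF : Fintype.card F = 64) {l : ℕ} (hl : l < 64) {φ : SL(2, F) → K2} (h : φ ∈ LL ι l) :
    ∑ s ∈ S F, φ s = (if l = 63 then 1 else 0) * φ 1 := by
  rw [← span_eq ι (hF ▸ hl) (c := ![1, 0]) (d := ![0, 1]) (by simp)] at h
  induction h using Submodule.span_induction with
  | mem x hx =>
    obtain ⟨⟨j, hj⟩, rfl⟩ := hx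
    have h1 := (mem_JJ.1 hj).1
    have := congrArg ι (sum_mon hF h1 hl)
    have e : ∀ x : F × F, (lf ι ![0, 1] ^ j * lf ι ![1, 0] ^ (l - j)) (iv x) =
        ι ((1 + x.1 * x.2) ^ j * (x.2 ^ 2) ^ (l - j)) := fun x => by
      rw [Pi.mul_apply, Pi.pow_apply, Pi.pow_apply, lf_10, lf_01, map_mul, map_pow, map_pow ι _ (l - j)]
      rfl
    beta_reduce
    rw [← sum_iv, Finset.sum_congr rfl fun x _ => e x, ← map_sum, this, Pi.mul_apply, Pi.pow_apply, Pi.pow_apply,
      lf_10, lf_01]
    by_cases h2 : j = l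
    · subst h2; split_ifs <;> simp
    · rw [if_neg (by omega)]; simp [show l - j ≠ 0 by omega]
  | zero => simp
  | add x y _ _ hx hy => simp only [Pi.add_apply, Finset.sum_add_distrib, hx, hy, mul_add]
  | smul a x _ hx => simp only [Pi.smul_apply, smul_eq_mul, ← Finset.mul_sum, hx, mul_left_comm]

end Zel

omit [FiniteDimensional K2 M] in
theorem Model.zz_eq (hF : Fintype.card F = 64) {l : ℕ} (h : Model ι σ l) :
    zz σ = (if l = 63 then 1 else 0 : K2) • 1 := by
  have : CharP F 2 := RingHom.charP ι ι.injective 2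
  obtain ⟨hl, Φ, h1, h2, h3⟩ := h
  refine LinearMap.ext fun w => h1 (funext fun g => ?_)
  have e := Zel.sum_LL hF hl (h3.le ⟨σ g w, rfl⟩)
  rw [← Zel.sum_aut (MulAut.conj g)] at e
  simp only [h2, MulAut.conj_apply, inv_mul_cancel_right, one_mul] at e
  change Φ ((∑ s ∈ Zel.S F, σ s) w) g = _
  simp only [LinearMap.sum_apply, map_sum, Finset.sum_apply, h2, e, LinearMap.smul_apply, End.one_apply, map_smul,
    Pi.smul_apply, smul_eq_mul]

theorem Model.zz_zero (hF : Fintype.card F = 64) {l : ℕ} (h : Model ι σ l) (hl : l ≠ 63) : zz σ = 0 := by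
  rw [h.zz_eq hF, if_neg hl, zero_smul]

theorem Model.zz_one (hF : Fintype.card F = 64) (h : Model ι σ 63) : zz σ = 1 := by
  rw [h.zz_eq hF, if_pos rfl, one_smul]

omit [FiniteDimensional K2 M] in
theorem zz_comm {e : Module.End K2 M} {α : SL(2, F) ≃* SL(2, F)} (h : ∀ s, e * σ s = σ (α s) * e) :
    e * zz σ = zz σ * e := by
  change e * ∑ s ∈ Zel.S F, σ s = (∑ s ∈ Zel.S F, σ s) * e
  rw [Finset.mul_sum, Finset.sum_mul, ← Zel.sum_aut α fun s => σ s * e]
  simp only [h]

end Cfsg.Agent.E82
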