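import Mathlib
import Cfsg.Agent.E82.Pre
import Cfsg.Agent.FV.Form

/-!
# A fixed vector in the first case
-/

set_option autoImplicit false

namespace Cfsg.Agent.E82

open Cfsg.Lie Cfsg.Lie.ChevalleyDatum Cfsg.Agent.Chev Cfsg.Agent.Chev.S2M Matrix MatrixGroups Polynomial Module

variable {F : Type*} [Field F] [Fintype F] {ι : F →+* K2}

theorem ca_tab : ∀ l < 64, ((wts l).map (· % 65)).count 0 = if 0 = l then 1 else 0 := by decide +kernel

theorem ca_cnt {A : Multiset ℕ} (hA : ∀ l ∈ A, l < 64) : ((WW A).map (· % 65)).count 0 = A.count 0 := by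
  induction A using Multiset.induction_on with
  | empty => simp [WW]
  | cons a s ih =>
    have h1 := ih fun l hl => hA l (Multiset.mem_cons_of_mem hl)
    rw [WW] at h1 ⊢
    rw [Multiset.cons_bind, Multiset.map_add, Multiset.count_add, h1, Multiset.count_cons, Multiset.map_coe,
      Multiset.coe_count, ca_tab a (hA a (Multiset.mem_cons_self _ _)), add_comm]

theorem ca_dbl {n : ℕ} (hn : n = 63 ∨ n = 65) {W : Multiset ℕ}
    (h : ∀ k, (W.map (· % n)).count (k % n) = (W.map (· % n)).count (2 * k % n)) :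
    W.map (2 * · % n) = W.map (· % n) := by
  ext c
  by_cases hc : c < n
  · obtain ⟨k, rfl⟩ : ∃ k, c = 2 * k % n := ⟨(n + 1) / 2 * c, by rcases hn with rfl | rfl <;> omega⟩
    rw [← h k, Multiset.count_map, Multiset.count_map]
    congr 1
    exact Multiset.filter_congr fun w _ => by rcases hn with rfl | rfl <;> omega
  · rw [Multiset.count_eq_zero.2, Multiset.count_eq_zero.2] <;>
    · intro e
      obtain ⟨w, -, rfl⟩ := Multiset.mem_map.1 e
      exact hc (Nat.mod_lt _ (by omega))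

theorem ca_le (f : ℕ → ℕ) (A : Multiset ℕ) (l : ℕ) : A.count l ≤ (A.map f).count (f l) := by
  rw [Multiset.count_map, Multiset.count_eq_card_filter_eq]
  exact Multiset.card_le_card (Multiset.monotone_filter_right _ fun b e => congrArg f e)

theorem ca_dd {A : Multiset ℕ} (h : A.map rot = A) : dd A = 0 ∨ 6 ≤ dd A := by
  have h1 := fun l => h ▸ ca_le rot A l
  have a1 : A.count 1 ≤ A.count 2 := h1 1
  have a2 : A.count 2 ≤ A.count 4 := h1 2
  have a3 : A.count 4 ≤ A.count 8 := h1 4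
  have a4 : A.count 8 ≤ A.count 16 := h1 8
  have a5 : A.count 16 ≤ A.count 32 := h1 16
  have a6 : A.count 32 ≤ A.count 1 := h1 32
  simp only [dd, P2, List.map_cons, List.map_nil, List.sum_cons, List.sum_nil]
  omega

theorem ca_dd_add (A B : Multiset ℕ) : dd (A + B) = dd A + dd B := by
  simp only [dd, P2, List.map_cons, List.map_nil, List.sum_cons, List.sum_nil, Multiset.count_add]
  omega

section Gen

variable {M : Type} [AddCommGroup M] [Module K2 M] [FiniteDimensional K2 M] {σ : Representation K2 SL(2, F) M}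

theorem Ch.ca_fix {A : Multiset ℕ} (h : Ch ι σ A) {x : SL(2, F)} {ξ : K2} (hξ : IsPrimitiveRoot ξ 65)
    (hx : Eig ι x ξ) : finrank K2 (End.eigenspace (σ x) 1) = A.count 0 := by
  have := h.finrank_eig (n := 65) (by norm_num) hξ hx 0
  rwa [pow_zero, Nat.zero_mod, ca_cnt h.1] at this

theorem Ch.ca_equiv {M' : Type} [AddCommGroup M'] [Module K2 M'] [FiniteDimensional K2 M']
    {σ' : Representation K2 SL(2, F) M'} (f : M ≃ₗ[K2] M') (hf : ∀ g v, f (σ g v) = σ' g (f v)) {A : Multiset ℕ}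
    (h : Ch ι σ A) : Ch ι σ' A :=
  ⟨h.1, fun g η hg => by
    rw [← h.2 g η hg, ← f.charpoly_conj (σ g)]
    congr 1
    ext v
    simp [LinearEquiv.conj_apply, hf]⟩

variable (σ) in
/-- The largest submodule without vectors fixed by `x`. -/
noncomputable def caR (x : SL(2, F)) : Submodule K2 M :=
  ⨅ s, LinearMap.ker ((∑ k ∈ Finset.range 65, σ x ^ k) ∘ₗ σ s)

omit [Fintype F] [FiniteDimensional K2 M] in
theorem mem_caR {x : SL(2, F)} {v : M} : v ∈ caR σ x ↔ ∀ s, ∑ k ∈ Finset.range 65, σ (x ^ k * s) v = 0 := by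
  simp [caR, Submodule.mem_iInf, LinearMap.sum_apply]

omit [Fintype F] [FiniteDimensional K2 M] in
theorem caR_inv (x g : SL(2, F)) : caR σ x ≤ (caR σ x).comap (σ g) := fun v hv =>
  mem_caR.2 fun s => by simpa [mul_assoc] using mem_caR.1 hv (s * g)

omit [Fintype F] [FiniteDimensional K2 M] in
theorem caR_fix {x : SL(2, F)} {v : M} (hv : v ∈ caR σ x) (h : σ x v = v) : v = 0 := by
  have h1 := mem_caR.1 hv 1
  have h2 : ∀ k, σ (x ^ k * 1) v = v := fun k => by
    rw [mul_one]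
    induction k with
    | zero => simp
    | succ k ih => rw [pow_succ, map_mul, End.mul_apply, h, ih]
  simp only [h2, Finset.sum_const, Finset.card_range] at h1
  rwa [← Nat.cast_smul_eq_nsmul K2, CharP.cast_eq_mod K2 2, Nat.cast_one, one_smul] at h1

omit [Fintype F] [FiniteDimensional K2 M] in
theorem le_caR {x : SL(2, F)} (hx : x ^ 65 = 1) {N : Submodule K2 M} (hN : ∀ g, N ≤ N.comap (σ g))
    (h : ∀ v ∈ N, σ x v = v → v = 0) : N ≤ caR σ x := fun v hv => mem_caR.2 fun s => by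
  refine h _ (N.sum_mem fun k _ => hN _ hv) ?_
  rw [map_sum]
  have h1 := Finset.sum_range_succ (fun k => σ (x ^ k * s) v) 65
  rw [Finset.sum_range_succ', hx, pow_zero, add_left_inj] at h1
  rw [← h1]
  exact Finset.sum_congr rfl fun k _ => by rw [← End.mul_apply, ← map_mul, ← mul_assoc, ← pow_succ']

theorem ca_min (hF : Fintype.card F = 64) {R : Submodule K2 M} {hR : ∀ g, R ≤ R.comap (σ g)} (h : R ≠ ⊤)
    {A : Multiset ℕ} (hA : Ch ι (σ.subrepresentation R hR) A) : ∃ (N : Submodule K2 M) (hN : ∀ g, N ≤ N.comap (σ g)),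
      ¬ N ≤ R ∧ ∃ l, Ch ι (σ.subrepresentation N hN) (A + {l}) := by
  obtain ⟨N, ⟨hN, hlt⟩, hm⟩ := exists_minimal_of_wellFoundedLT
    (fun N : Submodule K2 M => (∀ g, N ≤ N.comap (σ g)) ∧ R < N) ⟨⊤, fun _ _ _ => trivial, h.lt_top⟩
  have hR' : ∀ g, R.comap N.subtype ≤ (R.comap N.subtype).comap (σ.subrepresentation N hN g) :=
    fun g v hv => hR g hv
  have h1 : R.comap N.subtype ≠ ⊤ := fun e => hlt.2 (Submodule.comap_subtype_eq_top.1 e)
  have := Submodule.Quotient.nontrivial_iff.2 h1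
  obtain ⟨l, hl⟩ := exists_model (σ := (σ.subrepresentation N hN).quotient _ hR') ι hF fun T hT => by
    set T' := (T.comap (R.comap N.subtype).mkQ).map N.subtype
    have h2 : ∀ g, T' ≤ T'.comap (σ g) := by
      rintro g _ ⟨v, hv, rfl⟩
      exact ⟨σ.subrepresentation N hN g v, hT g hv, rfl⟩
    have h3 : R ≤ T' := fun v hv => ⟨⟨v, hlt.le hv⟩, by
      change Submodule.Quotient.mk _ ∈ T
      rw [(Submodule.Quotient.mk_eq_zero _).2 (by exact hv)]
      exact T.zero_mem, rfl⟩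
    rcases h3.eq_or_lt with e | e
    · refine .inl ((Submodule.eq_bot_iff _).2 fun q hq => ?_)
      obtain ⟨v, rfl⟩ := Submodule.Quotient.mk_surjective _ q
      refine (Submodule.Quotient.mk_eq_zero _).2 ?_
      change (v : M) ∈ R
      rw [e]
      exact ⟨v, hq, rfl⟩
    · refine .inr (Submodule.eq_top_iff'.2 fun q => ?_)
      obtain ⟨v, rfl⟩ := Submodule.Quotient.mk_surjective _ q
      obtain ⟨w, hw, e'⟩ := hm ⟨h2, e⟩ (Submodule.map_subtype_le _ _) v.2
      obtain rfl : w = v := Subtype.ext e'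
      exact hw
  exact ⟨N, hN, hlt.2, l, Ch.add (hN := hR')
    (hA.ca_equiv (Submodule.comapSubtypeEquivOfLe hlt.le).symm fun g v => rfl) (hl.ch hF)⟩

end Gen

theorem ca_frob {Γ : Type*} [Group Γ] (φ : Γ →* G0) (s : Γ) (v : VV) :
    rep φ s (frobenius K2 2 ∘ v) = frobenius K2 2 ∘ rep φ s v := by
  rw [rep_apply, rep_apply, ← fr_mulVec, fr_emb]

/-- The Frobenius map on vectors. -/
noncomputable def caF : VV ≃+ VV := AddEquiv.piCongrRight fun _ => (frobeniusEquiv K2 2).toAddEquiv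

theorem caF_apply (v : VV) : caF v = frobenius K2 2 ∘ v := rfl

theorem caF_smul (a : K2) (v : VV) : caF (a • v) = a ^ 2 • caF v := by
  funext i; simp [caF_apply, frobenius_def, mul_pow]

omit [Fintype F] in
theorem caF_mem {φ : SL(2, F) →* G0} {x : SL(2, F)} {v : VV} : caF v ∈ caR (rep φ) x ↔ v ∈ caR (rep φ) x := by
  rw [mem_caR, mem_caR]
  refine forall_congr' fun s => ?_
  rw [← caF.map_eq_zero_iff (x := ∑ k ∈ Finset.range 65, rep φ (x ^ k * s) v), map_sum]
  simp only [caF_apply, ca_frob]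

omit [Fintype F] in
theorem ca_rank {φ : SL(2, F) →* G0} {R : Submodule K2 VV} {hR : ∀ g, R ≤ R.comap (rep φ g)}
    (h : ∀ v, caF v ∈ R ↔ v ∈ R) (g : SL(2, F)) (μ : K2) :
    finrank K2 (End.eigenspace ((rep φ).subrepresentation R hR g) μ) =
      finrank K2 (End.eigenspace ((rep φ).subrepresentation R hR g) (μ ^ 2)) := by
  have h1 : ∀ (v : R) (ν : K2), v ∈ End.eigenspace ((rep φ).subrepresentation R hR g) ν ↔ rep φ g v = ν • v :=
    fun v ν => End.mem_eigenspace_iff.trans Subtype.ext_iff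
  have h2 : ∀ v : VV, rep φ g (caF v) = μ ^ 2 • caF v ↔ rep φ g v = μ • v := fun v => by
    rw [← caF_smul, caF_apply, ca_frob, ← caF_apply, caF.apply_eq_iff_eq]
  let j : End.eigenspace ((rep φ).subrepresentation R hR g) μ →+
      End.eigenspace ((rep φ).subrepresentation R hR g) (μ ^ 2) := AddMonoidHom.mk'
    (fun v => ⟨⟨caF v.1.1, (h _).2 v.1.2⟩, (h1 _ _).2 ((h2 _).2 ((h1 _ _).1 v.2))⟩)
    fun v w => Subtype.ext (Subtype.ext (map_add caF _ _))
  have hj : Function.Bijective j := ⟨fun v w e => Subtype.ext (Subtype.ext (caF.injective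
    (congrArg (fun z => z.1.1) e))), fun w => by
      obtain ⟨v, hv⟩ := caF.surjective w.1.1
      exact ⟨⟨⟨v, (h _).1 (hv ▸ w.1.2)⟩, (h1 _ _).2 ((h2 _).1 (by rw [hv]; exact (h1 _ _).1 w.2))⟩,
        Subtype.ext (Subtype.ext hv)⟩⟩
  unfold finrank
  rw [rank_eq_of_equiv_equiv (frobenius K2 2) (AddEquiv.ofBijective j hj) (frobeniusEquiv K2 2).bijective
    fun a v => Subtype.ext (Subtype.ext (caF_smul _ _))]

theorem ca_rot (hF : Fintype.card F = 64) {φ : SL(2, F) →* G0} {R : Submodule K2 VV}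
    {hR : ∀ g, R ≤ R.comap (rep φ g)} (h : ∀ v, caF v ∈ R ↔ v ∈ R) {A : Multiset ℕ}
    (hA : Ch ι ((rep φ).subrepresentation R hR) A) : A.map rot = A := by
  refine rot_inv hA.1 fun n hn => ?_
  have hn' : n = 63 ∨ n = 65 := by simpa using hn
  obtain ⟨ξ, hξ⟩ := exists_root (n := n) (by rcases hn' with rfl | rfl <;> decide)
  obtain ⟨g, hg, -⟩ := exists_elt ι hF (n := n) (by omega) (hn'.imp Eq.dvd Eq.dvd) hξ
  have hd : n ∣ 4095 := by rcases hn' with rfl | rfl <;> norm_num
  refine ca_dbl hn' fun k => ?_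
  rw [← hA.finrank_eig hd hξ hg, ← hA.finrank_eig hd hξ hg, ca_rank h, ← pow_mul, mul_comm]

theorem ca_cofix {Γ : Type*} [Group Γ] {φ : Γ →* G0} {ψ : Dual K2 VV} (h0 : ψ ≠ 0)
    (h : ∀ s v, ψ (rep φ s v) = ψ v) : (rep φ).invariants ≠ ⊥ := by
  obtain ⟨B, hB, hg⟩ := FV.form K2
  obtain ⟨c, hc⟩ : ∃ c : VV, ∀ w : VV, ψ w = c ⬝ᵥ w := by
    refine ⟨fun a => ψ (Pi.single a 1), fun w => ?_⟩
    rw [LinearMap.pi_apply_eq_sum_univ]
    refine Finset.sum_congr rfl fun a _ => ?_
    rw [smul_eq_mul, mul_comm]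
    congr 2
    funext j; simp [Pi.single_apply, eq_comm]
  obtain ⟨u, hu⟩ := mulVec_surjective_iff_isUnit.2 hB c
  refine (Submodule.ne_bot_iff _).2 ⟨u, fun s => ?_, fun e => h0 (LinearMap.ext fun w => ?_)⟩
  · have h1 := hg _ (emb_mem (φ s))
    have h2 : ∀ w, c ⬝ᵥ (emb (φ s)).val *ᵥ w = c ⬝ᵥ w := fun w => by rw [← rep_apply, ← hc, ← hc, h]
    rw [rep_apply]
    generalize (emb (φ s)).val = A at h1 h2
    have h3 : Aᵀ *ᵥ c = c := by
      funext a
      have := h2 (Pi.single a 1)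
      rwa [dotProduct_mulVec, ← mulVec_transpose, dotProduct_single_one, dotProduct_single_one] at this
    have h4 : IsUnit (Aᵀ * B) := isUnit_of_mul_isUnit_left (h1.symm ▸ hB)
    exact mulVec_injective_iff_isUnit.2 h4 (by
      change (Aᵀ * B) *ᵥ (A *ᵥ u) = (Aᵀ * B) *ᵥ u
      rw [mulVec_mulVec, h1, ← mulVec_mulVec, hu, h3])
  · rw [hc, ← hu, e]; simp

theorem caseA (hF : Fintype.card F = 64) {φ : SL(2, F) →* G0} (h : Ch ι (rep φ) La) :
    (rep φ).invariants ≠ ⊥ := by
  obtain ⟨ξ, hξ⟩ := exists_root (n := 65) (by decide)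
  obtain ⟨x, hx, ho⟩ := exists_elt ι hF (n := 65) (by norm_num) (.inr dvd_rfl) hξ
  have hR := caR_inv (σ := rep φ) x
  obtain ⟨A, hA⟩ := exists_ch ι hF ((rep φ).subrepresentation _ hR)
  obtain ⟨A', hA'⟩ := exists_ch ι hF ((rep φ).quotient _ hR)
  have e := (hA.add hA').uniq hF h
  have hB : ∀ l ∈ (La : Multiset ℕ), l ∉ B5 := by decide
  have h0 : A.count 0 = 0 := by
    rw [← hA.ca_fix hξ hx, Submodule.finrank_eq_zero, Submodule.eq_bot_iff]
    exact fun v hv => Subtype.ext (caR_fix v.2 (by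
      simpa using congrArg Subtype.val (End.mem_eigenspace_iff.1 hv)))
  have h8 : A'.count 0 = 8 := by
    have := congrArg (Multiset.count 0) e
    rwa [Multiset.count_add, h0, zero_add] at this
  rcases ca_dd (ca_rot hF (fun v => caF_mem) hA) with h1 | h1
  · obtain ⟨N, hN, hle, l, hl⟩ := ca_min hF (fun e' => by
      have : Subsingleton (VV ⧸ caR (rep φ) x) := Submodule.Quotient.subsingleton_iff.2 e'
      rw [← hA'.ca_fix hξ hx, finrank_zero_of_subsingleton] at h8
      omega) hA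
    have h2 : (A + {l}).count 0 ≠ 0 := fun e' => hle (le_caR (ho ▸ pow_orderOf_eq_one x) hN fun v hv hv' => by
      rw [← hl.ca_fix hξ hx, Submodule.finrank_eq_zero, Submodule.eq_bot_iff] at e'
      exact congrArg Subtype.val (e' ⟨v, hv⟩ (End.mem_eigenspace_iff.2 (Subtype.ext (by simpa using hv')))))
    obtain rfl : l = 0 := by
      by_contra hne
      rw [Multiset.count_add, h0, Multiset.count_singleton, if_neg (Ne.symm hne)] at h2
      exact h2 rfl
    have h3 := hl.pressure hF fun l hl => by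
      rcases Multiset.mem_add.1 hl with a | a
      · exact hB l (e ▸ Multiset.mem_add.2 (.inl a))
      · rw [Multiset.mem_singleton.1 a]; decide
    rw [ca_dd_add, h1, show dd {0} = 0 by decide] at h3
    obtain ⟨v, hv, v0⟩ := (Submodule.ne_bot_iff _).1 fun e' : ((rep φ).subrepresentation N hN).invariants = ⊥ => by
      rw [e', finrank_bot] at h3
      omega
    exact (Submodule.ne_bot_iff _).2 ⟨v, fun s => congrArg Subtype.val (hv s), fun e' => v0 (Subtype.ext e')⟩
  · have h2 := ca_dd_add A A'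
    rw [e, show dd (La : Multiset ℕ) = 12 by decide] at h2
    have h3 := hA'.dual.pressure hF fun l hl => hB l (e ▸ Multiset.mem_add.2 (.inr hl))
    obtain ⟨ψ, hψ, ψ0⟩ := (Submodule.ne_bot_iff _).1 fun e' : ((rep φ).quotient _ hR).dual.invariants = ⊥ => by
      rw [e', finrank_bot] at h3
      omega
    refine ca_cofix (ψ := ψ ∘ₗ (caR (rep φ) x).mkQ) (fun e' => ψ0 (LinearMap.ext fun q => ?_)) fun s v => ?_
    · obtain ⟨v, rfl⟩ := Submodule.Quotient.mk_surjective _ q
      exact LinearMap.congr_fun e' v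
    · have := LinearMap.congr_fun (hψ s⁻¹) (Submodule.Quotient.mk v)
      rw [Representation.dual_apply, inv_inv] at this
      exact this

end Cfsg.Agent.E82
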