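import Mathlib
import Cfsg.Agent.E82.Zel

/-!
# The complement of the Steinberg component
-/

set_option autoImplicit false
set_option linter.unusedSectionVars false

namespace Cfsg.Agent.E82

open Cfsg.Lie Cfsg.Lie.ChevalleyDatum Cfsg.Agent.Chev Cfsg.Agent.Chev.S2M Matrix MatrixGroups Polynomial Module

variable {F : Type*} [Field F] [Fintype F] {ι : F →+* K2} {M : Type} [AddCommGroup M] [Module K2 M]
  [FiniteDimensional K2 M] {σ : Representation K2 SL(2, F) M}

namespace CaseC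

section
variable {M' : Type} [AddCommGroup M'] [Module K2 M'] [FiniteDimensional K2 M'] {σ' : Representation K2 SL(2, F) M'}

theorem map_zz {f : M →ₗ[K2] M'} (h : ∀ g x, f (σ g x) = σ' g (f x)) (x : M) : f (zz σ x) = zz σ' (f x) := by
  simp only [zz, LinearMap.sum_apply, map_sum, h]

theorem map_pow {f : M →ₗ[K2] M'} {a : End K2 M} {b : End K2 M'} (h : ∀ x, f (a x) = b (f x)) (n : ℕ) (x : M) :
    f ((a ^ n) x) = (b ^ n) (f x) := by
  induction n with
  | zero => rfl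
  | succ n ih => rw [pow_succ', pow_succ', End.mul_apply, End.mul_apply, h, ih]

end

theorem sub_zz {N : Submodule K2 M} (hN : ∀ g, N ≤ N.comap (σ g)) (x : N) :
    N.subtype (zz (σ.subrepresentation N hN) x) = zz σ (N.subtype x) := map_zz (fun _ _ => rfl) x

theorem quo_zz {N : Submodule K2 M} (hN : ∀ g, N ≤ N.comap (σ g)) (x : M) :
    N.mkQ (zz σ x) = zz (σ.quotient N hN) (N.mkQ x) := map_zz (fun _ _ => rfl) x

theorem map_zz_conj (g : SL(2, F)) (x : M) : σ g (zz σ x) = zz σ (σ g x) :=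
  LinearMap.congr_fun (zz_comm (e := σ g) (α := MulAut.conj g) fun s => by
    rw [← map_mul, ← map_mul, MulAut.conj_apply, inv_mul_cancel_right]) x

theorem len_le {A : Multiset ℕ} (h : Ch ι σ A) {l : ℕ} (hl : l ∈ A) : (js l).length ≤ finrank K2 M := by
  have := Multiset.card_le_card (Multiset.le_bind (f := fun l => (wts l : Multiset ℕ)) A hl)
  rwa [Multiset.coe_card, wts, List.length_map, ← WW, ← h.finrank_eq] at this

theorem fr_eq (hF : Fintype.card F = 64) {l : ℕ} (h : Model ι σ l) : finrank K2 M = (js l).length := by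
  rw [(h.ch hF).finrank_eq, WW, Multiset.singleton_bind, Multiset.coe_card, wts, List.length_map]

theorem not_triv (hF : Fintype.card F = 64) {l : ℕ} (h : Model ι σ l) (h0 : ∀ x : M, x = 0) : False := by
  have := finrank_zero_iff_forall_zero (K := K2) |>.2 h0
  rw [fr_eq hF h, List.length_eq_zero_iff] at this
  simpa [this] using (show 0 ∈ js l by simp [js])

theorem nil (hF : Fintype.card F = 64) {A : Multiset ℕ} (h : Ch ι σ A) :
    (∀ x, ∃ k : ℕ, (zz σ ^ k) x = 0) → 63 ∉ A := by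
  refine ch_ind hF (fun M _ _ _ σ A => (∀ x, ∃ k : ℕ, (zz σ ^ k) x = 0) → 63 ∉ A) (fun _ _ _ _ _ _ _ => by simp)
    (fun M _ _ _ σ l hl h1 h2 => ?_) (fun M _ _ _ σ N hN A B h1 h2 h3 h4 => ?_) h
  · obtain rfl := Multiset.mem_singleton.1 h2
    exact not_triv hF hl fun x => by simpa [hl.zz_one hF] using h1 x
  · refine (Multiset.mem_add.1 h4).elim (h1 fun x => ?_) (h2 fun x => ?_)
    · exact (h3 x).imp fun k hk => Subtype.ext ((map_pow (sub_zz hN) k x).trans hk)
    · obtain ⟨x, rfl⟩ := N.mkQ_surjective x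
      exact (h3 x).imp fun k hk => by rw [← map_pow (quo_zz hN), hk, map_zero]

theorem inj (hF : Fintype.card F = 64) {A : Multiset ℕ} (h : Ch ι σ A) :
    Function.Injective (zz σ) → ∀ l ∈ A, l = 63 := by
  refine ch_ind hF (fun M _ _ _ σ A => Function.Injective (zz σ) → ∀ l ∈ A, l = 63) (fun _ _ _ _ _ _ _ => by simp)
    (fun M _ _ _ σ l hl h1 l' h2 => ?_) (fun M _ _ _ σ N hN A B h1 h2 h3 l h4 => ?_) h
  · obtain rfl := Multiset.mem_singleton.1 h2
    by_contra h3
    exact not_triv hF hl fun x => h1 (by simp [hl.zz_zero hF h3])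
  · refine (Multiset.mem_add.1 h4).elim (h1 (fun x y e => ?_) l) (h2 (LinearMap.injective_iff_surjective.2 fun x => ?_) l)
    · exact Subtype.ext (h3 ((sub_zz hN x).symm.trans ((congrArg _ e).trans (sub_zz hN y))))
    · obtain ⟨x, rfl⟩ := N.mkQ_surjective x
      obtain ⟨x, rfl⟩ := LinearMap.injective_iff_surjective.1 h3 x
      exact ⟨_, (quo_zz hN x).symm⟩

section
variable {M' : Type} [AddCommGroup M'] [Module K2 M'] [FiniteDimensional K2 M'] {σ' : Representation K2 SL(2, F) M'}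
  {D : Type} [AddCommGroup D] [Module K2 D] [FiniteDimensional K2 D] {τ : Representation K2 SL(2, F) D}

variable (σ σ' τ) in
/-- All equivariant bilinear maps vanish. -/
def Van : Prop := ∀ β : M →ₗ[K2] M' →ₗ[K2] D, (∀ g a b, β (σ g a) (σ' g b) = τ g (β a b)) → β = 0

theorem Van.symm (h : Van σ σ' τ) : Van σ' σ τ := fun β hβ =>
  LinearMap.ext₂ fun a b => LinearMap.congr_fun₂ (h β.flip fun g a b => hβ g b a) b a

theorem van_ind (hF : Fintype.card F = 64) (h0 : ∀ (M : Type) [AddCommGroup M] [Module K2 M] [FiniteDimensional K2 M]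
    (σ : Representation K2 SL(2, F) M), finrank K2 M ≤ 4 → Van σ σ' τ) {A : Multiset ℕ} (h : Ch ι σ A) :
    (∀ l ∈ A, (js l).length ≤ 4) → Van σ σ' τ := by
  refine ch_ind hF (fun M _ _ _ σ A => (∀ l ∈ A, (js l).length ≤ 4) → Van σ σ' τ)
    (fun M _ _ _ _ σ _ => h0 M σ (by simp [finrank_zero_of_subsingleton]))
    (fun M _ _ _ σ l hl h1 => h0 M σ (fr_eq hF hl ▸ h1 l (by simp)))
    (fun M _ _ _ σ N hN A B h1 h2 h3 β hβ => ?_) h
  have k1 := h1 (fun l hl => h3 l (by simp [hl])) (β ∘ₗ N.subtype) fun g a b => hβ g a b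
  have k2 : N ≤ LinearMap.ker β := fun x hx => LinearMap.congr_fun k1 ⟨x, hx⟩
  have k3 := h2 (fun l hl => h3 l (by simp [hl])) (N.liftQ β k2) fun g a b => by
    obtain ⟨a, rfl⟩ := N.mkQ_surjective a
    exact hβ g a b
  exact LinearMap.ext fun a => LinearMap.congr_fun k3 (N.mkQ a)

theorem van_base (hF : Fintype.card F = 64) {B : Multiset ℕ} (h : Ch ι τ B) (hB : ∀ l ∈ B, l = 63)
    (h1 : finrank K2 M ≤ 4) (h2 : finrank K2 M' ≤ 4) : Van σ σ' τ := fun β hβ => by
  have hN : ∀ g, LinearMap.range (TensorProduct.lift β) ≤ (LinearMap.range (TensorProduct.lift β)).comap (τ g) := by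
    rintro g _ ⟨t, rfl⟩
    exact ⟨TensorProduct.map (σ g) (σ' g) t, LinearMap.congr_fun (TensorProduct.ext' (g := TensorProduct.lift β ∘ₗ
      TensorProduct.map (σ g) (σ' g)) (h := τ g ∘ₗ TensorProduct.lift β) fun a b => hβ g a b) t⟩
  obtain ⟨B1, k1⟩ := exists_ch ι hF (τ.subrepresentation _ hN)
  obtain ⟨B2, k2⟩ := exists_ch ι hF (τ.quotient _ hN)
  obtain rfl := (k1.add k2).uniq hF h
  have k3 := (TensorProduct.lift β).finrank_range_le
  rw [finrank_tensorProduct] at k3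
  obtain rfl : B1 = 0 := Multiset.eq_zero_of_forall_notMem fun l hl => by
    have k4 := len_le k1 hl
    rw [hB l (by simp [hl]), show (js 63).length = 64 by decide +kernel] at k4
    have := Nat.mul_le_mul h1 h2
    omega
  have k4 := k1.finrank_eq
  rw [WW, Multiset.zero_bind, Multiset.card_zero, Submodule.finrank_eq_zero, LinearMap.range_eq_bot] at k4
  exact LinearMap.ext₂ fun a b => LinearMap.congr_fun k4 (a ⊗ₜ b)

end

end CaseC

open CaseC in
theorem caseC (hF : Fintype.card F = 64) {A : Multiset ℕ} (h : Ch ι σ A)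
    (h1 : ∀ l ∈ A, l = 63 ∨ (js l).length ≤ 4) (h2 : 63 ∈ A) (β : M →ₗ[K2] M →ₗ[K2] M)
    (hβ : ∀ g a b, β (σ g a) (σ g b) = σ g (β a b)) :
    (zz σ).maxGenEigenspace 0 ≠ ⊤ ∧
      (∀ a ∈ (zz σ).maxGenEigenspace 0, ∀ b ∈ (zz σ).maxGenEigenspace 0,
        β a b ∈ (zz σ).maxGenEigenspace 0) ∧
      ∀ (x : SL(2, F)) (ξ : K2), IsPrimitiveRoot ξ 65 → Eig ι x ξ → ∀ v, σ x v = v →
        v ∈ (zz σ).maxGenEigenspace 0 := by
  have hm : ∀ x, x ∈ (zz σ).maxGenEigenspace 0 ↔ ∃ k : ℕ, (zz σ ^ k) x = 0 := fun x => by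
    simp [End.mem_maxGenEigenspace]
  generalize (zz σ).maxGenEigenspace 0 = W at hm ⊢
  have hN : ∀ g, W ≤ W.comap (σ g) := fun g x hx => (hm _).2 (((hm x).1 hx).imp fun k hk => by
    rw [← map_pow (f := σ g) (a := zz σ) (map_zz_conj g), hk, map_zero])
  obtain ⟨A1, k1⟩ := exists_ch ι hF (σ.subrepresentation W hN)
  obtain ⟨A2, k2⟩ := exists_ch ι hF (σ.quotient W hN)
  have k3 := nil hF k1 fun x => ((hm x).1 x.2).imp fun k hk => Subtype.ext ((map_pow (sub_zz hN) k x).trans hk)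
  have k4 := inj hF k2 ((injective_iff_map_eq_zero _).2 fun x hx => by
    obtain ⟨x, rfl⟩ := W.mkQ_surjective x
    obtain ⟨k, hk⟩ := (hm _).1 ((Submodule.Quotient.mk_eq_zero W).1 ((quo_zz hN x).trans hx))
    exact (Submodule.Quotient.mk_eq_zero W).2 ((hm x).2 ⟨k + 1, by rw [pow_succ]; exact hk⟩))
  obtain rfl := (k1.add k2).uniq hF h
  have k5 : ∀ l ∈ A1, (js l).length ≤ 4 := fun l hl => (h1 l (by simp [hl])).resolve_left fun e => k3 (e ▸ hl)
  refine ⟨fun e => nil hF h (fun x => (hm x).1 (e ▸ trivial)) h2, fun a ha b hb => ?_, fun x ξ hξ hx v hv => ?_⟩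
  · have k6 : Van (σ.subrepresentation W hN) (σ.subrepresentation W hN) (σ.quotient W hN) :=
      van_ind hF (fun M _ _ _ σ1 e1 => (van_ind hF (fun M _ _ _ σ2 e2 => van_base hF k2 k4 e2 e1) k1 k5).symm) k1 k5
    exact (Submodule.Quotient.mk_eq_zero W).1 (LinearMap.congr_fun₂
      (k6 ((β.domRestrict₁₂ W W).compr₂ W.mkQ) fun g a b => congrArg W.mkQ (hβ g a b)) ⟨a, ha⟩ ⟨b, hb⟩)
  · have k6 := k2.finrank_eig (by norm_num) hξ hx 0
    rw [Multiset.count_eq_zero.2 fun e => ?_, Submodule.finrank_eq_zero, pow_zero] at k6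
    · refine (Submodule.Quotient.mk_eq_zero W).1 ((Submodule.mem_bot K2).1 (k6 ▸ End.mem_eigenspace_iff.2 ?_))
      rw [one_smul]
      exact congrArg W.mkQ hv
    · obtain ⟨w, hw, e⟩ := Multiset.mem_map.1 e
      obtain ⟨l, hl, hw⟩ := Multiset.mem_bind.1 hw
      rw [k4 l hl] at hw
      exact (by decide +kernel : ∀ w ∈ wts 63, w % 65 ≠ 0 % 65) w hw e

end Cfsg.Agent.E82
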