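import Mathlib
import Cfsg.Agent.E82.Defs
import Cfsg.Agent.FV.Irr

/-!
# Irreducibility of the adjoint module; parity facts on roots
-/

set_option autoImplicit false

namespace Cfsg.Agent.E82

open Cfsg.Lie Cfsg.Lie.ChevalleyDatum Cfsg.Agent.Chev Cfsg.Agent.Chev.S2M Matrix MatrixGroups Polynomial Module

namespace Irr

open FV

/-- The highest root. -/
def th : chevE8.Rt := ⟨239, by decide +kernel⟩

/-- A simple root. -/
def sa : chevE8.Rt := ⟨120, by decide +kernel⟩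

/-- The difference of the two. -/
def sb : chevE8.Rt := ⟨238, by decide +kernel⟩

theorem dom_tab : ∀ r < chevE8.nroots, chevE8.IsDom r → r = 239 := by unfold IsDom; decide +kernel

theorem dom_eq {r : chevE8.Rt} (h : chevE8.IsDom r) : r = th := Fin.ext (dom_tab r r.2 h)

theorem trans {P : chevE8.Rt → Prop} (h : ∀ i r, P r → P (chevE8.sref i r)) {r : chevE8.Rt} (hr : P r)
    (s : chevE8.Rt) : P s := by
  have k : ∀ r, P r ↔ P th := chevE8.dom_induction (fun r h => by rw [dom_eq h]) fun i r e =>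
    ⟨fun a => e.1 (h i r a), fun a => by simpa only [sref_sref] using h i _ (e.2 a)⟩
  exact (k s).2 ((k r).1 hr)

theorem pair_tab : ∀ s : chevE8.Rt, chevE8.pairing th s ≤ 2 ∧ (s = chevE8.ng th ∨ -1 ≤ chevE8.pairing th s) := by
  decide +kernel

theorem ent_tab : chevE8.chainEntry sa (chevE8.ng th) = [((chevE8.ng sb : ℕ), -1)] ∧
    chevE8.chainEntry th (chevE8.ng sb) = [((sa : ℕ), 1)] ∧ chevE8.chainEntry sb sa = [((th : ℕ), -1)] ∧
    (chevE8.ng th ≠ sa ∧ chevE8.ng th ≠ chevE8.ng sa) ∧ (chevE8.ng sb ≠ th ∧ chevE8.ng sb ≠ chevE8.ng th) ∧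
    (sa ≠ sb ∧ sa ≠ chevE8.ng sb) ∧ chevE8.pairing th sa = 1 ∧ chevE8.pairing th sb = 1 := by
  decide +kernel

variable {D : ChevalleyDatum} [D.Good] {K : Type*} [Field K]

/-- All components have degree at least `k`. -/
def Deg (θ : D.Rt) (k : ℤ) (v : D.Idx → K) : Prop := ∀ a, v a ≠ 0 → k ≤ D.cw θ ⬝ᵥ D.wtI a

theorem Deg.step {θ r : D.Rt} {k c : ℤ} {v : D.Idx → K} (h : Deg θ k v) (hc : D.pairing θ r = c) (h0 : 0 ≤ c) :
    Deg θ (k + c) ((D.xR K r 1 - 1) *ᵥ v) := fun a ha => by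
  rw [Matrix.mulVec, dotProduct] at ha
  obtain ⟨b, -, hb⟩ := Finset.exists_ne_zero_of_sum_ne_zero ha
  obtain ⟨n, hn⟩ : ∃ n : ℕ, D.wtI a = D.wtI b + ((n : ℤ) + 1) • D.wt r := by
    by_contra! hn
    have := D.X_entry_eq K r 1 hn
    rw [coe_X_eq_xR] at this
    exact left_ne_zero_of_mul hb (by rw [Matrix.sub_apply, this, Matrix.one_apply, sub_self])
  have := h b (right_ne_zero_of_mul hb)
  rw [hn, dotProduct_add, dotProduct_smul, ← pairing_eq_dot, hc, smul_eq_mul]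
  nlinarith [mul_nonneg (Int.natCast_nonneg n) h0]

theorem step_eN {r s : D.Rt} (h : s ≠ r ∧ s ≠ D.ng r) {u : ℕ} {c : ℤ} (e : D.chainEntry r s = [(u, c)]) :
    (D.xR K r 1 - 1) *ᵥ D.eN K s = (c : K) • D.eN K u := by
  rw [Matrix.sub_mulVec, D.xR_mulVec_eN_of_ne K h.1 h.2, e]
  simp

theorem rk_one (v : chevE8.Idx → K) :
    (chevE8.xR K sb 1 - 1) *ᵥ ((chevE8.xR K th 1 - 1) *ᵥ ((chevE8.xR K sa 1 - 1) *ᵥ v)) =
      v (Sum.inr (chevE8.ng th)) • chevE8.eN K th := by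
  obtain ⟨e1, e2, e3, n1, n2, n3, p1, p2⟩ := ent_tab
  have d : Deg th (-1) (v - v (Sum.inr (chevE8.ng th)) • chevE8.eN K (chevE8.ng th)) := by
    rintro (i | s) h
    · simp [wtI]
    · refine (pair_tab s).2.elim (fun e => absurd ?_ h) fun e => by rwa [pairing_eq_dot] at e
      simp [e, eN_inr]
  have z := ((d.step p1 zero_le_one).step (chevE8.pairing_self th) zero_le_two).step p2 zero_le_one
  rw [← sub_eq_zero]
  funext a
  by_contra h
  have : (3 : ℤ) ≤ chevE8.cw th ⬝ᵥ chevE8.wtI a := by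
    refine z a fun e => h (Eq.trans ?_ e)
    simp only [Matrix.mulVec_sub, Matrix.mulVec_smul, step_eN n1 e1, step_eN n2 e2, step_eN n3 e3, smul_smul]
    simp
  rcases a with i | s
  · simp [wtI] at this
  · have h2 := (pair_tab s).1
    rw [pairing_eq_dot] at h2
    exact absurd (this.trans h2) (by decide)

theorem nu_inr (i : D.Nd) (s : D.Rt) (v : D.Idx → K) :
    (D.nu K i *ᵥ v) (Sum.inr (D.sref i s)) = D.eta i s * v (Sum.inr s) := by
  have e : ∀ u : D.Rt, ((D.sref i s : D.Rt) : ℕ) = D.reflectRoot i u ↔ u = s := fun u =>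
    ⟨fun h => ((D.sref i).injective (Fin.ext h)).symm, fun h => h ▸ rfl⟩
  simp [nu, nuMat, Matrix.mulVec, dotProduct, e]

omit [D.Good] in
theorem eta_ne [D.Good] (i s : ℕ) : (D.eta i s : K) ≠ 0 := by rcases D.eta_sign i s with h | h <;> simp [h]

theorem cartan_part {v : chevE8.Idx → K} (h : Sup chevE8 ∅ v) (hc : ∀ j, rt chevE8 (chevE8.sr j) v = 0) : v = 0 := by
  funext a
  rcases a with k | s
  · have : ∑ j : chevE8.Nd, (cartanInvE8 j k : K) * rt chevE8 (chevE8.sr j) v = v (Sum.inl k) := by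
      simp only [rt, Finset.mul_sum]
      rw [Finset.sum_comm, Finset.sum_congr rfl (g := fun i => if i = k then v (Sum.inl i) else 0)]
      · simp
      intro i _
      have := congrArg (fun n : ℤ => (n : K) * v (Sum.inl i)) (cartanInvE8_spec i k)
      simp only [Int.cast_sum, Int.cast_mul, Finset.sum_mul, Int.cast_ite, Int.cast_one, Int.cast_zero, ite_mul,
        one_mul, zero_mul] at this
      rw [← this]
      exact Finset.sum_congr rfl fun j _ => by simp only [wt, sr_val]; ring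
    simpa [hc] using this.symm
  · exact not_not.1 (h s)

theorem odd_tab : ∀ r : chevE8.Rt, ∃ i, ¬ (2 : ℤ) ∣ chevE8.wt r i := by unfold wt; decide +kernel

theorem par_tab : ∀ s : chevE8.Rt, (∀ i, chevE8.wt th i % 2 = chevE8.wt s i % 2) → s = th ∨ s = chevE8.ng th := by
  unfold wt; decide +kernel

end Irr

open Irr FV

theorem irr {W : Submodule K2 VV} (hW : ∀ a : G0, ∀ v ∈ W, (emb a).val *ᵥ v ∈ W) : W = ⊥ ∨ W = ⊤ := by
  have hX : ∀ (r : chevE8.Rt) (t : ZMod 2), ∀ v ∈ W, chevE8.xR K2 r (algebraMap _ K2 t) *ᵥ v ∈ W := by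
    intro r t v hv
    have := hW ⟨_, chevE8.X_mem_group (ZMod 2) r t⟩ v hv
    rwa [coe_emb, coe_X_eq_xR, xR_map] at this
  have h1 : ∀ r : chevE8.Rt, ∀ v ∈ W, chevE8.xR K2 r 1 *ᵥ v ∈ W := fun r v hv => by simpa using hX r 1 v hv
  have h2 : ∀ r : chevE8.Rt, ∀ v ∈ W, (chevE8.xR K2 r 1 - 1) *ᵥ v ∈ W := fun r v hv => by
    rw [Matrix.sub_mulVec, Matrix.one_mulVec]; exact W.sub_mem (h1 r v hv) hv
  have h3 : ∀ i, ∀ v ∈ W, chevE8.nu K2 i *ᵥ v ∈ W := fun i v hv => by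
    rw [← coe_nuG, ← nR_sr, nR, Units.val_mul, Units.val_mul, ← Matrix.mulVec_mulVec, ← Matrix.mulVec_mulVec]
    have := hX (chevE8.ng (chevE8.sr i)) (-1) _ (h1 (chevE8.sr i) v hv)
    rw [map_neg, map_one, ng_val] at this
    rw [coe_XR, coe_XR]
    exact h1 (chevE8.sr i) _ this
  refine or_iff_not_imp_left.2 fun h0 => ?_
  obtain ⟨r, hr⟩ : ∃ r : chevE8.Rt, ∃ v ∈ W, v (Sum.inr r) ≠ 0 := by
    obtain ⟨v, hv, hn⟩ := W.ne_bot_iff.1 h0
    by_cases h : Sup chevE8 ∅ v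
    swap
    · obtain ⟨s, hs⟩ : ∃ s, v (Sum.inr s) ≠ 0 := by simpa [Sup] using h
      exact ⟨s, v, hv, hs⟩
    obtain ⟨j, hj⟩ := not_forall.1 fun hc => hn (cartan_part h hc)
    have h4 := W.sub_mem hv (h1 (chevE8.sr j) v hv)
    rw [← hp_eq_self h, xR_mulVec_hp, sub_sub_cancel, mul_one, W.smul_mem_iff hj] at h4
    exact ⟨chevE8.sr j, _, h4, by simp [eN_inr]⟩
  obtain ⟨v, hv, hn⟩ := Irr.trans (P := fun r => ∃ v ∈ W, v (Sum.inr r) ≠ 0)
    (fun i r ⟨v, hv, hn⟩ => ⟨_, h3 i v hv, by rw [nu_inr]; exact mul_ne_zero (eta_ne _ _) hn⟩) hr (chevE8.ng th)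
  have h5 := h2 sb _ (h2 th _ (h2 sa v hv))
  rw [rk_one, W.smul_mem_iff hn] at h5
  have h6 : ∀ s : chevE8.Rt, chevE8.eN K2 s ∈ W := Irr.trans (P := fun s => chevE8.eN K2 s ∈ W) (fun i r h => by
    have := h3 i _ h
    rwa [nu_mulVec_eN, W.smul_mem_iff (eta_ne _ _)] at this) h5
  rw [eq_top_iff, ← (Pi.basisFun K2 chevE8.Idx).span_eq, Submodule.span_le]
  rintro _ ⟨i | s, rfl⟩
  · have := W.add_mem (W.sub_mem (h1 (chevE8.sr i) _ (h6 (chevE8.ng (chevE8.sr i)))) (h6 (chevE8.ng (chevE8.sr i))))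
      (h6 (chevE8.sr i))
    rw [xR_mulVec_eN_ng, cw_sr, hV_single, hN_eq_single] at this
    rw [Pi.basisFun_apply, SetLike.mem_coe]
    convert this using 1
    module
  · rw [Pi.basisFun_apply, ← eN_eq_single]; exact h6 s

theorem exists_wt_ne_zero (r : chevE8.Rt) : ∃ i, ((chevE8.wt r i : ℤ) : K2) ≠ 0 :=
  (odd_tab r).imp fun _ h e => h ((CharP.intCast_eq_zero_iff K2 2 _).1 e)

theorem exists_wt_ne {r s : chevE8.Rt} (h1 : s ≠ r) (h2 : s ≠ chevE8.ng r) :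
    ∃ i, ((chevE8.wt r i : ℤ) : K2) ≠ (chevE8.wt s i : ℤ) := by
  by_contra! h
  refine not_or.2 ⟨h1, h2⟩ ?_
  clear h1 h2
  revert s
  refine chevE8.dom_induction (P := fun r => ∀ {s : chevE8.Rt},
    (∀ i, ((chevE8.wt r i : ℤ) : K2) = (chevE8.wt s i : ℤ)) → s = r ∨ s = chevE8.ng r) (fun r h s e => ?_)
    (fun i r h s e => ?_) r
  · rw [dom_eq h] at e ⊢
    exact par_tab s fun i => (CharP.intCast_eq_intCast K2 2).1 (e i)
  · have := @h (chevE8.sref i s) fun j => by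
      have := e i
      simp only [wt_sref, Pi.sub_apply, Pi.smul_apply, smul_eq_mul, Int.cast_sub, Int.cast_mul, e j]
      rw [wt, wt] at this
      rw [this]
    rwa [← sref_ng, (chevE8.sref i).apply_eq_iff_eq, (chevE8.sref i).apply_eq_iff_eq] at this

end Cfsg.Agent.E82
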