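import Mathlib
import Cfsg.Agent.E82.Irr
import Cfsg.Agent.FV.Lang

/-!
# The fixed subalgebra of a torus element
-/

set_option autoImplicit false

namespace Cfsg.Agent.E82

open Cfsg.Lie Cfsg.Lie.ChevalleyDatum Cfsg.Agent.Chev Cfsg.Agent.FV Matrix Module

theorem single_mem {n K : Type*} [Fintype n] [DecidableEq n] [Field K] (W : Submodule K (n → K)) (r : n)
    (h : ∀ s ≠ r, Pi.single s 1 ∈ W ∨ ∃ d : n → K, d s ≠ d r ∧ ∀ v ∈ W, d * v ∈ W) {u : n → K}
    (hu : u ∈ W) (hr : u r ≠ 0) : Pi.single r 1 ∈ W := by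
  have key : ∀ S : Finset n, r ∉ S → ∃ v ∈ W, v r ≠ 0 ∧ ∀ s ∈ S, v s = 0 := fun S => by
    induction S using Finset.induction_on with
    | empty => exact fun _ => ⟨u, hu, hr, by simp⟩
    | insert a S _ ih =>
      intro hS
      rw [Finset.mem_insert, not_or] at hS
      obtain ⟨v, hv, h1, h2⟩ := ih hS.2
      rcases h a (Ne.symm hS.1) with h3 | ⟨d, h3, h4⟩
      · refine ⟨v - v a • Pi.single a 1, W.sub_mem hv (W.smul_mem _ h3), by simpa [hS.1] using h1,
          fun s hs => ?_⟩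
        by_cases e : s = a
        · simp [e]
        · simp [e, h2 s ((Finset.mem_insert.1 hs).resolve_left e)]
      · refine ⟨d * v - d a • v, W.sub_mem (h4 v hv) (W.smul_mem _ hv), ?_, fun s hs => ?_⟩
        · simpa [← sub_mul, sub_eq_zero, h1] using h3.symm
        · rcases Finset.mem_insert.1 hs with rfl | hs
          · simp
          · simp [h2 s hs]
  obtain ⟨v, hv, h1, h2⟩ := key (Finset.univ.erase r) (by simp)
  convert W.smul_mem (v r)⁻¹ hv using 1
  funext s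
  by_cases e : s = r
  · simp [e, h1]
  · simp [e, h2 s (by simp [e])]

variable {β : VV →ₗ[K2] VV →ₗ[K2] VV} {χ : ℕ → K2ˣ}

theorem IsBr.hp_eq (hβ : IsBr β) (u w : VV) :
    β (hp chevE8 u) w = Sum.elim (fun _ => 0) (fun r : chevE8.Rt => rt chevE8 r u) * w := by
  conv_lhs => rw [eq_hp_add w, map_add, hβ.hp_hp, zero_add, map_sum]
  funext a
  rcases a with i | r <;> simp [hβ.hp_eN, eN_inl, eN_inr, mul_comm]

theorem rt_single (r : ℕ) (i : chevE8.Nd) :
    rt chevE8 r (Pi.single (Sum.inl i) (1 : K2)) = (chevE8.wt r i : ℤ) := by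
  simp [rt, Pi.single_apply]

theorem charG_mulVec (v : VV) : (chevE8.charG K2 χ).val *ᵥ v =
    Sum.elim (fun _ => 1) (fun r : chevE8.Rt => (χ r : K2)) * v := by
  funext a
  rw [coe_charG, charDiag, mulVec_diagonal, Pi.mul_apply]

theorem fix_iff {v : VV} : (chevE8.charG K2 χ).val *ᵥ v = v ↔ Sup chevE8 {r | χ r = 1} v := by
  rw [charG_mulVec]
  refine ⟨fun h r hr => Units.val_eq_one.1 (mul_right_cancel₀ hr ((congrFun h (.inr r)).trans (one_mul _).symm)),
    fun h => funext fun a => ?_⟩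
  rcases a with i | r
  · simp
  · by_cases e : v (.inr r) = 0
    · simp [e]
    · simp [show χ r = 1 from h r e]

theorem fix_hp (v : VV) : (chevE8.charG K2 χ).val *ᵥ hp chevE8 v = hp chevE8 v := fix_iff.2 (sup_hp v _)

theorem fix_eN {r : chevE8.Rt} (h : χ r = 1) :
    (chevE8.charG K2 χ).val *ᵥ chevE8.eN K2 r = chevE8.eN K2 r := by
  rw [coe_charG, charDiag_mulVec_eN, h, Units.val_one, one_smul]

theorem TX_ind {S : Set chevE8.Rt} {P : GG → Prop} (h1 : ∀ t ∈ chevE8.diagonalSubgroup K2, P t)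
    (h2 : ∀ r ∈ S, ∀ c, P (chevE8.X K2 r c)) (h3 : ∀ a b, P a → P b → P (a * b)) {y : GG}
    (hy : y ∈ TX chevE8 K2 S) : P y := by
  obtain ⟨x, hx, t, ht, rfl⟩ := TX_factor hy
  exact h3 _ _ (chevE8.XS_monoid_induction K2 (h1 1 (one_mem _)) h2 h3 hx) (h1 t ht)

theorem TX_commute (hχ : chevE8.IsRootCharacter χ) {y : GG} (hy : y ∈ TX chevE8 K2 {r | χ r = 1}) :
    Commute y (chevE8.charG K2 χ) := by
  refine TX_ind (P := fun y => Commute y _) (fun t ht => ?_) (fun r hr c => ?_) (fun _ _ => Commute.mul_left) hy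
  · obtain ⟨ψ, -, rfl⟩ := chevE8.exists_char_of_mem_diagonal K2 ht
    rw [Commute, SemiconjBy, ← charG_mul, ← charG_mul, mul_comm]
  · have := chevE8.charG_conj_X K2 hχ r c
    rw [show χ r = 1 from hr, Units.val_one, one_mul, mul_inv_eq_iff_eq_mul] at this
    exact this.symm

theorem IsBr.cen_fix (hβ : IsBr β) {u : VV} (h2 : ∀ w, (chevE8.charG K2 χ).val *ᵥ w = w → β u w = 0) {y : GG}
    (hy : y ∈ TX chevE8 K2 {r | χ r = 1}) : y.val *ᵥ u = u := by
  have e : hp chevE8 u = u := hp_eq_self fun r hr => by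
    obtain ⟨i, hi⟩ := exists_wt_ne_zero r
    have := congrFun (h2 _ (fix_hp (Pi.single (.inl i) 1))) (.inr r)
    rw [hβ.symm, hβ.hp_eq, Pi.mul_apply, Sum.elim_inr, rt_single] at this
    exact (mul_ne_zero hi hr this).elim
  refine TX_ind (P := fun y => y.val *ᵥ u = u) (fun t ht => ?_) (fun r hr c => ?_) (fun a b ha hb => ?_) hy
  · obtain ⟨ψ, -, rfl⟩ := chevE8.exists_char_of_mem_diagonal K2 ht
    rw [← e]; exact fix_hp u
  · have := congrFun (h2 _ (fix_eN hr)) (.inr r)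
    rw [← e, hβ.hp_eN] at this
    rw [← e, X_mulVec_hp, show rt chevE8 r u = 0 by simpa [eN_inr] using this]
    simp
  · rw [Units.val_mul, ← mulVec_mulVec, hb, ha]

theorem IsBr.sub_inv (hβ : IsBr β) (hχ : chevE8.IsRootCharacter χ) {W : Submodule K2 VV}
    (h1 : ∀ v, (chevE8.charG K2 χ).val *ᵥ v = v → v ∈ W) (h2 : ∀ a ∈ W, ∀ b ∈ W, β a b ∈ W)
    (h3 : ∀ v ∈ W, (chevE8.charG K2 χ).val *ᵥ v ∈ W) {y : GG}
    (hy : y ∈ TX chevE8 K2 {r | χ r = 1}) : ∀ v ∈ W, y.val *ᵥ v ∈ W := by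
  have hh : ∀ v, hp chevE8 v ∈ W := fun v => h1 _ (fix_hp v)
  have he : ∀ u ∈ W, ∀ r : chevE8.Rt, u (.inr r) ≠ 0 → chevE8.eN K2 r ∈ W := fun u hu r hr => by
    rw [eN_eq_single]
    refine single_mem W _ ?_ hu hr
    rintro (i | s) hs
    · refine .inl (h1 _ (fix_iff.2 fun r hr => by simp at hr))
    by_cases e : s = chevE8.ng r
    · by_cases e' : χ r = 1
      · exact .inl (chevE8.eN_eq_single K2 s ▸ h1 _ (fix_eN (by rw [e, hχ.map_ng, e', inv_one])))
      refine .inr ⟨_, fun h => e' ?_, fun v hv => charG_mulVec v ▸ h3 v hv⟩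
      simp only [Sum.elim_inr, e, hχ.map_ng, Units.val_inj] at h
      have h4 : ((χ r : K2) - 1) ^ 2 = 0 := by
        rw [sub_pow_char, one_pow, sq, ← Units.val_mul]
        nth_rewrite 1 [← h]
        simp
      exact Units.val_eq_one.1 (sub_eq_zero.1 (pow_eq_zero_iff two_ne_zero |>.1 h4))
    · obtain ⟨i, hi⟩ := exists_wt_ne (r := r) (s := s) (by simpa using hs) e
      refine .inr ⟨_, ?_, fun v hv => hβ.hp_eq (Pi.single (.inl i) 1) v ▸ h2 _ (hh _) v hv⟩
      simpa only [Sum.elim_inr, rt_single] using hi.symm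
  have key : ∀ y : GG, (∀ v, y.val *ᵥ hp chevE8 v ∈ W) →
      (∀ r : chevE8.Rt, chevE8.eN K2 r ∈ W → y.val *ᵥ chevE8.eN K2 r ∈ W) → ∀ v ∈ W, y.val *ᵥ v ∈ W :=
    fun y a b v hv => by
      rw [eq_hp_add v, mulVec_add, mulVec_sum]
      refine W.add_mem (a v) (W.sum_mem fun r _ => ?_)
      by_cases e : v (.inr r) = 0
      · simp [e]
      · rw [mulVec_smul]; exact W.smul_mem _ (b r (he v hv r e))
  refine TX_ind (P := fun y => ∀ v ∈ W, y.val *ᵥ v ∈ W) (fun t ht => ?_) (fun r hr c => ?_)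
    (fun a b ha hb v hv => ?_) hy
  · obtain ⟨ψ, -, rfl⟩ := chevE8.exists_char_of_mem_diagonal K2 ht
    exact key _ (fun v => by rw [fix_hp]; exact hh v) fun r hr => by
      rw [coe_charG, charDiag_mulVec_eN]; exact W.smul_mem _ hr
  · have hr' := h1 _ (fix_eN hr)
    refine key _ (fun v => by rw [X_mulVec_hp]; exact W.sub_mem (hh v) (W.smul_mem _ hr')) fun s hs => ?_
    by_cases e : s = chevE8.ng r
    · refine h1 _ ?_
      rw [mulVec_mulVec, ← Units.val_mul, ← (TX_commute hχ (Subgroup.mem_sup_left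
        (chevE8.X_mem_XS K2 hr c))).eq, Units.val_mul, ← mulVec_mulVec,
        fix_eN (by rw [e, hχ.map_ng, show χ r = 1 from hr, inv_one])]
    · rw [hβ.X_eN r s e]
      exact W.add_mem hs (W.smul_mem _ (h2 _ hr' _ hs))
  · rw [Units.val_mul, ← mulVec_mulVec]
    exact ha _ (hb v hv)

theorem mem_eig {g : GG} {v : VV} : v ∈ End.eigenspace (lin g) 1 ↔ g.val *ᵥ v = v := by
  rw [End.mem_eigenspace_iff, lin_apply, one_smul]

theorem finrank_fix : finrank K2 (End.eigenspace (lin (chevE8.charG K2 χ)) 1) =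
    8 + {r : chevE8.Rt | χ r = 1}.ncard := by
  classical
  let f : chevE8.Nd ⊕ {r : chevE8.Rt | χ r = 1} → chevE8.Idx := Sum.map id Subtype.val
  have hf : Function.Injective f := Sum.map_injective.2 ⟨Function.injective_id, Subtype.val_injective⟩
  have e : End.eigenspace (lin (chevE8.charG K2 χ)) 1 =
      Submodule.span K2 (Set.range ((fun a => Pi.single a (1 : K2)) ∘ f)) := by
    refine le_antisymm (fun v hv => ?_) (Submodule.span_le.2 ?_)
    · rw [pi_eq_sum_univ' v]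
      refine Submodule.sum_mem _ fun a _ => ?_
      by_cases e : v a = 0
      · simp [e]
      refine Submodule.smul_mem _ _ (Submodule.subset_span ?_)
      rcases a with i | r
      · exact ⟨.inl i, rfl⟩
      · exact ⟨.inr ⟨r, fix_iff.1 (mem_eig.1 hv) r e⟩, rfl⟩
    · rintro _ ⟨i | r, rfl⟩
      · exact mem_eig.2 (fix_iff.2 fun r hr => by simp [f] at hr)
      · exact mem_eig.2 (fix_iff.2 fun s hs => by
        by_contra e
        exact hs (Pi.single_eq_of_ne (fun h => e ((Sum.inr_injective h : s = r.1) ▸ r.2)) _))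
  rw [e, finrank_span_eq_card ((Pi.linearIndependent_single_one _ _).comp f hf), Fintype.card_sum,
    ← Nat.card_coe_set_eq, Nat.card_eq_fintype_card]
  rfl

theorem IsBr.ab_of_eight (hβ : IsBr β) (h : finrank K2 (End.eigenspace (lin (chevE8.charG K2 χ)) 1) = 8)
    {u w : VV} (hu : (chevE8.charG K2 χ).val *ᵥ u = u) (hw : (chevE8.charG K2 χ).val *ᵥ w = w) :
    β u w = 0 := by
  have h0 : {r : chevE8.Rt | χ r = 1} = ∅ := (Set.ncard_eq_zero).1 (by rw [finrank_fix] at h; omega)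
  rw [fix_iff, h0] at hu hw
  rw [← hp_eq_self hu, ← hp_eq_self hw, hβ.hp_hp]

theorem exists_two (hχ : chevE8.IsRootCharacter χ) (h : {r : chevE8.Rt | χ r = 1}.ncard = 4) :
    ∃ a b : chevE8.Rt, χ a = 1 ∧ ∀ s : chevE8.Rt, χ s = 1 →
      s = a ∨ s = chevE8.ng a ∨ s = b ∨ s = chevE8.ng b := by
  have hn : ∀ r : chevE8.Rt, χ r = 1 → χ (chevE8.ng r) = 1 := fun r h => by rw [hχ.map_ng, h, inv_one]
  obtain ⟨a, ha⟩ := Set.nonempty_of_ncard_ne_zero (h ▸ by norm_num : {r : chevE8.Rt | χ r = 1}.ncard ≠ 0)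
  have h2 : ({r : chevE8.Rt | χ r = 1} \ {a, chevE8.ng a}).ncard = 2 := by
    rw [Set.ncard_sdiff (by rintro _ (rfl | rfl); exacts [ha, hn a ha]), h, Set.ncard_pair (chevE8.ne_ng a)]
  obtain ⟨b, c, -, h3⟩ := Set.ncard_eq_two.1 h2
  have hb : b ∈ {r : chevE8.Rt | χ r = 1} \ {a, chevE8.ng a} := h3 ▸ by simp
  have hc : chevE8.ng b ∈ ({b, c} : Set _) := h3 ▸ ⟨hn b hb.1, fun e => hb.2 (by
    rcases e with e | e
    · exact .inr (chevE8.ng_eq_iff.1 e)
    · exact .inl (chevE8.ng_injective e))⟩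
  refine ⟨a, b, ha, fun s hs => ?_⟩
  by_cases e : s ∈ ({a, chevE8.ng a} : Set _)
  · exact e.imp_right .inl
  · have : s ∈ ({b, c} : Set _) := h3 ▸ ⟨hs, e⟩
    rw [← show chevE8.ng b = c from hc.resolve_left (chevE8.ng_ne b)] at this
    exact .inr (.inr this)

theorem pairing_even (hχ : chevE8.IsRootCharacter χ) {a b : chevE8.Rt} (ha : χ a = 1)
    (h : ∀ s : chevE8.Rt, χ s = 1 → s = a ∨ s = chevE8.ng a ∨ s = b ∨ s = chevE8.ng b) {s : chevE8.Rt}
    (hs : χ s = 1) : ((chevE8.pairing a s : ℤ) : K2) = 0 := by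
  by_contra hk
  have h1 : ((chevE8.pairing a s : ℤ) : K2) = 1 := by
    rcases Int.even_or_odd' (chevE8.pairing a s) with ⟨k, e | e⟩ <;>
      simp_all [show (2 : K2) = 0 from CharTwo.two_eq_zero]
  have h2 := chevE8.wt_refl a s
  have h3 : χ (chevE8.refl a s) = 1 := by
    rw [hχ.map_lin chevE8 (r := s) (s := a) (a := 1) (b := -chevE8.pairing a s) (by
      rw [h2, one_smul, neg_smul, sub_eq_add_neg]), hs, ha]
    simp
  have h4 : ∀ s : chevE8.Rt, χ s = 1 → (∀ i, ((chevE8.wt s i : ℤ) : K2) = (chevE8.wt a i : ℤ)) ∨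
      ∀ i, ((chevE8.wt s i : ℤ) : K2) = (chevE8.wt b i : ℤ) := fun s hs => by
    rcases h s hs with rfl | rfl | rfl | rfl <;> simp [wt_ng, CharTwo.neg_eq]
  have h5 : ∀ i, ((chevE8.wt (chevE8.refl a s) i : ℤ) : K2) = (chevE8.wt s i : ℤ) - (chevE8.wt a i : ℤ) :=
    fun i => by simp [h2, h1]
  obtain ⟨i, hi⟩ := exists_wt_ne_zero (chevE8.refl a s)
  obtain ⟨j, hj⟩ := exists_wt_ne_zero s
  obtain ⟨k, hk⟩ := exists_wt_ne_zero a
  rcases h4 s hs with e | e
  · exact hi (by rw [h5, e, sub_self])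
  rcases h4 _ h3 with e' | e'
  · exact hj (by rw [sub_eq_iff_eq_add.1 (h5 j).symm, e', CharTwo.add_self_eq_zero])
  · exact hk (sub_eq_self.1 (by rw [← h5, e, e']))

theorem IsBr.exists_cen (hβ : IsBr β) (hχ : chevE8.IsRootCharacter χ)
    (h : finrank K2 (End.eigenspace (lin (chevE8.charG K2 χ)) 1) = 12) {V : Submodule K2 VV}
    (h1 : ∀ v ∈ V, (chevE8.charG K2 χ).val *ᵥ v = v) (h2 : ∀ a ∈ V, ∀ b ∈ V, β a b ∈ V)
    (h3 : 6 ≤ finrank K2 V) : ∃ v ∈ V, v ≠ 0 ∧ ∀ w, (chevE8.charG K2 χ).val *ᵥ w = w → β v w = 0 := by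
  obtain ⟨a, b, ha, hab⟩ := exists_two hχ (by rw [finrank_fix] at h; omega)
  have hz : ∀ v, (∀ s : chevE8.Rt, χ s = 1 → rt chevE8 s v = 0) → ∀ w,
      (chevE8.charG K2 χ).val *ᵥ w = w → β (hp chevE8 v) w = 0 := fun v hv w hw => by
    rw [hβ.hp_eq]
    funext c
    rcases c with i | r
    · simp
    · by_cases e : w (.inr r) = 0
      · simp [e]
      · simp [hv r (fix_iff.1 hw r e)]
  let j : (chevE8.Nd → K2) →ₗ[K2] VV :=
    { toFun := fun c => Sum.elim c 0
      map_add' := fun _ _ => funext fun c => by rcases c with i | r <;> simp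
      map_smul' := fun _ _ => funext fun c => by rcases c with i | r <;> simp }
  have hj : ∀ c, hp chevE8 (j c) = j c := fun _ => rfl
  let ψ : (chevE8.Nd → K2) →ₗ[K2] K2 × K2 :=
    { toFun := fun c => (rt chevE8 a (j c), rt chevE8 b (j c))
      map_add' := fun _ _ => by simp [rt_add]
      map_smul' := fun _ _ => by simp [rt_smul] }
  have hZ : ∀ z ∈ (LinearMap.ker ψ).map j, (chevE8.charG K2 χ).val *ᵥ z = z ∧
      ∀ w, (chevE8.charG K2 χ).val *ᵥ w = w → β z w = 0 := by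
    rintro _ ⟨c, hc, rfl⟩
    refine ⟨fix_hp (j c), hz (j c) fun s hs => ?_⟩
    obtain ⟨e1, e2⟩ := Prod.ext_iff.1 (LinearMap.mem_ker.1 hc)
    rcases hab s hs with rfl | rfl | rfl | rfl
    exacts [e1, by rw [rt_ng, neg_eq_zero]; exact e1, e2, by rw [rt_ng, neg_eq_zero]; exact e2]
  have h6 : 6 ≤ finrank K2 ((LinearMap.ker ψ).map j) := by
    have e1 := ψ.finrank_range_add_finrank_ker
    have e2 := (LinearMap.range ψ).finrank_le
    rw [← (Submodule.equivMapOfInjective j (fun c d e => funext fun i => congrFun e (.inl i)) _).finrank_eq]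
    rw [finrank_fintype_fun_eq_card, Fintype.card_fin, show chevE8.rank = 8 from rfl] at e1
    rw [finrank_prod, finrank_self] at e2
    omega
  by_cases h7 : V ⊓ (LinearMap.ker ψ).map j = ⊥
  · have h8 : V ⊔ (LinearMap.ker ψ).map j = End.eigenspace (lin (chevE8.charG K2 χ)) 1 := by
      refine Submodule.eq_of_le_of_finrank_le (sup_le (fun v hv => mem_eig.2 (h1 v hv))
        fun v hv => mem_eig.2 (hZ v hv).1) ?_
      have := Submodule.finrank_sup_add_finrank_inf_eq V ((LinearMap.ker ψ).map j)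
      rw [h7, finrank_bot] at this
      omega
    obtain ⟨v, hv, z, hz1, e1⟩ := Submodule.mem_sup.1 (h8.ge (mem_eig.2 (fix_eN ha)))
    have ha' := fix_eN (χ := χ) (r := chevE8.ng a) (by rw [hχ.map_ng, ha, inv_one])
    obtain ⟨w, hw, y, hy1, e2⟩ := Submodule.mem_sup.1 (h8.ge (mem_eig.2 ha'))
    have e3 : β v w = chevE8.hV K2 (chevE8.cw a) := by
      rw [← hβ.eN_ng, ← e1, map_add, LinearMap.add_apply, (hZ z hz1).2 _ ha', add_zero, ← e2, map_add,
        hβ.symm v y, (hZ y hy1).2 _ (h1 v hv), add_zero]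
    refine ⟨_, e3 ▸ h2 v hv w hw, chevE8.hV_cw_ne_zero K2 a, ?_⟩
    rw [← hp_eq_self (v := chevE8.hV K2 (chevE8.cw a)) fun r hr => hr (hV_inr ..)]
    refine hz _ fun s hs => ?_
    rw [← pairing_even hχ ha hab hs, pairing_eq_dot]
    simp [rt, hV_inl, dotProduct, mul_comm]
  · obtain ⟨v, hv, h0⟩ := (Submodule.ne_bot_iff _).1 h7
    exact ⟨v, hv.1, h0, (hZ v hv.2).2⟩

end Cfsg.Agent.E82
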