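import Mathlib
import Cfsg.Agent.E82.Wt
import Cfsg.Agent.GT.FStar
import Cfsg.Agent.Cl.LinearBasic
import Cfsg.Agent.Chev.StFin

/-!
# Elements of order 65 of `SL₂(64)` and their centralisers in the automorphism group
-/

set_option autoImplicit false

namespace Cfsg.Agent.E82

open Cfsg.Lie Cfsg.Lie.ChevalleyDatum Cfsg.Agent.Chev Cfsg.Agent.Chev.S2M Matrix MatrixGroups Polynomial Module

variable {F : Type*} [Field F] [Fintype F]

namespace Grp

theorem two_eq (hF : Fintype.card F = 64) : (2 : F) = 0 := by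
  have h := FiniteField.cast_card_eq_zero F
  rw [hF] at h
  exact pow_eq_zero_iff (n := 6) (by norm_num) |>.1 (by rw [← h]; norm_num)

theorem center_eq (hF : Fintype.card F = 64) : Subgroup.center SL(2, F) = ⊥ := by
  refine eq_bot_iff.2 fun A hA => Subgroup.mem_bot.2 ?_
  obtain ⟨r, hr, h⟩ := Matrix.SpecialLinearGroup.mem_center_iff.1 hA
  rw [Fintype.card_fin] at hr
  have h1 : r = 1 := by
    have h2 : (r - 1) ^ 2 = 0 := by linear_combination hr + (1 - r) * two_eq hF
    exact sub_eq_zero.1 (pow_eq_zero_iff (n := 2) (by norm_num) |>.1 h2)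
  rw [h1, map_one] at h
  exact Subtype.ext h.symm

omit [Fintype F] in
theorem comm_mat {T S S' : Matrix (Fin 2) (Fin 2) F} (hT : ∀ a : F, T ≠ a • 1)
    (h : Commute T S) (h' : Commute T S') : Commute S S' := by
  have e := fun i j => congrFun (congrFun h.eq i) j
  have e' := fun i j => congrFun (congrFun h'.eq i) j
  have a1 := e 0 0
  have a2 := e 0 1
  have a3 := e 1 0
  have b1 := e' 0 0
  have b2 := e' 0 1
  have b3 := e' 1 0
  simp only [mul_apply, Fin.sum_univ_two] at a1 a2 a3 b1 b2 b3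
  have key : ∀ c : F, c ≠ 0 → c * (S 0 1 * S' 1 0 - S' 0 1 * S 1 0) = 0 →
      c * (S 0 1 * (S' 0 0 - S' 1 1) - S' 0 1 * (S 0 0 - S 1 1)) = 0 →
      c * (S 1 0 * (S' 0 0 - S' 1 1) - S' 1 0 * (S 0 0 - S 1 1)) = 0 → Commute S S' := by
    intro c hc k1 k2 k3
    replace k1 := (mul_eq_zero.1 k1).resolve_left hc
    replace k2 := (mul_eq_zero.1 k2).resolve_left hc
    replace k3 := (mul_eq_zero.1 k3).resolve_left hc
    ext i j
    fin_cases i <;> fin_cases j <;> simp only [mul_apply, Fin.sum_univ_two] <;> simp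
    · linear_combination k1
    · linear_combination -k2
    · linear_combination k3
    · linear_combination -k1
  by_cases c1 : T 0 1 = 0
  · by_cases c2 : T 1 0 = 0
    · by_cases c3 : T 0 0 - T 1 1 = 0
      · refine absurd ?_ (hT (T 0 0))
        ext i j; fin_cases i <;> fin_cases j <;> simp [c1, c2]
        linear_combination -c3
      · rw [c1] at a2 b2
        rw [c2] at a3 b3
        exact key _ c3 (by linear_combination S' 1 0 * a2 - S 1 0 * b2)
          (by linear_combination (S' 0 0 - S' 1 1) * a2 - (S 0 0 - S 1 1) * b2)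
          (by linear_combination (-(S' 0 0 - S' 1 1)) * a3 + (S 0 0 - S 1 1) * b3)
    · exact key _ c2
        (by rw [c1] at a1 b1; linear_combination (-S' 1 0) * a1 + S 1 0 * b1)
        (by rw [c1] at a1 b1
            linear_combination (-(S' 0 0 - S' 1 1)) * a1 + (S 0 0 - S 1 1) * b1)
        (by linear_combination S 1 0 * b3 - S' 1 0 * a3)
  · have k1 : T 0 1 * (S 0 1 * S' 1 0 - S' 0 1 * S 1 0) = 0 := by
      linear_combination S 0 1 * b1 - S' 0 1 * a1
    exact key _ c1 k1 (by linear_combination (-S 0 1) * b2 + S' 0 1 * a2)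
      (by linear_combination (-S 1 0) * b2 + S' 1 0 * a2 -
        (T 0 0 - T 1 1) * (mul_eq_zero.1 k1).resolve_left c1)

theorem exists_syl {G : Type*} [Group G] [Finite G] {p : ℕ} [Fact p.Prime]
    (h : (Nat.card G).factorization p = 1) {a : G} (ha : orderOf a = p) :
    ∃ P : Sylow p G, (P : Subgroup G) = Subgroup.zpowers a :=
  ⟨Sylow.ofCard (Subgroup.zpowers a) (by rw [Nat.card_zpowers, ha, h, pow_one]), rfl⟩

end Grp

theorem exists_ctx (hF : Fintype.card F = 64) (H : Subgroup G0)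
    (hH : Nonempty (Cfsg.generalizedFittingSubgroup H ≃* ProjectiveSpecialLinearGroup (Fin 2) F)) :
    ∃ φ : SL(2, F) →* G0, Ctx H φ := by
  have : Finite G0 := finite_group _ _
  have hn := GT.genFitting_normal (G := H)
  obtain ⟨e⟩ := hH
  let e1 : SL(2, F) ≃* Cfsg.generalizedFittingSubgroup H :=
    (((QuotientGroup.quotientMulEquivOfEq (Grp.center_eq hF)).trans QuotientGroup.quotientBot).symm).trans
      e.symm
  refine ⟨(H.subtype.comp (Subgroup.subtype _)).comp e1.toMonoidHom, fun a b hab => ?_, fun s => (e1 s).1.2,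
    fun h hh s => ?_, fun h hh hc => ?_⟩
  · exact e1.injective (Subtype.ext (Subtype.ext hab))
  · obtain ⟨s', hs'⟩ := e1.surjective ⟨_, hn.conj_mem _ (e1 s).2 ⟨h, hh⟩⟩
    exact ⟨s', (congrArg (fun z : Cfsg.generalizedFittingSubgroup H => (z.1 : G0)) hs').symm⟩
  · have h1 : (⟨h, hh⟩ : H) ∈ Subgroup.centralizer (Cfsg.generalizedFittingSubgroup H : Set H) := by
      intro z hz
      obtain ⟨s, hs⟩ := e1.surjective ⟨z, hz⟩
      have h2 := hc s
      change h * ((e1 s).1 : G0) = ((e1 s).1 : G0) * h at h2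
      rw [hs] at h2
      exact Subtype.ext h2.symm
    obtain ⟨s, hs⟩ := e1.surjective ⟨_, GT.centralizer_genFitting_le h1⟩
    have h3 : s ∈ Subgroup.center SL(2, F) := Subgroup.mem_center_iff.2 fun t => e1.injective (by
      rw [map_mul, map_mul, hs]
      exact Subtype.ext (h1 _ (e1 t).2))
    rw [Grp.center_eq hF, Subgroup.mem_bot] at h3
    rw [h3, map_one] at hs
    exact (congrArg (fun z : Cfsg.generalizedFittingSubgroup H => (z.1 : G0)) hs).symm

theorem conj65 (hF : Fintype.card F = 64) {x y : SL(2, F)} (hx : orderOf x = 65) (hy : orderOf y = 65) :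
    ∃ s, Subgroup.zpowers y = Subgroup.zpowers (s * x * s⁻¹) := by
  have := Fact.mk (by norm_num : Nat.Prime 13)
  have := Fact.mk Nat.prime_five
  have hc : Nat.card SL(2, F) = 262080 := by
    rw [Cl.card_sl_two, Nat.card_eq_fintype_card, hF]; norm_num
  have f13 : (Nat.card SL(2, F)).factorization 13 = 1 := by
    rw [hc]
    exact Nat.factorization_eq_of_coprime_left (a := 13) (b := 20160) (by norm_num)
      (by simp) |>.trans (Nat.Prime.factorization_self (by norm_num))
  have f5 : (Nat.card SL(2, F)).factorization 5 = 1 := by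
    rw [hc]
    exact Nat.factorization_eq_of_coprime_left (a := 5) (b := 52416) (by norm_num)
      (by simp [Nat.primeFactorsList_prime Nat.prime_five]) |>.trans (Nat.Prime.factorization_self (by norm_num))
  have o5 : ∀ z : SL(2, F), orderOf z = 65 → orderOf (z ^ 5) = 13 := fun z hz => by
    rw [orderOf_pow, hz]; norm_num
  have o13 : ∀ z : SL(2, F), orderOf z = 65 → orderOf (z ^ 13) = 5 := fun z hz => by
    rw [orderOf_pow, hz]; norm_num
  obtain ⟨P, hP⟩ := Grp.exists_syl f13 (o5 x hx)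
  obtain ⟨Q, hQ⟩ := Grp.exists_syl f13 (o5 y hy)
  obtain ⟨s, hs⟩ := MulAction.exists_smul_eq SL(2, F) P Q
  refine ⟨s, ?_⟩
  have hx' : orderOf (s * x * s⁻¹) = 65 := by
    rw [← hx]; exact (MulAut.conj s).orderOf_eq x
  have h1 : y ^ 5 ∈ Subgroup.zpowers (s * x * s⁻¹) := by
    have h2 : y ^ 5 ∈ (Q : Subgroup SL(2, F)) := hQ ▸ Subgroup.mem_zpowers _
    rw [← hs, Sylow.coe_subgroup_smul, hP] at h2
    obtain ⟨z, hz, h3⟩ := h2
    obtain ⟨k, rfl⟩ := Subgroup.mem_zpowers_iff.1 hz
    rw [← h3]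
    refine Subgroup.mem_zpowers_iff.2 ⟨5 * k, ?_⟩
    rw [conj_zpow, _root_.zpow_mul]
    rfl
  generalize s * x * s⁻¹ = w at hx' h1
  have h4 : Commute w y := by
    have h5 : Commute (y ^ 5) w := by
      obtain ⟨k, hk⟩ := Subgroup.mem_zpowers_iff.1 h1
      rw [← hk]
      exact (Commute.refl w).zpow_left k
    refine Subtype.ext (Grp.comm_mat (T := (y ^ 5).1) (fun a ha => ?_) (congrArg Subtype.val h5.eq)
      (congrArg Subtype.val ((Commute.refl y).pow_left 5).eq)).eq
    have h6 : y ^ 5 ∈ Subgroup.center SL(2, F) := Subgroup.mem_center_iff.2 fun t => Subtype.ext (by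
      rw [Matrix.SpecialLinearGroup.coe_mul, Matrix.SpecialLinearGroup.coe_mul, ha]; simp)
    rw [Grp.center_eq hF, Subgroup.mem_bot] at h6
    have := o5 y hy
    rw [h6, orderOf_one] at this
    omega
  have h7 : y ^ 13 ∈ Subgroup.zpowers w := by
    obtain ⟨R, hR⟩ := Grp.exists_syl f5 (o13 w hx')
    have h8 : IsPGroup 5 (Subgroup.zpowers (y ^ 13)) :=
      IsPGroup.of_card (n := 1) (by rw [Nat.card_zpowers, o13 y hy, pow_one])
    have h9 : y ^ 13 ∈ Subgroup.zpowers (y ^ 13) ⊓ Subgroup.normalizer (R : Set SL(2, F)) := by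
      refine ⟨Subgroup.mem_zpowers _, Subgroup.centralizer_le_normalizer _ fun z hz => ?_⟩
      have hz' : z ∈ (R : Subgroup SL(2, F)) := hz
      rw [hR] at hz'
      obtain ⟨k, rfl⟩ := Subgroup.mem_zpowers_iff.1 hz'
      exact ((h4.pow_pow 13 13).zpow_left k).eq
    rw [h8.inf_normalizer_sylow R, hR] at h9
    exact Subgroup.zpowers_le_of_mem (Subgroup.pow_mem _ (Subgroup.mem_zpowers w) 13) h9.2
  refine Subgroup.eq_of_le_of_card_ge (Subgroup.zpowers_le_of_mem ?_)
    (by rw [Nat.card_zpowers, Nat.card_zpowers, hx', hy])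
  have h10 : y = (y ^ 5) ^ 8 * ((y ^ 13) ^ 3)⁻¹ := by group
  rw [h10]
  exact Subgroup.mul_mem _ (Subgroup.pow_mem _ h1 8) (Subgroup.inv_mem _ (Subgroup.pow_mem _ h7 3))

theorem Ctx.exists_aut {H : Subgroup G0} {φ : SL(2, F) →* G0} (c : Ctx H φ) {h : G0} (hh : h ∈ H) :
    ∃ α : SL(2, F) ≃* SL(2, F), ∀ s, h * φ s * h⁻¹ = φ (α s) := by
  choose f hf using c.nrm h hh
  have h1 : Function.Injective f := fun a b hab => c.inj (by
    have := (hf a).trans ((congrArg φ hab).trans (hf b).symm)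
    simpa using this)
  exact ⟨MulEquiv.ofBijective (MonoidHom.mk' f fun a b => c.inj (by
    rw [map_mul, ← hf, ← hf, ← hf, map_mul]; group)) (Finite.injective_iff_bijective.1 h1), hf⟩

end Cfsg.Agent.E82
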