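import Mathlib
import Cfsg.Agent.E82.Grp
import Cfsg.Agent.Phan.AutSL2
import Cfsg.Agent.Cl.AutField
import Cfsg.Agent.FT.GL2Odd

/-!
# The centraliser of an element of order 65 in the automorphism group
-/

set_option autoImplicit false

namespace Cfsg.Agent.E82

open Cfsg.Lie Cfsg.Lie.ChevalleyDatum Cfsg.Agent.Chev Cfsg.Agent.Chev.S2M Matrix MatrixGroups Polynomial Module

variable {F : Type*} [Field F] [Fintype F]

namespace GrpB

variable [CharP F 2] {x y : SL(2, F)}

omit [Fintype F]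

theorem scal {c : F} (h : y.val = c • (1 : Matrix (Fin 2) (Fin 2) F)) : y = 1 := by
  have d := y.det_coe
  rw [h, det_smul, det_one, mul_one, Fintype.card_fin] at d
  have e : c = 1 := by
    have : (c - 1) ^ 2 = 0 := by linear_combination d + (1 - c) * (CharTwo.two_eq_zero : (2 : F) = 0)
    exact sub_eq_zero.1 (pow_eq_zero_iff two_ne_zero |>.1 this)
  exact Subtype.ext (by rw [h, e, one_smul]; rfl)

theorem tr_pow (y : SL(2, F)) (k : ℕ) : trace (y ^ 2 ^ k).val = trace y.val ^ 2 ^ k := by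
  induction k with
  | zero => simp
  | succ k ih =>
    rw [pow_succ, pow_mul, pow_mul, ← ih]
    generalize y ^ 2 ^ k = z
    simp only [pow_two, Matrix.SpecialLinearGroup.coe_mul, trace_fin_two, Matrix.mul_apply, Fin.sum_univ_two]
    linear_combination (z.val 0 1 * z.val 1 0 - z.val 0 0 * z.val 1 1) * (CharTwo.two_eq_zero : (2 : F) = 0)

theorem ch (x : SL(2, F)) : (trace x.val • (1 : Matrix (Fin 2) (Fin 2) F) + x.val) * x.val = 1 := by
  have d := x.det_coe
  have h2 : (2 : F) = 0 := CharTwo.two_eq_zero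
  rw [det_fin_two] at d
  ext i j
  fin_cases i <;> fin_cases j <;> simp [trace_fin_two, Matrix.mul_apply, Fin.sum_univ_two]
  · linear_combination d + (x.val 0 0 ^ 2 + x.val 0 1 * x.val 1 0) * h2
  · linear_combination (x.val 0 0 * x.val 0 1 + x.val 0 1 * x.val 1 1) * h2
  · linear_combination (x.val 0 0 * x.val 1 0 + x.val 1 0 * x.val 1 1) * h2
  · linear_combination d + (x.val 1 1 ^ 2 + x.val 0 1 * x.val 1 0) * h2

theorem eq_or (h1 : x ≠ 1) (ht : trace x.val ≠ 0) (hc : y * x = x * y) (e : trace y.val = trace x.val) :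
    y = x ∨ y * x = 1 := by
  have h2 : (2 : F) = 0 := CharTwo.two_eq_zero
  obtain ⟨a, b, h⟩ := FT.GL2.exists_eq_of_commute (fun c k => h1 (scal k)) (congrArg Subtype.val hc)
  have hb : b = 1 := by
    rw [h, trace_add, trace_smul, trace_smul, trace_one, Fintype.card_fin, smul_eq_mul, smul_eq_mul] at e
    exact mul_right_cancel₀ ht (by push_cast at e; linear_combination e - a * h2)
  rw [hb, one_smul] at h
  have d := y.det_coe
  have d' := x.det_coe
  rw [h] at d
  rw [det_fin_two] at d d'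
  have : a * (a - trace x.val) = 0 := by
    simp [trace_fin_two] at d ⊢
    rw [← mul_eq_zero]
    linear_combination d - d' - a * (x.val 0 0 + x.val 1 1) * h2
  rcases mul_eq_zero.1 this with k | k
  · exact .inl (Subtype.ext (by rw [h, k, zero_smul, zero_add]))
  · exact .inr (Subtype.ext (by rw [Matrix.SpecialLinearGroup.coe_mul, h, sub_eq_zero.1 k]; exact ch x))

/-- The points of the projective line of `F[x]`. -/
def pt (x : SL(2, F)) : Option F → Matrix (Fin 2) (Fin 2) F
  | none => 1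
  | some u => u • (1 : Matrix (Fin 2) (Fin 2) F) + x.val

theorem exists_pt (h1 : x ≠ 1) {w : Matrix (Fin 2) (Fin 2) F} (hd : w.det ≠ 0) (hc : w * x.val = x.val * w) :
    ∃ (p : Option F) (c : F), c ≠ 0 ∧ w = c • pt x p := by
  have k : ∀ p (c : F), w = c • pt x p → ∃ (p : Option F) (c : F), c ≠ 0 ∧ w = c • pt x p := fun p c e =>
    ⟨p, c, fun h => hd (by rw [e, h, zero_smul, det_zero]), e⟩
  obtain ⟨a, b, h⟩ := FT.GL2.exists_eq_of_commute (fun c k => h1 (scal k)) hc
  by_cases hb : b = 0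
  · exact k none a (by rw [h, hb, zero_smul, add_zero, pt])
  · exact k (some (a / b)) b (by rw [h, pt, smul_add, smul_smul, mul_div_cancel₀ _ hb])

theorem exists_pow (h1 : x ≠ 1) (hx : orderOf x = Nat.card F + 1) [Finite F] {w : Matrix (Fin 2) (Fin 2) F}
    (hd : w.det ≠ 0) (hc : w * x.val = x.val * w) : ∃ y ∈ Subgroup.zpowers x, ∃ c : F, c ≠ 0 ∧ w = c • y.val := by
  have k : ∀ y : Subgroup.zpowers x, ∃ (p : Option F) (c : F), c ≠ 0 ∧ y.val.val = c • pt x p := fun y =>
    exists_pt h1 (by rw [y.val.det_coe]; exact one_ne_zero) (by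
      obtain ⟨_, k, rfl⟩ := y
      exact congrArg Subtype.val ((Commute.refl x).zpow_left k).eq)
  choose f c hc0 hf using k
  have : Function.Bijective f := (Nat.bijective_iff_injective_and_card _).2 ⟨fun y y' e => by
    refine Subtype.ext (mul_inv_eq_one.1 (scal (c := c y / c y') ?_))
    have : y.val.val = (c y / c y') • y'.val.val := by rw [hf y, hf y', e, smul_smul, div_mul_cancel₀ _ (hc0 y')]
    rw [Matrix.SpecialLinearGroup.coe_mul, this, smul_mul_assoc, ← Matrix.SpecialLinearGroup.coe_mul, mul_inv_cancel]; rfl,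
    by rw [Nat.card_zpowers, hx, Finite.card_option]⟩
  obtain ⟨p, d, hd0, e⟩ := exists_pt h1 hd hc
  obtain ⟨y, rfl⟩ := this.2 p
  exact ⟨y, y.2, d / c y, div_ne_zero hd0 (hc0 y), by rw [e, hf y, smul_smul, div_mul_cancel₀ _ (hc0 y)]⟩

end GrpB

theorem GrpB.inner (hF : Fintype.card F = 64) {x : SL(2, F)} (hx : orderOf x = 65) (α : SL(2, F) ≃* SL(2, F))
    (h : α x = x) : ∃ y ∈ Subgroup.zpowers x, ∀ s, α s * y = y * s := by
  have hF' : Nat.card F = 2 ^ 6 := Nat.card_eq_fintype_card.trans hF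
  have := Cl.Aut.charP_of_card hF'
  have h1 : x ≠ 1 := fun e => by simp [e] at hx
  obtain ⟨g, τ, hg⟩ := Phan.exists_aut_sl2 α
  obtain ⟨k, hk⟩ := Cl.Aut.exists_pow_pow 2 τ
  have hr : ∀ a, τ a = a ^ 2 ^ (k % 6) := fun a => by
    conv_lhs => rw [hk, ← Nat.div_add_mod k 6, pow_add, pow_mul 2, pow_mul, show 2 ^ 6 = Fintype.card F from hF.symm,
      FiniteField.pow_card_pow]
  have ht : trace x.val ≠ 0 := fun e => by
    have := GrpB.ch x
    rw [e, zero_smul, zero_add] at this
    have k := orderOf_dvd_of_pow_eq_one (x := x) (n := 2) (Subtype.ext (by rw [pow_two]; exact this))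
    rw [hx] at k; omega
  have tr : trace (x ^ 2 ^ (k % 6)).val = trace x.val := by
    rw [GrpB.tr_pow, ← hr]
    conv_rhs => rw [← h, hg, trace_mul_cycle, Units.inv_mul, one_mul]
    simp [trace_fin_two]
  have k0 : k % 6 = 0 := by
    have lt := Nat.mod_lt k (show 0 < 6 by norm_num)
    generalize k % 6 = r at tr lt
    rcases GrpB.eq_or h1 ht ((Commute.refl x).pow_left _).eq tr with e | e
    · have := (pow_eq_pow_iff_modEq (x := x) (m := 1)).1 (e.trans (pow_one x).symm)
      rw [hx] at this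
      interval_cases r <;> simp_all [Nat.ModEq]
    · have := orderOf_dvd_of_pow_eq_one ((pow_succ x _).trans e)
      rw [hx] at this
      interval_cases r <;> simp_all
  have hs : ∀ s : SL(2, F), (α s).val * g.val = g.val * s.val := fun s => by
    rw [hg, mul_assoc, Units.inv_mul, mul_one]
    congr 1
    ext i j
    simp [hr, k0]
  obtain ⟨y, hy, c, c0, e⟩ := GrpB.exists_pow h1 (by rw [hx, hF']; rfl) (w := g.val) (GeneralLinearGroup.det_ne_zero g)
    (by rw [← hs, h])
  refine ⟨y, hy, fun s => Subtype.ext (smul_right_injective _ c0 ?_)⟩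
  have := hs s
  rwa [e, mul_smul_comm, smul_mul_assoc] at this

theorem Ctx.mem_zpowers (hF : Fintype.card F = 64) {H : Subgroup G0} {φ : SL(2, F) →* G0} (c : Ctx H φ)
    {x : SL(2, F)} (hx : orderOf x = 65) {a : G0} (ha : a ∈ H) (h : a * φ x = φ x * a) :
    a ∈ Subgroup.zpowers (φ x) := by
  obtain ⟨α, hα⟩ := c.exists_aut ha
  obtain ⟨y, ⟨k, rfl⟩, e⟩ := GrpB.inner hF hx α (c.inj (by rw [← hα, h, mul_inv_cancel_right]))
  have := c.cen _ (mul_mem (inv_mem (c.le (x ^ k))) ha) fun s => by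
    rw [mul_assoc, mul_inv_eq_iff_eq_mul.1 (hα s), ← mul_assoc, ← mul_assoc, ← map_inv, ← map_mul, ← map_mul,
      inv_mul_eq_iff_eq_mul.2 (eq_mul_inv_of_mul_eq (e s) |>.trans (mul_assoc _ _ _))]
  exact ⟨k, by rw [← inv_mul_eq_one.1 this, map_zpow]⟩

end Cfsg.Agent.E82
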