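import Mathlib
import Cfsg.Agent.E82.Defs

/-!
# Eigenvalues of semisimple elements of `E₈(2)`
-/

set_option autoImplicit false
set_option maxRecDepth 100000

namespace Cfsg.Agent.E82

open Cfsg.Lie Cfsg.Lie.ChevalleyDatum Cfsg.Agent.Chev Cfsg.Agent.Chev.S2M Matrix MatrixGroups Polynomial Module

open Chk Kac

namespace Kac1

theorem tab2 : chevE8.TabOK (chevE8.adjRep K2).μ 1 4095 tl2 := by
  refine ⟨rfl, fun a k => ?_⟩
  change _ ∣ _ * chevE8.wtI (finSumFinEquiv.symm a) k - _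
  revert a k
  decide +kernel

section Gen

variable {D : ChevalleyDatum} {N : ℕ} {μ : Fin N → D.Lat} {M : ℕ} {tl : List (List ℕ)}

theorem map_fun (g : D.Lat →+ ℤ) (c : List ℕ) :
    g (fun k => ∑ i : D.Nd, (c.getD i 0 : ℕ) * D.wt (D.simple i) k) =
      ∑ i : D.Nd, (c.getD i 0 : ℕ) * g (D.wt (D.simple i)) := by
  have : (fun k => ∑ i : D.Nd, (c.getD i 0 : ℕ) * D.wt (D.simple i) k) =
      ∑ i : D.Nd, ((c.getD i 0 : ℕ) : ℤ) • D.wt (D.simple i) := by
    funext k; simp [Finset.sum_apply]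
  rw [this, map_sum]
  simp only [map_zsmul, smul_eq_mul]

theorem dot_eq {k : ℕ} (c : List ℕ) {t : List ℕ} (ht : t.length = k) :
    dotL c t = ∑ i : Fin k, c.getD i 0 * t.getD i 0 := by
  subst ht
  conv_lhs => rw [← List.ofFn_getElem (xs := t), dotL_ofFn]
  exact Finset.sum_congr rfl fun i _ => by rw [List.getD_eq_getElem t _ i.2]

theorem row (h : D.TabOK μ 1 M tl) {d : ℕ} (hd : d ∣ M) (f : D.Lat →+ ℤ) {t : List ℕ} (ht : t.length = D.rank)
    (hf : ∀ i : D.Nd, (d : ℤ) ∣ f (D.wt (D.simple i)) - (t.getD i 0 : ℕ)) (a : Fin N) :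
    (d : ℤ) ∣ f (μ a) - (dotL (tl.getD a []) t : ℕ) := by
  choose c hc using fun k => (Int.natCast_dvd_natCast.2 hd).trans (h.2 a k)
  have h6 : μ a = (fun k => ∑ i : D.Nd, ((tl.getD a []).getD i 0 : ℕ) * D.wt (D.simple i) k) + (d : ℤ) • c := by
    funext k
    have := hc k
    simp only [Pi.smul_apply, Pi.add_apply, smul_eq_mul]
    push_cast at this ⊢
    linear_combination this
  rw [h6, map_add, map_zsmul, map_fun, dot_eq _ ht, add_sub_right_comm, smul_eq_mul]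
  refine dvd_add ?_ (dvd_mul_right _ _)
  push_cast
  rw [← Finset.sum_sub_distrib]
  exact Finset.dvd_sum fun i _ => by rw [← mul_sub]; exact (hf i).mul_left _

theorem core {K : Type*} [Field K] (h : D.TabOK μ 1 M tl) {d : ℕ} (d0 : 0 < d) (hd : d ∣ M) {ζ : Kˣ}
    (hζ : IsPrimitiveRoot ζ d) (f : D.Lat →+ ℤ) {A : Multiset ℕ} {E : Multiset K}
    (hE : E = Finset.univ.val.map fun a => ((ζ ^ f (μ a) : Kˣ) : K)) (hA : E = A.map ((ζ : K) ^ ·))
    (hfr : E.map (· ^ 2) = E) {t : List ℕ} (ht : t.length = D.rank)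
    (hf : ∀ i : D.Nd, (d : ℤ) ∣ f (D.wt (D.simple i)) - (t.getD i 0 : ℕ)) :
    A.map (· % d) = (tl.map fun c => dotL c t % d : List ℕ) ∧
      sumT pw tl t d 1 = sumT pw tl t d 2 ∧ hist d A = sumT pw tl t d 1 := by
  have hξ : IsPrimitiveRoot (ζ : K) d := IsPrimitiveRoot.coe_units_iff.2 hζ
  have h7 : E = (tl.map fun c => (ζ : K) ^ dotL c t : List K) := by
    have hr := row h hd f ht hf
    obtain ⟨rfl, -⟩ := h
    rw [hE]
    conv_rhs => rw [← List.ofFn_getElem (xs := tl), List.map_ofFn, ← Fin.univ_val_map]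
    refine Multiset.map_congr rfl fun a _ => ?_
    obtain ⟨c, hc⟩ := hr a
    rw [List.getD_eq_getElem _ _ a.2] at hc
    rw [sub_eq_iff_eq_add.1 hc, _root_.zpow_add, _root_.zpow_mul, _root_.zpow_natCast, hζ.pow_eq_one, _root_.one_zpow, one_mul, _root_.zpow_natCast]
    simp
  have h3 : A.map (· % d) = (tl.map fun c => dotL c t % d : List ℕ) := by
    simpa [Function.comp_def] using map_mod_eq d0 hξ (A := A) (B := (tl.map fun c => dotL c t : List ℕ))
      (by rw [← hA, h7]; simp [Function.comp_def])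
  refine ⟨h3, sumT_congr d0 hξ _ ?_, ?_⟩
  · rw [h7] at hfr
    simpa [← pow_mul, mul_comm, Function.comp_def] using hfr.symm
  · have := congrArg (fun B => (B.map (257 ^ ·)).sum) h3
    rw [sumT_eq, hist]
    simp only [Multiset.map_map, Function.comp_def, Multiset.map_coe, Multiset.sum_coe, List.map_map] at this
    simpa only [one_mul, pw, Nat.pow_eq] using this

end Gen

theorem ev_eq {x : G0} {g : chevE8.SteinbergGroup K2}
    (h : IsConj (fieldHom chevE8 (algebraMap (ZMod 2) K2) x) (chevE8.stProj K2 g)) :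
    ev x = (chevE8.adjRep K2).ev g := by
  obtain ⟨c, hc⟩ := isConj_iff.1 h
  let ρ : chevE8.group K2 →* Matrix chevE8.Idx chevE8.Idx K2 := (Units.coeHom _).comp (chevE8.group K2).subtype
  have h1 : (chevE8.adjRep K2).ev g = (ρ (chevE8.stProj K2 g)).charpoly.roots := by
    change (Matrix.reindex finSumFinEquiv finSumFinEquiv (chevE8.adjHom K2 g)).charpoly.roots = _
    rw [Matrix.charpoly_reindex]
    rfl
  rw [h1, ← hc, map_mul, Matrix.charpoly_mul_comm, ← map_mul, ← mul_assoc, inv_mul_cancel, one_mul]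
  rfl

theorem proj_eq_one {g : chevE8.SteinbergGroup K2} : chevE8.stProj K2 g = 1 ↔ g ∈ Subgroup.center _ := by
  rw [← chevE8.ker_stProj, MonoidHom.mem_ker]

end Kac1

theorem exists_f {n m : ℕ} (hn : n ∣ 4095) (hm : m ∣ n) {ξ : K2} (hξ : IsPrimitiveRoot ξ n) {x : G0}
    (hx : x ^ n = 1) {A : Multiset ℕ} (hA : ev x = A.map (ξ ^ ·)) :
    ∃ w ∈ chevE8.stRoot.weyl, ∃ (f : chevE8.Lat →+ ℤ) (s : List ℕ), s.length = 8 ∧
      dotL [2, 3, 4, 6, 5, 4, 3, 2] s ≤ m ∧
      (∀ i : chevE8.Nd, (m : ℤ) ∣ f (chevE8.wt (chevE8.simple i)) - (s.getD i 0 : ℕ)) ∧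
      A.map (· % m) = (tl2.map fun c => dotL c s % m : List ℕ) ∧
      sumT pw tl2 s m 1 = sumT pw tl2 s m 2 ∧
      (∀ v, (n : ℤ) ∣ f (chevE8.wl w v) - 2 * f v) ∧
      (∀ k : ℕ, (∀ i : chevE8.Nd, (n : ℤ) ∣ k * f (chevE8.wt (chevE8.simple i))) → x ^ k = 1) ∧
      ∀ t : List ℕ, t.length = 8 →
        (∀ i : chevE8.Nd, (n : ℤ) ∣ f (chevE8.wt (chevE8.simple i)) - (t.getD i 0 : ℕ)) →
        A.map (· % n) = (tl2.map fun c => dotL c t % n : List ℕ) ∧
          sumT pw tl2 t n 1 = sumT pw tl2 t n 2 ∧ hist n A = sumT pw tl2 t n 1 := by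
  have n0 : 0 < n := Nat.pos_of_dvd_of_pos hn (by norm_num)
  have m0 : 0 < m := Nat.pos_of_dvd_of_pos hm n0
  have hinj := stTor_injective_E8 K2
  obtain ⟨w, hw, χ, hχ, hc⟩ := chevE8.exists_isConj_torC_group (ZMod 2) hinj 2 x
    ((show Nat.Coprime 4095 2 by norm_num).coprime_dvd_left ((orderOf_dvd_of_pow_eq_one hx).trans hn))
  obtain ⟨u, rfl⟩ := hξ.isUnit n0.ne'
  have hu : IsPrimitiveRoot u n := IsPrimitiveRoot.coe_units_iff.1 hξ
  have hχn : χ ^ n = 1 := by
    have h1 := hc.pow n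
    rw [← map_pow, hx, map_one, isConj_one_right, ← map_pow, Kac1.proj_eq_one, ← map_pow] at h1
    exact chevE8.torC_injective hinj (((pow_one _).symm.trans (Alc.center_E8 _ _ h1)).trans (map_one _).symm)
  obtain ⟨f0, rfl⟩ := exists_chrExp n0 hu hχn
  obtain ⟨L, g, h1, h2, h3⟩ := chevE8.stRoot.exists_alcove f0 m0
  let f : chevE8.Lat →+ ℤ := f0.comp (chevE8.stRoot.lw L)
  have h5 : IsConj (fieldHom chevE8 (algebraMap (ZMod 2) K2) x)
      (chevE8.stProj K2 (chevE8.torC K2 (chrExp u f))) := by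
    refine hc.trans ((chevE8.stProj K2).map_isConj ?_)
    rw [show chrExp u f = chrComp (chrExp u f0) (chevE8.stRoot.lw L) from chr_ext fun v => rfl,
      ← nw_inv_conj_torC]
    exact isConj_iff.2 ⟨_, by rw [inv_inv]⟩
  have hE : ev x = Finset.univ.val.map fun a => ((u ^ f ((chevE8.adjRep K2).μ a) : K2ˣ) : K2) :=
    (Kac1.ev_eq h5).trans ((chevE8.adjRep K2).ev_torC _)
  let s : chevE8.Nd → ℕ := fun i => (g (chevE8.wt (chevE8.simple i))).toNat
  have hs : ∀ i, (s i : ℤ) = g (chevE8.wt (chevE8.simple i)) := fun i => Int.toNat_of_nonneg (h2 i)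
  have hl : (List.ofFn s).length = chevE8.rank := List.length_ofFn
  have hsi : ∀ i : chevE8.Nd, (List.ofFn s).getD i 0 = s i := fun i => by
    rw [List.getD_eq_getElem _ _ (by rw [hl]; exact i.2), List.getElem_ofFn]
  have hf : ∀ i : chevE8.Nd, (m : ℤ) ∣ f (chevE8.wt (chevE8.simple i)) - ((List.ofFn s).getD i 0 : ℕ) := fun i => by
    rw [hsi, hs]
    exact dvd_sub_comm.1 (h1 _)
  obtain ⟨e, rfl⟩ := hm
  have hm := Kac1.core Kac1.tab2 m0 ((dvd_mul_right m e).trans hn) (hu.pow n0 (mul_comm m e)) f (A := A)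
    (E := (ev x).map (· ^ e))
    (by
      rw [hE, Multiset.map_map]
      refine Multiset.map_congr rfl fun a _ => ?_
      rw [← _root_.zpow_natCast u, ← _root_.zpow_mul, mul_comm, _root_.zpow_mul, _root_.zpow_natCast, Units.val_pow_eq_pow_val]
      rfl)
    (by
      rw [hA, Multiset.map_map]
      exact Multiset.map_congr rfl fun a _ => by simp [← pow_mul, mul_comm])
    (by
      conv_rhs => rw [← ev_frob x]
      rw [Multiset.map_map, Multiset.map_map]
      exact Multiset.map_congr rfl fun a _ => by simp [← pow_mul, mul_comm]) hl hf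
  have hL := chevE8.stRoot.wd_mem_weyl L
  refine ⟨(chevE8.stRoot.wd L)⁻¹ * w * chevE8.stRoot.wd L, mul_mem (mul_mem (inv_mem hL) hw) hL, f,
    List.ofFn s, hl, ?_, hf, hm.1, hm.2.1, fun v => ?_, fun k hk => ?_,
    fun t ht hf => Kac1.core Kac1.tab2 n0 hn hu f hE hA (ev_frob x) ht hf⟩
  · obtain ⟨-, -, θ, e3⟩ := Alc.hiE8
    have h4 := h3 θ
    change g (chevE8.wt θ) ≤ _ at h4
    rw [funext e3, Kac1.map_fun] at h4
    zify
    rw [dotL_ofFn]
    push_cast
    simpa only [hs] using h4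
  · have h4 := hχ (chevE8.stRoot.lw L v)
    rw [cv_chrExp, cv_chrExp, ZMod.card, ← _root_.zpow_natCast, ← _root_.zpow_mul, ← mul_inv_eq_one, ← _root_.zpow_sub,
      hu.zpow_eq_one_iff_dvd] at h4
    change _ ∣ f0 (chevE8.stRoot.lw L _) - 2 * f0 (chevE8.stRoot.lw L v)
    rw [lw_eq_wl] at h4 ⊢
    rw [← chevE8.wl_mul hL (mul_mem (mul_mem (inv_mem hL) hw) hL), ← mul_assoc, mul_inv_cancel_left,
      chevE8.wl_mul hw hL, mul_comm 2]
    exact h4
  · have h4 := h5.pow k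
    rw [← map_pow, ← map_pow, ← map_pow, Kac1.proj_eq_one.2 ((chevE8.torC_mem_center_iff _).2 fun j => ?_),
      isConj_one_left] at h4
    · exact fieldHom_injective chevE8 _ (h4.trans (map_one _).symm)
    · change cv _ (chevE8.wt (chevE8.simple j)) = 1
      rw [cv_pow, cv_chrExp, ← _root_.zpow_natCast, ← _root_.zpow_mul, hu.zpow_eq_one_iff_dvd, mul_comm (f _)]
      exact hk j

namespace Kac1

/-- the check of the dimension of the fixed space -/
noncomputable def chk (n k : ℕ) (L : List ℕ) : Bool :=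
  forceT tl2 fun tl => allS [2, 3, 4, 6, 5, 4, 3, 2] n fun s => force (sumT pw tl s n 1) fun h =>
    !Nat.beq h (sumT pw tl s n 2) || (allL s fun t => Nat.beq (Nat.mod (Nat.mul k t) n) 0) ||
      decide (Nat.mod h 257 ∈ L)

theorem mem_of {n : ℕ} (hn : n ∣ 4095) {ξ : K2} (hξ : IsPrimitiveRoot ξ n) {x : G0} (hx : x ^ n = 1)
    {A : Multiset ℕ} (hA : ev x = A.map (ξ ^ ·)) {k : ℕ} {L : List ℕ} (hk : x ^ k ≠ 1) (h : chk n k L = true) :
    (A.map (· % n)).count 0 ∈ L := by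
  obtain ⟨w, -, f, s, h1, h2, h3, -, h4, -, h5, h6⟩ := exists_f hn dvd_rfl hξ hx hA
  rw [chk, forceT_eq] at h
  have h7 := allS_spec (by decide) h h1 h2
  simp only [force_eq, Bool.or_eq_true, Bool.not_eq_true', h4, Nat.beq_refl, reduceCtorEq, false_or,
    decide_eq_true_eq] at h7
  rcases h7 with h7 | h7
  · refine absurd (h5 k fun i => ?_) hk
    have hi : (i : ℕ) < s.length := h1 ▸ i.2
    have h8 : n ∣ k * s.getD i 0 := Nat.dvd_of_mod_eq_zero (Nat.eq_of_beq_eq_true (allL_iff.1 h7 _ (by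
      rw [List.getD_eq_getElem _ _ hi]; exact List.getElem_mem hi)))
    have h9 := dvd_add ((h3 i).mul_left k) (Int.natCast_dvd_natCast.2 h8)
    push_cast at h9
    rwa [mul_sub, sub_add_cancel] at h9
  · have hc : (A.map (· % n)).card < 257 := by
      have := card_ev x
      rw [hA, Multiset.card_map] at this
      rw [Multiset.card_map, this]; norm_num
    rw [← count_pack hc, Multiset.map_map, pow_zero, Nat.div_one]
    rw [← h4, ← (h6 s h1 h3).2.2] at h7
    exact h7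

theorem chk7 : chk 7 1 [38, 80] = true := by decide +kernel

theorem chk9 : chk 9 3 [28, 30, 34, 48] = true := by decide +kernel

end Kac1

theorem kac7 {ξ : K2} (hξ : IsPrimitiveRoot ξ 7) {x : G0} (hx : orderOf x = 7) {A : Multiset ℕ}
    (hA : ev x = A.map (ξ ^ ·)) : (A.map (· % 7)).count 0 ∈ [38, 80] :=
  Kac1.mem_of (by norm_num) hξ (hx ▸ pow_orderOf_eq_one x) hA
    (pow_ne_one_of_lt_orderOf one_ne_zero (by omega)) Kac1.chk7

theorem kac9 {ξ : K2} (hξ : IsPrimitiveRoot ξ 9) {x : G0} (hx : orderOf x = 9) {A : Multiset ℕ}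
    (hA : ev x = A.map (ξ ^ ·)) : (A.map (· % 9)).count 0 ∈ [28, 30, 34, 48] :=
  Kac1.mem_of (by norm_num) hξ (hx ▸ pow_orderOf_eq_one x) hA
    (pow_ne_one_of_lt_orderOf three_ne_zero (by omega)) Kac1.chk9

end Cfsg.Agent.E82
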