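import Mathlib
import Cfsg.Agent.E82.Kac
import Cfsg.Agent.E82.Blk

/-!
# A histogram that no element of order 63 has
-/

set_option autoImplicit false

namespace Cfsg.Agent.E82

open Cfsg.Lie Cfsg.Lie.ChevalleyDatum Cfsg.Agent.Chev Cfsg.Agent.Chev.S2M Matrix MatrixGroups Polynomial Module

namespace K63

open Chk Kac Alc

/-- search of a box for a given histogram -/
noncomputable def boxS (n : ℕ) (vs : List (List ℕ)) :
    List (List ℕ) → ℕ → (List ℕ → ℕ → Bool) → Bool :=
  List.rec (fun T h P => remT n [] (P []) T h) (fun v _ ih T h P =>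
    forceT (T.filter fun c => !Nat.beq (c.headD 0) 0) fun T₁ =>
      ih ((T.filter fun c => Nat.beq (c.headD 0) 0).map List.tail) h fun s h' =>
        allL v fun a => remT n (a :: s) (P (a :: s)) T₁ h') vs

theorem boxS_spec {n : ℕ} {vs : List (List ℕ)} {T : List (List ℕ)} {P : List ℕ → ℕ → Bool} {s : List ℕ}
    (hs : List.Forall₂ (· ∈ ·) s vs) {R : Multiset ℕ} (hc : T.length + R.card < 257)
    (h : boxS n vs T (((T.map fun c => dotL c s % n : List ℕ) + R : Multiset ℕ).map (257 ^ ·)).sum P = true) :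
    P s (R.map (257 ^ ·)).sum = true := by
  induction hs generalizing T P R with
  | nil => exact remT_spec hc h
  | @cons a v s vs ha _ ih =>
    change forceT _ _ = true at h
    have h1 := List.filter_append_perm (fun c => Nat.beq (c.headD 0) 0) T
    have h2 := h1.length_eq
    rw [List.length_append] at h2
    rw [forceT_eq, ← Multiset.coe_eq_coe.2 (h1.map _), List.map_append, ← Multiset.coe_add, add_assoc,
      List.map_congr_left (g := (fun c => dotL c s % n) ∘ List.tail), ← List.map_map] at h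
    · exact remT_spec (by omega) (allL_iff.1
        (ih (by simp only [List.length_map, Multiset.card_add, Multiset.coe_card]; omega) h) a ha)
    · rintro (_ | ⟨b, c⟩) hc
      · rfl
      · obtain rfl : b = 0 := Nat.eq_of_beq_eq_true (List.mem_filter.1 hc).2
        exact congrArg (· % n) (show 0 * a + dotL c s = dotL c s by simp)

/-- The residues counted by the histogram. -/
def BD : List ℕ := (List.range 63).flatMap fun i => List.replicate (HD / 257 ^ i % 257) i

theorem BD_spec : BD.length = 248 ∧ (BD.map (257 ^ ·)).sum = HD ∧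
    ((BD.map (· % 9)).map (257 ^ ·)).sum = 515848475516637140472 := by decide +kernel

theorem chk9 : alcS 9 [2, 3, 4, 6, 5, 4, 3, 2] tl2 9 515848475516637140472
    (fun s _ _ => decide (s = [1, 1, 0, 0, 0, 0, 1, 0])) = true := by decide +kernel

/-- The order of the coordinates in the search. -/
def pm (c : List ℕ) : List ℕ := [0, 1, 6, 7, 5, 4, 3, 2].map (c.getD · 0 % 63)

/-- The residues modulo 63 above a residue modulo 9. -/
def vv (a : ℕ) : List ℕ := [0, 9, 18, 27, 36, 45, 54].map (a + ·)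

theorem chk63 : boxS 63 [vv 1, vv 1, vv 1, vv 0, vv 0, vv 0, vv 0, vv 0] (tl2.map pm) HD (fun _ _ => false) = true := by
  decide +kernel

theorem len_tl2 : tl2.length = 248 ∧ ∀ c ∈ tl2, c.length = 8 := by decide +kernel

theorem mem_vv {a b : ℕ} (h : a < 63) (e : a % 9 = b) : a ∈ vv b := by
  simp only [vv, List.map, List.mem_cons]
  omega

theorem dot_pm {c : List ℕ} (h : c.length = 8) (g : Fin 8 → ℕ) :
    dotL (pm c) [g 0, g 1, g 6, g 7, g 5, g 4, g 3, g 2] % 63 =
      dotL c [g 0, g 1, g 2, g 3, g 4, g 5, g 6, g 7] % 63 := by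
  match c, h with
  | [a, b, c, d, e, f, k, l], _ =>
    change (a % 63 * g 0 + (b % 63 * g 1 + (k % 63 * g 6 + (l % 63 * g 7 + (f % 63 * g 5 + (e % 63 * g 4 +
      (d % 63 * g 3 + (c % 63 * g 2 + 0)))))))) % 63 =
      (a * g 0 + (b * g 1 + (c * g 2 + (d * g 3 + (e * g 4 + (f * g 5 + (k * g 6 + (l * g 7 + 0)))))))) % 63
    have m : ∀ a b : ℕ, a % 63 * b ≡ a * b [MOD 63] := fun a b => (Nat.mod_modEq a 63).mul_right b
    exact ((m _ _).add ((m _ _).add ((m _ _).add ((m _ _).add ((m _ _).add ((m _ _).add ((m _ _).add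
      ((m _ _).add_right 0)))))))).trans (congrArg (· % 63) (by ring))

end K63

open K63 Chk Kac Alc in
theorem kac63 {ξ : K2} (hξ : IsPrimitiveRoot ξ 63) {x : G0} (hx : x ^ 63 = 1) {A : Multiset ℕ}
    (hA : ev x = A.map (ξ ^ ·)) : hist 63 A ≠ HD := by
  intro e
  obtain ⟨w, -, f, s, h1, h2, h3, h4, -, -, -, h5⟩ := exists_f (m := 9) (by norm_num) (by norm_num) hξ hx hA
  have hc : A.card = 248 := by simpa [len_tl2.1] using congrArg Multiset.card h4
  have e1 : ((A.map (· % 63)).map (257 ^ ·)).sum = HD := by rw [Multiset.map_map]; exact e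
  have e2 : A.map (· % 63) = (BD : Multiset ℕ) := pack_inj (b := 257) (by simp [hc]) (by simp [BD_spec.1])
    (by rw [e1, Multiset.map_coe, Multiset.sum_coe, BD_spec.2.1])
  have e3 : A.map (· % 9) = (BD.map (· % 9) : List ℕ) := by
    rw [← Multiset.map_coe, ← e2, Multiset.map_map]
    exact Multiset.map_congr rfl fun a _ => (Nat.mod_mod_of_dvd a (by norm_num)).symm
  obtain rfl : s = [1, 1, 0, 0, 0, 0, 1, 0] := of_decide_eq_true (alcS_spec (n := 9) (ms := [2, 3, 4, 6, 5, 4, 3, 2]) (T := tl2) (R := 0)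
    (P := fun s _ _ => decide (s = [1, 1, 0, 0, 0, 0, 1, 0])) (by decide) h1 h2 (by simp [len_tl2.1]) (by
      rw [add_zero, ← h4, e3, Multiset.map_coe, Multiset.sum_coe, BD_spec.2.2]
      exact chk9))
  let g : Fin 8 → ℕ := fun i => (f (chevE8.wt (chevE8.simple i)) % 63).toNat
  have hg : ∀ i : Fin 8, ((63 : ℕ) : ℤ) ∣ f (chevE8.wt (chevE8.simple i)) - g i ∧
      g i ∈ vv ([1, 1, 0, 0, 0, 0, 1, 0].getD i 0) := fun i => by
    have k1 := h3 i
    have k2 : [1, 1, 0, 0, 0, 0, 1, 0].getD i 0 < 9 := (by decide : ∀ i : Fin 8, [1, 1, 0, 0, 0, 0, 1, 0].getD i 0 < 9) i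
    refine ⟨?_, mem_vv ?_ ?_⟩ <;> simp only [g] <;> omega
  have h6 := (h5 [g 0, g 1, g 2, g 3, g 4, g 5, g 6, g 7] rfl fun i => by
    have : ∀ i : Fin 8, [g 0, g 1, g 2, g 3, g 4, g 5, g 6, g 7].getD i 0 = g i := fun i => by fin_cases i <;> rfl
    rw [this i]
    exact (hg i).1).1
  refine absurd (boxS_spec (n := 63) (T := tl2.map pm) (R := 0) (P := fun _ _ => false)
    (.cons (hg 0).2 (.cons (hg 1).2 (.cons (hg 6).2 (.cons (hg 7).2 (.cons (hg 5).2 (.cons (hg 4).2
      (.cons (hg 3).2 (.cons (hg 2).2 .nil)))))))) (by simp [len_tl2.1]) ?_) (by simp)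
  rw [add_zero, List.map_map, List.map_congr_left
    (f := (fun c => dotL c [g 0, g 1, g 6, g 7, g 5, g 4, g 3, g 2] % 63) ∘ pm)
    (g := fun c => dotL c [g 0, g 1, g 2, g 3, g 4, g 5, g 6, g 7] % 63) fun c hc => dot_pm (len_tl2.2 c hc) g, ← h6, e1]
  exact chk63

end Cfsg.Agent.E82
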