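import Mathlib
import Cfsg.Agent.E82.Defs

/-!
# Kernel tables for the elements of order 65
-/

set_option autoImplicit false
set_option maxRecDepth 100000

namespace Cfsg.Agent.E82.K65

open Cfsg.Agent.Chev Chk Kac

/-- The histogram is invariant under doubling. -/
def inv2 (n h : ℕ) : Bool := allLt n fun v =>
  Nat.beq (Nat.mod (Nat.div h (pw (Nat.mod (Nat.mul 2 v) n))) 257) (Nat.mod (Nat.div h (pw v)) 257)

theorem inv2_of {n : ℕ} (hn : n = 13 ∨ n = 65) {s : List ℕ} (h : sumT pw tl2 s n 1 = sumT pw tl2 s n 2) :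
    inv2 n (sumT pw tl2 s n 1) = true := by
  let B : Multiset ℕ := (tl2.map fun c => dotL c s % n : List ℕ)
  have hB : B.card < 257 := by
    rw [Multiset.coe_card, List.length_map]
    decide +kernel
  have h1 : sumT pw tl2 s n 1 = (B.map (257 ^ ·)).sum := by
    simp [sumT_eq, B, pw, Function.comp_def]
  have h2 : sumT pw tl2 s n 2 = ((B.map (2 * · % n)).map (257 ^ ·)).sum := by
    simp [sumT_eq, B, pw, Function.comp_def]
  refine allLt_iff.2 fun v hv => Nat.beq_eq ▸ ?_
  change sumT pw tl2 s n 1 / 257 ^ (2 * v % n) % 257 = sumT pw tl2 s n 1 / 257 ^ v % 257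
  conv_lhs => rw [h, h2, count_pack (by simpa using hB)]
  rw [h1, count_pack hB, count_map_eq {v} (by simp) fun w hw e => ?_, Finset.sum_singleton]
  obtain ⟨c, -, rfl⟩ := List.mem_map.1 (Multiset.mem_coe.1 hw)
  rw [Finset.mem_singleton]
  generalize dotL c s = a at e
  rcases hn with rfl | rfl <;> omega

/-- The check of the alcove. -/
noncomputable def chk13 : Bool :=
  forceT tl2 fun tl => allS [2, 3, 4, 6, 5, 4, 3, 2] 13 fun s => force (sumT pw tl s 13 1) fun h =>
    !inv2 13 h || decide (s ∈ [[0, 0, 0, 0, 0, 0, 0, 0], [1, 1, 0, 0, 1, 0, 0, 1], [1, 0, 0, 0, 0, 1, 1, 1]])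

theorem chk13_eq : chk13 = true := by decide +kernel

theorem alc13 {s : List ℕ} (h1 : s.length = 8) (h2 : dotL [2, 3, 4, 6, 5, 4, 3, 2] s ≤ 13)
    (h : sumT pw tl2 s 13 1 = sumT pw tl2 s 13 2) :
    s = [0, 0, 0, 0, 0, 0, 0, 0] ∨ s = [1, 1, 0, 0, 1, 0, 0, 1] ∨ s = [1, 0, 0, 0, 0, 1, 1, 1] := by
  have h3 := chk13_eq
  rw [chk13, forceT_eq] at h3
  have h4 := allS_spec (by decide) h3 h1 h2
  simpa [force_eq, inv2_of (.inl rfl) h] using h4

/-- The coordinates in the first case. -/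
def T1 (a b c d : ℕ) : List ℕ := [40 + 39 * a, 40 + 39 * b, 52 * a + 39 * b, 39 * a + 52 * b,
  40 + 39 * b + 39 * c, 52 * c + 39 * d, 39 * c + 52 * d, 40 + 39 * d]

/-- The coordinates in the second case. -/
def T2 (a b c d : ℕ) : List ℕ := [40 + 39 * b, 52 * a + 39 * c, 52 * b + 39 * c,
  39 * a + 39 * b + 52 * c + 39 * d, 39 * c + 52 * d, 40 + 39 * d, 40, 40]

/-- The check of a box. -/
noncomputable def chk65 (T : ℕ → ℕ → ℕ → ℕ → List ℕ) (a : ℕ) : Bool :=
  forceT tl2 fun tl => allLt 5 fun b => allLt 5 fun c => allLt 5 fun d => forceL (T a b c d) fun t =>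
    force (sumT pw tl t 65 1) fun h => !inv2 65 h || Nat.beq (a + b + c + d) 0 || decide (h ∈ L65)

theorem chk65_spec {T : ℕ → ℕ → ℕ → ℕ → List ℕ} {a b c d : ℕ} (h : chk65 T a = true) (hb : b < 5) (hc : c < 5)
    (hd : d < 5) (h0 : a + b + c + d ≠ 0)
    (e : sumT pw tl2 (T a b c d) 65 1 = sumT pw tl2 (T a b c d) 65 2) : sumT pw tl2 (T a b c d) 65 1 ∈ L65 := by
  rw [chk65, forceT_eq] at h
  have h1 := allLt_iff.1 (allLt_iff.1 (allLt_iff.1 h b hb) c hc) d hd
  rw [forceL_eq, force_eq, inv2_of (.inr rfl) e, Bool.or_eq_true, Bool.or_eq_true, decide_eq_true_eq] at h1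
  exact h1.resolve_left fun k => k.elim (by simp) fun k => h0 (Nat.eq_of_beq_eq_true k)

theorem c10 : chk65 T1 0 = true := by decide +kernel

theorem c11 : chk65 T1 1 = true := by decide +kernel

theorem c12 : chk65 T1 2 = true := by decide +kernel

theorem c13 : chk65 T1 3 = true := by decide +kernel

theorem c14 : chk65 T1 4 = true := by decide +kernel

theorem c1 {a : ℕ} (h : a < 5) : chk65 T1 a = true := by
  interval_cases a
  exacts [c10, c11, c12, c13, c14]

theorem c20 : chk65 T2 0 = true := by decide +kernel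

theorem c21 : chk65 T2 1 = true := by decide +kernel

theorem c22 : chk65 T2 2 = true := by decide +kernel

theorem c23 : chk65 T2 3 = true := by decide +kernel

theorem c24 : chk65 T2 4 = true := by decide +kernel

theorem c2 {a : ℕ} (h : a < 5) : chk65 T2 a = true := by
  interval_cases a
  exacts [c20, c21, c22, c23, c24]

end Cfsg.Agent.E82.K65
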