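import Mathlib
import Cfsg.Agent.E82.Kac
import Cfsg.Agent.E82.Blk
import Cfsg.Agent.E82.K65A

/-!
# The elements of order 65
-/

set_option autoImplicit false
set_option maxRecDepth 100000

namespace Cfsg.Agent.E82

open Cfsg.Lie Cfsg.Lie.ChevalleyDatum Cfsg.Agent.Chev Cfsg.Agent.Chev.S2M Matrix MatrixGroups Polynomial Module

open Chk Kac

namespace K65

theorem expand {f : chevE8.Lat →+ ℤ} {y : ℕ → ℤ} (hy : ∀ k : chevE8.Nd, f (Pi.single k 1) = y k) (v : chevE8.Lat) :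
    f v = ∑ k : chevE8.Nd, v k * y k := by
  conv_lhs => rw [pi_eq_sum_univ' v, map_sum]
  simp only [map_zsmul, smul_eq_mul, hy]

theorem all8 {P : ℕ → Prop} : (∀ i : chevE8.Nd, P i) ↔ P 0 ∧ P 1 ∧ P 2 ∧ P 3 ∧ P 4 ∧ P 5 ∧ P 6 ∧ P 7 :=
  ⟨fun h => ⟨h ⟨0, by decide⟩, h ⟨1, by decide⟩, h ⟨2, by decide⟩, h ⟨3, by decide⟩, h ⟨4, by decide⟩,
    h ⟨5, by decide⟩, h ⟨6, by decide⟩, h ⟨7, by decide⟩⟩, fun ⟨_, _, _, _, _, _, _, _⟩ ⟨i, hi⟩ => by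
      change i < 8 at hi
      change P i
      interval_cases i <;> assumption⟩

/-- The tables needed for `blk13`. -/
def OK (I : List ℕ) (Y : List ℤ) : Prop := (Finset.univ.filter fun i : chevE8.Nd => i.1 ∈ I).card = 4 ∧
  (∀ r : chevE8.Rt, (13 : ℤ) ∣ ∑ k : chevE8.Nd, chevE8.wt r k * Y.getD k 0 →
    ∀ i : chevE8.Nd, i.1 ∈ I → chevE8.cw r i = 0) ∧
  (∀ j : chevE8.Nd, j.1 ∉ I → (13 : ℤ) ∣ ∑ k : chevE8.Nd, chevE8.wt (chevE8.simple j) k * Y.getD k 0) ∧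
  ∃ i : chevE8.Nd, i.1 ∈ I ∧ ¬ (13 : ℤ) ∣ Y.getD i 0

theorem ok1 : OK [0, 1, 4, 7] [6, 2, 11, 3, 6, 8, 10, 12] := by unfold OK; decide +kernel

theorem ok2 : OK [0, 5, 6, 7] [3, 10, 5, 7, 12, 4, 8, 11] := by unfold OK; decide +kernel

theorem five {w : Equiv.Perm chevE8.Rt} (hw : w ∈ chevE8.stRoot.weyl) {f : chevE8.Lat →+ ℤ}
    (hf : ∀ v, (65 : ℤ) ∣ f (chevE8.wl w v) - 2 * f v) {y : ℕ → ℤ}
    (hy : ∀ k : chevE8.Nd, f (Pi.single k 1) = y k) {I : List ℕ} {Y : List ℤ} (h : OK I Y)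
    (hY : ∀ k : chevE8.Nd, (13 : ℤ) ∣ y k - Y.getD k 0) (i : chevE8.Nd) : i.1 ∈ I → (5 : ℤ) ∣ y i := by
  obtain ⟨hc, h1, h2, j, h3, h5⟩ := h
  have h4 : ∀ v : chevE8.Lat, (13 : ℤ) ∣ f v ↔ (13 : ℤ) ∣ ∑ k : chevE8.Nd, v k * Y.getD k 0 := fun v => by
    refine dvd_iff_dvd_of_dvd_sub ?_
    rw [expand hy, ← Finset.sum_sub_distrib]
    exact Finset.dvd_sum fun k _ => by rw [← mul_sub]; exact (hY k).mul_left _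
  intro hi
  rw [← hy]
  refine blk13 hw hf _ hc (fun r h i hi => h1 r ((h4 _).1 h) i (Finset.mem_filter.1 hi).2)
    (fun j h => (h4 _).2 (h2 j fun e => h (Finset.mem_filter.2 ⟨Finset.mem_univ _, e⟩)))
    ⟨j, Finset.mem_filter.2 ⟨Finset.mem_univ _, h3⟩, fun k => h5 ?_⟩ i (Finset.mem_filter.2 ⟨Finset.mem_univ _, hi⟩)
  rw [hy] at k
  exact (dvd_iff_dvd_of_dvd_sub (hY j)).1 k

/-- The Cartan matrix. -/
def cm (i k : ℕ) : ℤ := ([[2, 0, -1, 0, 0, 0, 0, 0], [0, 2, 0, -1, 0, 0, 0, 0], [-1, 0, 2, -1, 0, 0, 0, 0],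
  [0, -1, -1, 2, -1, 0, 0, 0], [0, 0, 0, -1, 2, -1, 0, 0], [0, 0, 0, 0, -1, 2, -1, 0], [0, 0, 0, 0, 0, -1, 2, -1],
  [0, 0, 0, 0, 0, 0, -1, 2]].getD i []).getD k 0

theorem cartan : ∀ i k : chevE8.Nd, chevE8.wt (chevE8.simple i) k = cm i k := by
  decide +kernel

/-- The congruences for the values on the simple roots. -/
def Cg (y : ℕ → ℤ) (n k : ℤ) (t : List ℕ) : Prop :=
  n ∣ k * (2 * y 0 - y 2) - (t.getD 0 0 : ℕ) ∧ n ∣ k * (2 * y 1 - y 3) - (t.getD 1 0 : ℕ) ∧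
  n ∣ k * (2 * y 2 - y 0 - y 3) - (t.getD 2 0 : ℕ) ∧ n ∣ k * (2 * y 3 - y 1 - y 2 - y 4) - (t.getD 3 0 : ℕ) ∧
  n ∣ k * (2 * y 4 - y 3 - y 5) - (t.getD 4 0 : ℕ) ∧ n ∣ k * (2 * y 5 - y 4 - y 6) - (t.getD 5 0 : ℕ) ∧
  n ∣ k * (2 * y 6 - y 5 - y 7) - (t.getD 6 0 : ℕ) ∧ n ∣ k * (2 * y 7 - y 6) - (t.getD 7 0 : ℕ)

theorem cg_iff {f : chevE8.Lat →+ ℤ} {y : ℕ → ℤ} (hy : ∀ k : chevE8.Nd, f (Pi.single k 1) = y k) (n k : ℤ)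
    (t : List ℕ) :
    (∀ i : chevE8.Nd, n ∣ k * f (chevE8.wt (chevE8.simple i)) - (t.getD i 0 : ℕ)) ↔ Cg y n k t := by
  have h : ∀ i : chevE8.Nd, f (chevE8.wt (chevE8.simple i)) = [2 * y 0 - y 2, 2 * y 1 - y 3, 2 * y 2 - y 0 - y 3,
      2 * y 3 - y 1 - y 2 - y 4, 2 * y 4 - y 3 - y 5, 2 * y 5 - y 4 - y 6, 2 * y 6 - y 5 - y 7,
      2 * y 7 - y 6].getD i 0 := fun i => by
    rw [expand hy]
    simp only [cartan]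
    rw [Fin.sum_univ_eq_sum_range fun k => cm i k * y k]
    change ∑ k ∈ Finset.range 8, _ = _
    revert i
    refine (all8 (P := fun i => ∑ k ∈ Finset.range 8, cm i k * y k = List.getD _ i 0)).2 ?_
    simp only [Finset.sum_range_succ, Finset.sum_range_zero, cm, List.getD_cons_zero, List.getD_cons_succ]
    omega
  simp only [h]
  exact all8 (P := fun i => n ∣ k * List.getD _ i 0 - (t.getD i 0 : ℕ))

theorem digit (y : ℤ) : ∃ a : ℕ, a < 5 ∧ (5 : ℤ) ∣ y - a := ⟨(y % 5).toNat, by omega, by omega⟩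

variable {y : ℕ → ℤ} {a b c d : ℕ}

theorem ar0 (h : Cg y 13 1 [0, 0, 0, 0, 0, 0, 0, 0]) : Cg y 65 5 [] := by
  simp only [Cg, List.getD_cons_zero, List.getD_cons_succ, List.getD_nil] at h ⊢
  omega

theorem ar1 (h : Cg y 13 1 [1, 1, 0, 0, 1, 0, 0, 1]) :
    ∀ k : chevE8.Nd, (13 : ℤ) ∣ y k - [6, 2, 11, 3, 6, 8, 10, 12].getD k 0 := by
  refine (all8 (P := fun k => (13 : ℤ) ∣ y k - List.getD _ k 0)).2 ?_
  simp only [Cg, List.getD_cons_zero, List.getD_cons_succ] at h ⊢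
  omega

theorem ar2 (h : Cg y 13 1 [1, 0, 0, 0, 0, 1, 1, 1]) :
    ∀ k : chevE8.Nd, (13 : ℤ) ∣ y k - [3, 10, 5, 7, 12, 4, 8, 11].getD k 0 := by
  refine (all8 (P := fun k => (13 : ℤ) ∣ y k - List.getD _ k 0)).2 ?_
  simp only [Cg, List.getD_cons_zero, List.getD_cons_succ] at h ⊢
  omega

theorem crt {u : ℤ} {s t : ℕ} (h1 : (13 : ℤ) ∣ u - s) (h2 : (13 : ℤ) ∣ (s : ℤ) - t) (h3 : (5 : ℤ) ∣ u - t) :
    (65 : ℤ) ∣ u - t := by omega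

theorem br1 (h : Cg y 13 1 [1, 1, 0, 0, 1, 0, 0, 1]) (e0 : 5 ∣ y 0) (e1 : 5 ∣ y 1) (e4 : 5 ∣ y 4) (e7 : 5 ∣ y 7)
    (ea : 5 ∣ y 2 - a) (eb : 5 ∣ y 3 - b) (ec : 5 ∣ y 5 - c) (ed : 5 ∣ y 6 - d) :
    Cg y 65 1 (T1 a b c d) ∧ (a + b + c + d = 0 → Cg y 65 13 []) := by
  simp only [Cg, T1, List.getD_cons_zero, List.getD_cons_succ, List.getD_nil] at h ⊢
  obtain ⟨h0, h1, h2, h3, h4, h5, h6, h7⟩ := h
  refine ⟨⟨crt h0 ?_ ?_, crt h1 ?_ ?_, crt h2 ?_ ?_, crt h3 ?_ ?_, crt h4 ?_ ?_, crt h5 ?_ ?_, crt h6 ?_ ?_,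
    crt h7 ?_ ?_⟩, fun e => ?_⟩
  all_goals clear h0 h1 h2 h3 h4 h5 h6 h7
  on_goal 17 =>
    obtain ⟨rfl, rfl, rfl, rfl⟩ : a = 0 ∧ b = 0 ∧ c = 0 ∧ d = 0 := by omega
    refine ⟨?_, ?_, ?_, ?_, ?_, ?_, ?_, ?_⟩
  all_goals omega

theorem br2 (h : Cg y 13 1 [1, 0, 0, 0, 0, 1, 1, 1]) (e0 : 5 ∣ y 0) (e1 : 5 ∣ y 5) (e4 : 5 ∣ y 6) (e7 : 5 ∣ y 7)
    (ea : 5 ∣ y 1 - a) (eb : 5 ∣ y 2 - b) (ec : 5 ∣ y 3 - c) (ed : 5 ∣ y 4 - d) :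
    Cg y 65 1 (T2 a b c d) ∧ (a + b + c + d = 0 → Cg y 65 13 []) := by
  simp only [Cg, T2, List.getD_cons_zero, List.getD_cons_succ, List.getD_nil] at h ⊢
  obtain ⟨h0, h1, h2, h3, h4, h5, h6, h7⟩ := h
  refine ⟨⟨crt h0 ?_ ?_, crt h1 ?_ ?_, crt h2 ?_ ?_, crt h3 ?_ ?_, crt h4 ?_ ?_, crt h5 ?_ ?_, crt h6 ?_ ?_,
    crt h7 ?_ ?_⟩, fun e => ?_⟩
  all_goals clear h0 h1 h2 h3 h4 h5 h6 h7
  on_goal 17 =>
    obtain ⟨rfl, rfl, rfl, rfl⟩ : a = 0 ∧ b = 0 ∧ c = 0 ∧ d = 0 := by omega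
    refine ⟨?_, ?_, ?_, ?_, ?_, ?_, ?_, ?_⟩
  all_goals omega

end K65

open K65 in
theorem kac65 {ξ : K2} (hξ : IsPrimitiveRoot ξ 65) {x : G0} (hx : orderOf x = 65) {A : Multiset ℕ}
    (hA : ev x = A.map (ξ ^ ·)) : hist 65 A ∈ L65 := by
  obtain ⟨w, hw, f, s, h1, h2, h3, -, h4, hf, h5, h6⟩ := exists_f (n := 65) (m := 13) (by norm_num) (by norm_num) hξ
    (hx ▸ pow_orderOf_eq_one x) hA
  obtain ⟨y, hy⟩ : ∃ y : ℕ → ℤ, ∀ k : chevE8.Nd, f (Pi.single k 1) = y k :=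
    ⟨fun k => if h : k < chevE8.rank then f (Pi.single ⟨k, h⟩ 1) else 0, fun k => by simp only [dif_pos k.2]⟩
  have h7 : ∀ k : ℕ, Cg y 65 k [] → 65 ∣ k := fun k h =>
    hx ▸ orderOf_dvd_of_pow_eq_one (h5 k fun i => by simpa using (cg_iff hy _ _ _).2 h i)
  have h8 : Cg y 13 1 s := (cg_iff hy 13 1 s).1 fun i => by simpa using h3 i
  have h9 : ∀ t : List ℕ, t.length = 8 → Cg y 65 1 t →
      sumT pw tl2 t 65 1 = sumT pw tl2 t 65 2 ∧ hist 65 A = sumT pw tl2 t 65 1 :=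
    fun t ht h => (h6 t ht fun i => by simpa using (cg_iff hy _ _ _).2 h i).2
  rcases alc13 h1 h2 h4 with rfl | rfl | rfl
  · exact absurd (h7 5 (ar0 h8)) (by norm_num)
  · obtain ⟨e0, e1, -, -, e4, -, -, e7⟩ :=
      (all8 (P := fun i => i ∈ [0, 1, 4, 7] → (5 : ℤ) ∣ y i)).1 (five hw hf hy ok1 (ar1 h8))
    obtain ⟨a, ha, ea⟩ := digit (y 2)
    obtain ⟨b, hb, eb⟩ := digit (y 3)
    obtain ⟨c, hc, ec⟩ := digit (y 5)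
    obtain ⟨d, hd, ed⟩ := digit (y 6)
    obtain ⟨k0, k3⟩ := br1 h8 (e0 (by decide)) (e1 (by decide)) (e4 (by decide)) (e7 (by decide)) ea eb ec ed
    obtain ⟨k1, k2⟩ := h9 _ rfl k0
    rw [k2]
    exact chk65_spec (c1 ha) hb hc hd (fun e => absurd (h7 13 (k3 e)) (by norm_num)) k1
  · obtain ⟨e0, -, -, -, -, e5, e6, e7⟩ :=
      (all8 (P := fun i => i ∈ [0, 5, 6, 7] → (5 : ℤ) ∣ y i)).1 (five hw hf hy ok2 (ar2 h8))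
    obtain ⟨a, ha, ea⟩ := digit (y 1)
    obtain ⟨b, hb, eb⟩ := digit (y 2)
    obtain ⟨c, hc, ec⟩ := digit (y 3)
    obtain ⟨d, hd, ed⟩ := digit (y 4)
    obtain ⟨k0, k3⟩ := br2 h8 (e0 (by decide)) (e5 (by decide)) (e6 (by decide)) (e7 (by decide)) ea eb ec ed
    obtain ⟨k1, k2⟩ := h9 _ rfl k0
    rw [k2]
    exact chk65_spec (c2 ha) hb hc hd (fun e => absurd (h7 13 (k3 e)) (by norm_num)) k1

end Cfsg.Agent.E82
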