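import Mathlib
import Cfsg.Agent.E82.Mod
import Cfsg.Agent.E82.K65
import Cfsg.Agent.E82.K63

/-!
# The three feasible decompositions
-/

set_option autoImplicit false
set_option maxRecDepth 100000

namespace Cfsg.Agent.E82

open Cfsg.Lie Cfsg.Lie.ChevalleyDatum Cfsg.Agent.Chev Cfsg.Agent.Chev.S2M Matrix MatrixGroups Polynomial Module

namespace Srch

open Chk Kac

/-- An orbit of the twist. -/
def orb (x : ℕ × ℕ) : List ℕ := (List.range x.2).map (rot^[·] x.1)

/-- The sum over an orbit. -/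
def osum (g : ℕ → ℕ) (x : ℕ × ℕ) : ℕ := ((orb x).map g).sum

/-- The orbits on the nonzero highest weights. -/
def rp : List (ℕ × ℕ) := [(31, 6), (15, 6), (23, 6), (63, 1), (7, 6), (11, 6), (13, 6), (27, 3), (3, 6), (5, 6),
  (21, 2), (9, 3), (1, 6)]

/-- The dimension. -/
def dm (l : ℕ) : ℕ := (wts l).length

theorem rp_ok : (0 :: rp.flatMap orb).Nodup ∧ (∀ l < 64, l ∈ 0 :: rp.flatMap orb) ∧
    (∀ x ∈ rp, x.1 < 64 ∧ 0 < osum dm x) ∧ (∀ l < 64, rot l < 64 ∧ 0 < dm l) ∧
    ∀ a < 64, ∀ b < 64, rot a = rot b → a = b := by decide +kernel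

theorem sum_orb0 {rp : List (ℕ × ℕ)} (o1 : (0 :: rp.flatMap orb).Nodup) (o2 : ∀ l < 64, l ∈ 0 :: rp.flatMap orb)
    (o3 : ∀ x ∈ rp, x.1 < 64 ∧ 0 < osum dm x) {A : Multiset ℕ} (hA : ∀ l ∈ A, l < 64) (h3 : A.map rot = A)
    (g : ℕ → ℕ) : (A.map g).sum = (rp.map fun x => A.count x.1 * osum g x).sum + A.count 0 * g 0 := by
  obtain ⟨-, -, -, o4, o5⟩ := rp_ok
  have h4 : ∀ k, ∀ l < 64, rot^[k] l < 64 ∧ A.count (rot^[k] l) = A.count l := fun k l hl => by
    induction k with
    | zero => exact ⟨hl, rfl⟩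
    | succ k ih =>
      rw [Function.iterate_succ_apply', ← ih.2]
      refine ⟨(o4 _ ih.1).1, ?_⟩
      conv_lhs => rw [← h3]
      simpa using count_map_eq {rot^[k] l} (by simp) fun w hw e => by
        simp [o5 _ ih.1 _ (hA w hw) e]
  rw [Finset.sum_multiset_map_count,
    Finset.sum_subset (s₂ := (0 :: rp.flatMap orb).toFinset) (fun l hl => List.mem_toFinset.2
      (o2 l (hA l (Multiset.mem_toFinset.1 hl))))
      fun l _ hl => by simpa using .inl (by simpa using hl), List.sum_toFinset _ o1, List.map_cons,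
    List.sum_cons, add_comm, List.map_flatMap, List.flatMap_def, List.sum_flatten, List.map_map, smul_eq_mul]
  refine congrArg (· + _) (congrArg List.sum (List.map_congr_left fun x hx => ?_))
  simp only [Function.comp_apply, osum, orb, List.map_map]
  rw [← List.sum_map_mul_left]
  refine congrArg List.sum (List.map_congr_left fun k _ => ?_)
  simp only [(h4 k _ (o3 x hx).1).2, Function.comp_def, smul_eq_mul]

theorem sum_orb {A : Multiset ℕ} (hA : ∀ l ∈ A, l < 64) (h3 : A.map rot = A) (g : ℕ → ℕ) :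
    (A.map g).sum = (rp.map fun x => A.count x.1 * osum g x).sum + A.count 0 * g 0 :=
  sum_orb0 rp_ok.1 rp_ok.2.1 rp_ok.2.2.1 hA h3 g

/-- The indicator of divisibility. -/
def ind (n w : ℕ) : ℕ := if w % n = 0 then 1 else 0

/-- The packed data of a weight. -/
def fw (w : ℕ) : ℕ := ind 7 w + 257 * (ind 9 w + 257 * 257 ^ (w % 65))

/-- The packed data of a simple module. -/
def gl (l : ℕ) : ℕ := ((wts l).map fw).sum + 257 ^ 67 * 257 ^ l

/-- The fourth decomposition. -/
def Ld : List ℕ := List.replicate 12 0 ++ P2 ++ P2 ++ P2 ++ P2 ++ P2 ++ P2 ++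
  [3, 6, 12, 24, 48, 33, 5, 10, 20, 40, 17, 34, 5, 10, 20, 40, 17, 34, 5, 10, 20, 40, 17, 34,
    9, 18, 36, 9, 18, 36, 9, 18, 36, 21, 42, 21, 42]

/-- The code of a list. -/
def code (L : List ℕ) : ℕ := (L.map (257 ^ ·)).sum

/-- The final test. -/
noncomputable def QQ (t : ℕ) : Bool := cond (memN [38, 80] (Nat.mod t 257))
  (cond (memN [28, 30, 34, 48] (Nat.mod (Nat.div t 257) 257))
    (force (Nat.mod (Nat.div t 66049) (pw 65)) fun a => cond (memN L65 a)
      (force (Nat.div t (pw 67)) (memN [code La, code Lb, code Lc, code Ld])) true) true) true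

theorem mem_of_memN {L : List ℕ} {a : ℕ} (h : memN L a = true) : a ∈ L := by
  induction L with
  | nil => exact absurd h (by simp [memN])
  | cons b L ih =>
    change cond (Nat.beq a b) true (memN L a) = true at h
    cases e : Nat.beq a b
    · rw [e] at h
      exact .tail _ (ih h)
    · exact Nat.eq_of_beq_eq_true e ▸ .head _

theorem QQ_spec {a b c d : ℕ} (ha : a ∈ [38, 80]) (hb : b ∈ [28, 30, 34, 48]) (hc : c ∈ L65)
    (h : QQ (a + 257 * (b + 257 * c) + 257 ^ 67 * d) = true) : d ∈ [code La, code Lb, code Lc, code Ld] := by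
  have h1 := (by decide : ∀ a ∈ [38, 80], a < 257) a ha
  have h2 := (by decide : ∀ a ∈ [28, 30, 34, 48], a < 257) b hb
  have h3 := (by decide +kernel : ∀ a ∈ L65, a < 257 ^ 65) c hc
  generalize ht : a + 257 * (b + 257 * c) + 257 ^ 67 * d = t at h
  have e1 : Nat.mod t 257 = a := show t % 257 = a by omega
  have e2 : Nat.mod (Nat.div t 257) 257 = b := show t / 257 % 257 = b by omega
  have e3 : Nat.mod (Nat.div t 66049) (pw 65) = c := show t / 66049 % 257 ^ 65 = c by omega
  have e4 : Nat.div t (pw 67) = d := show t / 257 ^ 67 = d by omega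
  rw [QQ, force_eq, force_eq, e1, e2, e3, e4, memN_of ha, memN_of hb, memN_of hc] at h
  exact mem_of_memN h

/-- The search over all twist-invariant multisets. -/
noncomputable def srch : Bool :=
  force (gl 0) fun z => forceT (rp.map fun x => [osum dm x, osum gl x]) fun T =>
    mulS (fun e s => force (Nat.add s (Nat.mul e z)) QQ) T 248 0

theorem srch_ok : srch = true := by decide +kernel

theorem sum_WW (A : Multiset ℕ) (f : ℕ → ℕ) : ((WW A).map f).sum = (A.map fun l => ((wts l).map f).sum).sum := by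
  rw [WW, Multiset.map_bind, Multiset.sum_bind]
  simp only [Multiset.map_coe, Multiset.sum_coe]

theorem card_WW (A : Multiset ℕ) : (WW A).card = (A.map dm).sum := by
  rw [WW, Multiset.card_bind]
  rfl

theorem srch_spec {A : Multiset ℕ} (hA : ∀ l ∈ A, l < 64) (h3 : A.map rot = A) (h4 : (WW A).card = 248) :
    QQ (((WW A).map fw).sum + 257 ^ 67 * (A.map (257 ^ ·)).sum) = true := by
  have h := srch_ok
  rw [srch, force_eq, forceT_eq] at h
  have := mulS_spec (fun x => A.count x.1) (fun x hx => (rp_ok.2.2.1 x hx).2) h (e := A.count 0) (by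
    rw [← h4, card_WW, sum_orb hA h3 dm, show dm 0 = 1 from rfl, mul_one])
  rw [force_eq, zero_add, Nat.add_eq, Nat.mul_eq, ← sum_orb hA h3] at this
  rwa [sum_WW, ← Multiset.sum_map_mul_left, ← Multiset.sum_map_add]

theorem sum_ind (n : ℕ) (W : Multiset ℕ) : (W.map (ind n)).sum = (W.map (· % n)).count 0 := by
  induction W using Multiset.induction_on with
  | empty => simp
  | cons w W ih =>
    rw [Multiset.map_cons, Multiset.sum_cons, Multiset.map_cons, Multiset.count_cons, ih, add_comm, ind]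
    simp only [eq_comm]

theorem sum_fw (W : Multiset ℕ) :
    (W.map fw).sum = (W.map (· % 7)).count 0 + 257 * ((W.map (· % 9)).count 0 + 257 * hist 65 W) := by
  rw [← sum_ind, ← sum_ind, hist, ← Multiset.sum_map_mul_left, ← Multiset.sum_map_add, ← Multiset.sum_map_mul_left,
    ← Multiset.sum_map_add]
  rfl

theorem hist_Ld : hist 63 (WW Ld) = HD := by decide +kernel

end Srch

open Srch Kac in
theorem ch_cases {F : Type*} [Field F] [Fintype F] {ι : F →+* K2} (hF : Fintype.card F = 64)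
    {φ : SL(2, F) →* G0} (hφ : Function.Injective φ) {A : Multiset ℕ} (h : Ch ι (rep φ) A) :
    A = La ∨ A = Lb ∨ A = Lc := by
  have key : ∀ n, 1 < n → n ∣ 63 ∨ n ∣ 65 → ∃ (ξ : K2) (x : G0), IsPrimitiveRoot ξ n ∧ orderOf x = n ∧
      ev x = (WW A).map (ξ ^ ·) := fun n h1 hn => by
    have hd : n ∣ 4095 := hn.elim (·.trans (by norm_num)) (·.trans (by norm_num))
    obtain ⟨ξ, hξ⟩ := exists_root (n := n) (Odd.of_dvd_nat (by decide) hd)
    obtain ⟨g, hg, ho⟩ := exists_elt ι hF h1 hn hξ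
    refine ⟨ξ, φ g, hξ, (orderOf_injective φ hφ g).trans ho, ?_⟩
    rw [← h.roots hg ((hξ.pow_eq_one_iff_dvd _).2 hd), ev, ← charpoly_lin]
    rfl
  have hr : A.map rot = A := rot_inv h.1 fun n hn => by
    have h12 : 1 < n ∧ (n ∣ 63 ∨ n ∣ 65) := by
      simp only [List.mem_cons, List.not_mem_nil, or_false] at hn
      rcases hn with rfl | rfl
      exacts [⟨by norm_num, .inl dvd_rfl⟩, ⟨by norm_num, .inr dvd_rfl⟩]
    obtain ⟨ξ, x, a1, -, a2⟩ := key n h12.1 h12.2
    have a3 := ev_frob x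
    rw [a2, Multiset.map_map] at a3
    simpa using map_mod_eq (by omega) a1 (A := (WW A).map (2 * ·)) (B := WW A)
      (by rw [← a3]; simp [← pow_mul, mul_comm])
  obtain ⟨ξ65, x65, a1, a2, a3⟩ := key 65 (by norm_num) (.inr dvd_rfl)
  obtain ⟨ξ63, x63, b1, b2, b3⟩ := key 63 (by norm_num) (.inl dvd_rfl)
  obtain ⟨ξ7, x7, c1, c2, c3⟩ := key 7 (by norm_num) (.inl (by norm_num))
  obtain ⟨ξ9, x9, d1, d2, d3⟩ := key 9 (by norm_num) (.inl (by norm_num))
  have hc : (WW A).card = 248 := by rw [← card_ev x65, a3, Multiset.card_map]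
  have h5 := srch_spec h.1 hr hc
  rw [sum_fw] at h5
  have h6 := QQ_spec (kac7 c1 c2 c3) (kac9 d1 d2 d3) (kac65 a1 a2 a3) h5
  have hA : A.card < 257 := by
    have := Multiset.card_nsmul_le_sum (s := A.map dm) (a := 1) fun d hd => by
      obtain ⟨l, hl, rfl⟩ := Multiset.mem_map.1 hd
      exact (rp_ok.2.2.2.1 l (h.1 l hl)).2
    rw [← card_WW, hc, Multiset.card_map, smul_eq_mul] at this
    omega
  have h7 : ∀ L : List ℕ, L.length < 257 → (A.map (257 ^ ·)).sum = code L → A = L := fun L h1 h2 =>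
    pack_inj hA (by simpa using h1) (by simpa [code] using h2)
  simp only [List.mem_cons, List.not_mem_nil, or_false] at h6
  rcases h6 with e | e | e | e
  · exact .inl (h7 _ (by decide) e)
  · exact .inr (.inl (h7 _ (by decide) e))
  · exact .inr (.inr (h7 _ (by decide) e))
  · exact absurd (h7 _ (by decide) e ▸ hist_Ld) (kac63 b1 (b2 ▸ pow_orderOf_eq_one x63) b3)

end Cfsg.Agent.E82
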