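import Mathlib
import Cfsg.Agent.E82.Defs
import Cfsg.Agent.FV.Lang
import Cfsg.Agent.Chev.SsLoc

/-!
# Frobenius-stable maximal tori through a semisimple element
-/

set_option autoImplicit false

namespace Cfsg.Agent.E82

open Cfsg.Lie Cfsg.Lie.ChevalleyDatum Cfsg.Agent.Chev Cfsg.Agent.Chev.S2M Matrix MatrixGroups Polynomial Module

namespace TorA1

open FV (TX)

variable {D : ChevalleyDatum} [hG : D.Good]

variable (D) in
/-- The Frobenius map for an arbitrary datum. -/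
noncomputable def frD : GL D.Idx K2 →* GL D.Idx K2 := GeneralLinearGroup.map (frobenius K2 2)

omit hG in
theorem coe_frD (g : GL D.Idx K2) : (frD D g).val = g.val.map (frobenius K2 2) := rfl

omit hG in
theorem fr_pow {φ : Monoid.End (GL D.Idx K2)} (h : ∀ y, φ y = frD D y) (M : ℕ) (y : GL D.Idx K2) :
    (φ ^ M) y = GeneralLinearGroup.map (iterateFrobenius K2 2 M) y := by
  induction M with
  | zero => exact Units.ext (by ext; simp)
  | succ k ih =>
    rw [pow_succ', Monoid.End.coe_mul, Function.comp_apply, ih, h]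
    exact Units.ext (by ext; simp [coe_frD, iterateFrobenius_def, frobenius_def, pow_succ 2 k, pow_mul])

omit hG in
theorem frob_fix (y : GL D.Idx K2) :
    ∃ m, m ≠ 0 ∧ ∀ k, GeneralLinearGroup.map (iterateFrobenius K2 2 (m * k)) y = y := by
  choose m hm h using fun q : D.Idx × D.Idx => locFin_algebraicClosure (ZMod 2) 2 (y.val q.1 q.2)
  refine ⟨∏ q, m q, Finset.prod_ne_zero_iff.2 fun q _ => hm q, fun k => Units.ext (Matrix.ext fun i j => ?_)⟩
  obtain ⟨c, hc⟩ := (Finset.dvd_prod_of_mem m (Finset.mem_univ (i, j))).mul_right k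
  rw [hc]
  exact pow_pow_mul_eq (h (i, j)) c

omit hG in
theorem frob_fin {M : ℕ} (hM : M ≠ 0) {P : GL D.Idx K2 → Prop}
    (h : ∀ y, P y → GeneralLinearGroup.map (iterateFrobenius K2 2 M) y = y) : Finite {y // P y} := by
  have := finite_eqLocusField (Nat.one_lt_pow hM (by norm_num : 1 < 2)) (iterateFrobenius_def (R := K2) 2 M)
  exact Finite.of_injective (fun y (i j : D.Idx) => (⟨y.1.val i j,
    congrArg (fun g : GL D.Idx K2 => g.val i j) (h _ y.2)⟩ :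
      (iterateFrobenius K2 2 M).eqLocusField (RingHom.id K2)))
    fun y y' e => Subtype.ext (Units.ext (Matrix.ext fun i j =>
      congrArg Subtype.val (congrFun (congrFun e i) j)))

/-- Lang's theorem for the Frobenius map twisted by a monomial element. -/
theorem lang_TX {S : Set D.Rt} {n u u' : GL D.Idx K2} (hn : n ∈ D.monomialSubgroup K2)
    (hS : ∀ r, D.wOf K2 n r ∈ S ↔ r ∈ S) (hu : u ∈ TX D K2 S) (hu' : u' ∈ TX D K2 S) :
    ∃ z ∈ TX D K2 S, frD D z * (u * n * u') * z⁻¹ ∈ D.monomialSubgroup K2 := by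
  obtain ⟨h, hh, l, rfl⟩ := D.exists_eq_mul_nWordS K2 hn
  have hm := D.nWordS_mem K2 l
  rw [D.wOf_mul K2 ((D.rootBN K2).H_le_N hh) hm, D.wOf_H K2 hh, one_mul] at hS
  have hc : ∀ y ∈ TX D K2 S, (D.nWordS K2 l)⁻¹ * y * D.nWordS K2 l ∈ TX D K2 S := fun y hy => by
    simpa using FV.TX_conj (inv_mem hm) (fun r hr => by
      rw [D.wOf_inv K2 hm, ← hS]; simpa using hr) hy
  have hp := fr_pow (D := D) (φ := frD D) fun _ => rfl
  obtain ⟨z, hz, e⟩ := FV.lang_twist (φ := frD D) (FV.map_nWordS _ l) (fun y hy => hc _ (FV.TX_map _ hy))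
    (fun y => (frob_fix y).imp fun m h => ⟨h.1, fun k => (hp _ _).trans (h.2 k)⟩)
    (fun M hM => frob_fin hM fun y h => (hp _ _).symm.trans h)
    (fun M hM y hy => (FV.lang_pow 2 hM hy).imp fun z h => ⟨h.1, h.2.trans (congrArg _ (hp _ _).symm)⟩)
    (inv_mem (mul_mem (hc _ (mul_mem hu (Subgroup.mem_sup_right hh))) hu'))
  refine ⟨z, hz, ?_⟩
  have e1 : frD D z = D.nWordS K2 l * z * ((D.nWordS K2 l)⁻¹ * (u * h) * D.nWordS K2 l * u')⁻¹ *
      (D.nWordS K2 l)⁻¹ := by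
    rw [e]; group; rfl
  rw [e1]
  convert hm using 1
  group

theorem fr_diag {t : GL D.Idx K2} (ht : t ∈ D.diagonalSubgroup K2) : frD D t = t ^ 2 := by
  rw [← range_torusHom] at ht
  obtain ⟨c, rfl⟩ := ht
  rw [← map_pow]
  exact (Th.glMap_torus _ c).trans (congrArg _ (funext fun i => Units.ext (by simp [frobenius_def])))

theorem diag_comm {s t : GL D.Idx K2} (hs : s ∈ D.diagonalSubgroup K2) (ht : t ∈ D.diagonalSubgroup K2) :
    s * t = t * s := by
  rw [← range_torusHom] at hs ht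
  obtain ⟨c, rfl⟩ := hs
  obtain ⟨d, rfl⟩ := ht
  rw [← map_mul, ← map_mul, mul_comm]

theorem fix_wOf {S : Subgroup (GL D.Idx K2)} {n : GL D.Idx K2} (hn : n ∈ D.monomialSubgroup K2)
    (hS : n ∈ Subgroup.normalizer (S : Set (GL D.Idx K2))) (r : D.Rt) :
    D.wOf K2 n r ∈ StRoot.fixR (fun r : D.Rt => D.X K2 r) S ↔ r ∈ StRoot.fixR (fun r : D.Rt => D.X K2 r) S := by
  obtain ⟨a, ha, -⟩ := D.exists_conj_X_wOf K2 hn r
  refine ⟨fun h s hs c => ?_, fun h s hs c => ?_⟩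
  · have h1 := h _ ((Subgroup.mem_normalizer_iff.1 hS s).1 hs) (a * c)
    simp only [← ha] at h1
    calc s * D.X K2 r c * s⁻¹ = n⁻¹ * (n * s * n⁻¹ * (n * D.X K2 r c * n⁻¹) * (n * s * n⁻¹)⁻¹) * n := by group
      _ = D.X K2 r c := by rw [h1]; group
  · have h1 := h _ ((Subgroup.mem_normalizer_iff.1 (inv_mem hS) s).1 hs) (a⁻¹ * c)
    have h2 := ha (a⁻¹ * c)
    rw [Units.mul_inv_cancel_left] at h2
    simp only at h1 ⊢
    rw [← h2]
    calc s * (n * D.X K2 r (a⁻¹ * c) * n⁻¹) * s⁻¹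
        = n * (n⁻¹ * s * n⁻¹⁻¹ * D.X K2 r (a⁻¹ * c) * (n⁻¹ * s * n⁻¹⁻¹)⁻¹) * n⁻¹ := by group
      _ = _ := by rw [h1]

theorem TX_cent {t z : GL D.Idx K2} (ht : t ∈ D.diagonalSubgroup K2)
    (hz : z ∈ TX D K2 (StRoot.fixR (fun r : D.Rt => D.X K2 r) (Subgroup.zpowers t))) : z * t * z⁻¹ = t := by
  obtain ⟨x, hx, s, hs, rfl⟩ := FV.TX_factor hz
  have h : x * t = t * x := D.XS_monoid_induction K2 (P := fun g => g * t = t * g)
    (S := StRoot.fixR (fun r : D.Rt => D.X K2 r) (Subgroup.zpowers t)) (by simp) (fun r hr c => (mul_inv_eq_iff_eq_mul.1 (hr t (Subgroup.mem_zpowers t) c)).symm)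
    (fun a b ha hb => by rw [mul_assoc, hb, ← mul_assoc, ha, mul_assoc]) hx
  rw [mul_assoc x, diag_comm hs ht, ← mul_assoc, h, mul_assoc t, mul_inv_cancel_right]

theorem stable {g y : GL D.Idx K2} (hg : g ∈ D.group K2) (hy : frD D y = y) (ho : IsOfFinOrder y)
    (ht : g * y * g⁻¹ ∈ D.diagonalSubgroup K2) :
    ∃ g ∈ D.group K2, g * y * g⁻¹ ∈ D.diagonalSubgroup K2 ∧ frD D g * g⁻¹ ∈ D.monomialSubgroup K2 := by
  have h1 : frD D g * g⁻¹ * (g * y * g⁻¹) * (frD D g * g⁻¹)⁻¹ = (g * y * g⁻¹) ^ 2 := by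
    rw [← fr_diag ht, map_mul, map_mul, map_inv, hy]; group
  have h2 : IsOfFinOrder (g * y * g⁻¹) := (MulAut.conj g).toMonoidHom.isOfFinOrder ho
  have h3 : Finite (Subgroup.zpowers (g * y * g⁻¹) : Set (GL D.Idx K2)) := h2.finite_zpowers
  obtain ⟨u, hu, n, hn, v, hv, e, h4⟩ := (D.isStrong_X K2).exists_of_norm (S := Subgroup.zpowers (g * y * g⁻¹))
    (g := frD D g * g⁻¹) (by rw [st_HH, Subgroup.zpowers_le]; exact ht)
    (by rw [st_XS_univ]; exact mul_mem (glMap_mem_group D _ hg) (inv_mem hg))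
    (Subgroup.mem_normalizer_fintype (by
      rintro _ ⟨k, rfl⟩
      simp only
      rw [← conj_zpow, h1]
      exact zpow_mem (pow_mem (Subgroup.mem_zpowers _) 2) k))
  rw [st_XS] at hu hv
  rw [st_NN] at hn
  obtain ⟨z, hz, h5⟩ := lang_TX hn (fix_wOf hn h4) (Subgroup.mem_sup_left hu) (Subgroup.mem_sup_left hv)
  refine ⟨z * g, mul_mem (FV.TX_le_group _ hz) hg, ?_, ?_⟩
  · rw [show z * g * y * (z * g)⁻¹ = z * (g * y * g⁻¹) * z⁻¹ by group, TX_cent ht hz]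
    exact ht
  · rwa [map_mul, _root_.mul_inv_rev, ← mul_assoc, mul_assoc _ _ g⁻¹, e]

end TorA1

theorem exists_stable {x : G0} (hx : Odd (orderOf x)) : ∃ g ∈ chevE8.group K2,
    g * emb x * g⁻¹ ∈ chevE8.diagonalSubgroup K2 ∧ fr g * g⁻¹ ∈ chevE8.monomialSubgroup K2 := by
  obtain ⟨-, -, χ, -, hc⟩ := chevE8.exists_isConj_torC_group (ZMod 2) (stTor_injective_E8 K2) 2 x
    (Nat.coprime_two_right.2 hx)
  obtain ⟨g, hg⟩ := isConj_iff.1 hc
  refine TorA1.stable g.2 (fr_emb x) (emb.isOfFinOrder (orderOf_pos_iff.1 hx.pos)) ?_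
  exact (chevE8.mem_HH_XG K2).1 (hg ▸ chevE8.stProj_torC_mem χ)

end Cfsg.Agent.E82
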