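import Mathlib
import Cfsg.Agent.E82.TorA
import Cfsg.Agent.E82.TorB
import Cfsg.Agent.Chev.AltBlk
import Cfsg.Agent.Chev.SimCoef

/-!
# The centraliser of an element of order 65
-/

set_option autoImplicit false

namespace Cfsg.Agent.E82

open Cfsg.Lie Cfsg.Lie.ChevalleyDatum Cfsg.Agent.Chev Cfsg.Agent.Chev.S2M Matrix MatrixGroups Polynomial Module

namespace Tor

variable {D : ChevalleyDatum} [D.Good] {Γ : Type*} [Group Γ]

variable (D) in
/-- The Frobenius map. -/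
noncomputable abbrev fq : GL D.Idx K2 →* GL D.Idx K2 := GeneralLinearGroup.map (frobenius K2 2)

theorem gen (hinj : Function.Injective (D.stTor K2)) (hZ : Function.Injective (D.stProj K2))
    (j : Γ →* GL D.Idx K2) (ji : Function.Injective j)
    (hfix : ∀ g ∈ D.group K2, fq D g = g → g ∈ j.range) (hF : ∀ a, fq D (j a) = j a)
    {g : GL D.Idx K2} (hg : g ∈ D.group K2) (e : fq D g * g⁻¹ ∈ D.monomialSubgroup K2) :
    ∃ (A : Subgroup Γ) (w : Equiv.Perm D.Rt) (c : D.Rt → K2), w ∈ D.stRoot.weyl ∧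
      Nat.card A = (D.wm w - (2 : ℤ) • 1).det.natAbs ∧
      (∀ a, a ∈ A ↔ g * j a * g⁻¹ ∈ D.diagonalSubgroup K2) ∧ (∀ s, c s ≠ 0) ∧
      ∀ (s : D.Rt) (u : K2), (fq D g * g⁻¹)⁻¹ * D.X K2 s u * (fq D g * g⁻¹) =
        D.X K2 (w s) (c s * u) := by
  have hm : fq D g * g⁻¹ ∈ D.group K2 := mul_mem (glMap_mem_group _ _ hg) (inv_mem hg)
  obtain ⟨n, hn⟩ := D.stProj_surjective K2 (⟨_, hm⟩ : D.group K2)⁻¹
  have hN : n ∈ D.stRoot.NN (fun r : D.Rt => D.stGen K2 r) :=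
    D.mem_NN_of_stProj (hn ▸ inv_mem ((D.mem_NN_XG K2).2 e))
  obtain ⟨L, hL, hc⟩ := D.exists_lw_conj hN
  obtain ⟨c, mo⟩ := (D.isStrong_stGen K2).toIsModel.toIsSt.mono_wN hN
  rw [lw_eq_wl] at hc
  rw [← hL] at mo
  have hw := D.stRoot.wd_mem_weyl L
  generalize D.stRoot.wd L = w at hc mo hw
  obtain ⟨-, hcard⟩ := D.natCard_twT (ZMod 2) hw
  rw [ZMod.card, Nat.cast_ofNat] at hcard
  generalize hT : twT K2 (D.wl w) 2 = T at hcard
  let π : D.SteinbergGroup K2 →* GL D.Idx K2 := (D.group K2).subtype.comp (D.stProj K2)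
  have hπ : Function.Injective π := Subtype.val_injective.comp hZ
  have hπn : π n = (fq D g * g⁻¹)⁻¹ := congrArg Subtype.val hn
  let f : T →* GL D.Idx K2 :=
    (MulAut.conj g⁻¹).toMonoidHom.comp ((π.comp (D.torC K2)).comp T.subtype)
  have hf : ∀ χ : T, f χ = g⁻¹ * π (D.torC K2 χ) * g := fun χ => by
    simp [f]
  have hfi : Function.Injective f := fun χ ψ h => by
    rw [hf, hf, mul_left_inj, mul_right_inj] at h
    exact Subtype.ext (D.torC_injective hinj (hπ h))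
  have h1 : ∀ s, fq D (π s) = π (D.stMap (frobenius K2 2) s) := fun s =>
    (congrArg Subtype.val (D.stProj_stMap (frobenius K2 2) s)).symm
  have hmem : ∀ χ, χ ∈ T ↔
      fq D (π (D.torC K2 χ)) = fq D g * g⁻¹ * π (D.torC K2 χ) * (fq D g * g⁻¹)⁻¹ := fun χ => by
    rw [← hT, D.mem_twT_iff_stMap hinj (φ := frobenius K2 2) (fun t => by simp [frobenius_def]),
      ← hc, ← hπ.eq_iff, h1, map_mul, map_mul, map_inv, hπn, inv_inv]
  have hfr : ∀ χ : T, f χ ∈ j.range := fun χ => by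
    refine hfix _ (hf χ ▸ mul_mem (mul_mem (inv_mem hg) (D.stProj K2 _).2) hg) ?_
    rw [hf, map_mul, map_mul, map_inv, (hmem χ).1 χ.2]
    group
  refine ⟨f.range.comap j, w, c, hw, ?_, fun a => ⟨?_, fun ha => ?_⟩, mo.ne_zero, fun s u => ?_⟩
  · rw [← Subgroup.card_map_of_injective ji,
      Subgroup.map_comap_eq_self (by rintro _ ⟨χ, rfl⟩; exact hfr χ), f.range_eq_map,
      Subgroup.card_map_of_injective hfi, Subgroup.card_top, hcard]
  · rintro ⟨χ, hχ⟩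
    have : g * j a * g⁻¹ = π (D.torC K2 χ) := by rw [← hχ, hf]; group
    exact this ▸ (D.mem_HH_XG K2).1 (D.stProj_torC_mem _)
  · obtain ⟨s, hs⟩ := D.stProj_surjective K2 (⟨_, (D.rootBN K2).H_le_G ha⟩ : D.group K2)
    obtain ⟨ψ, rfl⟩ := D.exists_torC (D.mem_HH_of_stProj (g := s)
      ((D.mem_HH_XG K2).2 (by rw [hs]; exact ha)))
    have h2 : π (D.torC K2 ψ) = g * j a * g⁻¹ := congrArg Subtype.val hs
    refine ⟨⟨ψ, (hmem ψ).2 ?_⟩, ?_⟩
    · rw [h2, map_mul, map_mul, map_inv, hF]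
      group
    · rw [hf, h2]
      group
  · have h3 := congrArg π (mo.conj s u)
    have h4 : ∀ (r : D.Rt) (t : K2), π (D.stGen K2 r t) = D.X K2 r t := fun r t =>
      congrArg Subtype.val (D.stProj_stGen K2 r t)
    rwa [map_mul, map_mul, map_inv, hπn, inv_inv, h4, h4] at h3

theorem main (hinj : Function.Injective (D.stTor K2)) (hZ : Function.Injective (D.stProj K2))
    (j : Γ →* GL D.Idx K2) (ji : Function.Injective j)
    (hfix : ∀ g ∈ D.group K2, fq D g = g → g ∈ j.range) (hF : ∀ a, fq D (j a) = j a)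
    (fixr : ∀ w ∈ D.stRoot.weyl, (D.wm w - (2 : ℤ) • 1).det.natAbs = 65 → ∃ r, w r = r)
    {x : Γ} (hx : orderOf x = 65) {g : GL D.Idx K2} (hg : g ∈ D.group K2)
    (hd : g * j x * g⁻¹ ∈ D.diagonalSubgroup K2) (e : fq D g * g⁻¹ ∈ D.monomialSubgroup K2) :
    ∃ χ : ℕ → K2ˣ, D.IsRootCharacter χ ∧ g * j x * g⁻¹ = D.charG K2 χ ∧ ∃ a : Γ,
      a ∉ Subgroup.zpowers x ∧ g * j a * g⁻¹ ∈ FV.TX D K2 {r | χ r = 1} := by
  obtain ⟨χ, hχ, ht⟩ := D.exists_char_of_mem_diagonal K2 hd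
  refine ⟨χ, hχ, ht, ?_⟩
  obtain ⟨A, w, c, hw, hA, mem, c0, hc⟩ := gen hinj hZ j ji hfix hF hg e
  by_cases hle : A ≤ Subgroup.zpowers x
  swap
  · obtain ⟨a, ha, hn⟩ := SetLike.not_le_iff_exists.1 hle
    exact ⟨a, hn, Subgroup.mem_sup_right ((mem a).1 ha)⟩
  have hE : A = Subgroup.zpowers x := le_antisymm hle (Subgroup.zpowers_le.2 ((mem x).2 hd))
  rw [hE, Nat.card_zpowers, hx] at hA
  obtain ⟨r, hr⟩ := fixr w hw hA.symm
  generalize hm : fq D g * g⁻¹ = m at hc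
  have hg' : fq D g = m * g := by rw [← hm]; group
  have h1 : ∀ u, m⁻¹ * D.X K2 r u * m = D.X K2 r (c r * u) := fun u => by rw [hc, hr]
  have h2 : ∀ u, m * D.X K2 r (c r * u) * m⁻¹ = D.X K2 r u := fun u => by rw [← h1]; group
  have h3 : fq D (D.charG K2 χ) = m * D.charG K2 χ * m⁻¹ := by
    rw [← ht, map_mul, map_mul, map_inv, hF, hg']
    group
  have h4 : χ r = 1 := by
    have h5 := congrArg (fq D) (D.charG_conj_X K2 hχ r 1)
    rw [map_mul, map_mul, map_inv, h3, glMap_X, glMap_X, map_one, mul_one, frobenius_def] at h5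
    have h6 : m * D.charG K2 χ * m⁻¹ * D.X K2 r 1 * (m * D.charG K2 χ * m⁻¹)⁻¹ =
        D.X K2 r (χ r) := by
      calc _ = m * (D.charG K2 χ * (m⁻¹ * D.X K2 r 1 * m) * (D.charG K2 χ)⁻¹) * m⁻¹ := by group
        _ = _ := by rw [h1, D.charG_conj_X K2 hχ, mul_one, mul_comm (χ r : K2), h2]
    have h7 := D.X_injective K2 r (h5.symm.trans h6)
    rw [pow_two] at h7
    exact Units.ext (mul_left_cancel₀ (χ r).ne_zero (h7.trans (mul_one _).symm))
  have h8 : fq D (D.X K2 r (c r)⁻¹) = m * D.X K2 r (c r)⁻¹ * m⁻¹ := by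
    rw [glMap_X, frobenius_def, ← h2 ((c r)⁻¹ ^ 2), pow_two, mul_inv_cancel_left₀ (c0 r)]
  obtain ⟨a, ha⟩ := hfix (g⁻¹ * D.X K2 r (c r)⁻¹ * g)
    (mul_mem (mul_mem (inv_mem hg) (D.X_mem_group K2 r _)) hg) (by
      rw [map_mul, map_mul, map_inv, h8, hg']
      group)
  have h9 : g * j a * g⁻¹ = D.X K2 r (c r)⁻¹ := by rw [ha]; group
  refine ⟨a, fun hz => ?_, Subgroup.mem_sup_left (h9 ▸ D.X_mem_XS K2 (S := {r | χ r = 1}) h4 _)⟩
  have a2 : a ^ 2 = 1 := by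
    refine ji ?_
    rw [map_pow, map_one, ← conj_eq_one_iff (a := g), ← conj_pow, h9, pow_two, ← D.X_add,
      CharTwo.add_self_eq_zero, D.X_eq_one_iff]
  have a1 : a = 1 := by
    rw [← orderOf_eq_one_iff]
    exact Nat.eq_one_of_dvd_coprimes (by norm_num : Nat.Coprime 2 65)
      (orderOf_dvd_of_pow_eq_one a2) (hx ▸ orderOf_dvd_of_mem_zpowers hz)
  rw [a1, map_one, mul_one, mul_inv_cancel, eq_comm, D.X_eq_one_iff] at h9
  exact inv_ne_zero (c0 r) h9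

end Tor

theorem exists_tor {x : G0} (hx : orderOf x = 65) : ∃ g ∈ chevE8.group K2, ∃ χ : ℕ → K2ˣ,
    chevE8.IsRootCharacter χ ∧ g * emb x * g⁻¹ = chevE8.charG K2 χ ∧ ∃ a : G0,
      a ∉ Subgroup.zpowers x ∧ g * emb a * g⁻¹ ∈ FV.TX chevE8 K2 {r | χ r = 1} := by
  obtain ⟨g, hg, hd, e⟩ := exists_stable (x := x) (by rw [hx]; decide)
  exact ⟨g, hg, Tor.main (stTor_injective_E8 K2)
    (by rw [← MonoidHom.ker_eq_bot_iff, ker_stProj, center_stE8]) emb emb_injective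
    (fun _ h => (fr_eq_iff h).1) fr_emb (fun _ hw h => fix_root hw h) hx hg hd e⟩

end Cfsg.Agent.E82
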