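import Mathlib
import Cfsg.Agent.E82.FinA
import Cfsg.Agent.E82.Br
import Cfsg.Agent.E82.Tor
import Cfsg.Agent.E82.Srch
import Cfsg.Agent.E82.CaseA
import Cfsg.Agent.E82.CaseC
import Cfsg.Agent.E82.GrpB

/-!
# `L₂(64)` is not the generalized Fitting subgroup of a maximal subgroup of `E₈(2)`
-/

set_option autoImplicit false

namespace Cfsg.Agent.E82

open Cfsg.Lie Cfsg.Lie.ChevalleyDatum Cfsg.Agent.Chev Cfsg.Agent.Chev.S2M Cfsg.Agent.FV Matrix MatrixGroups Module

theorem mul_act (a b : GG) (v : VV) : (a * b).val *ᵥ v = a.val *ᵥ (b.val *ᵥ v) := by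
  rw [Units.val_mul, mulVec_mulVec]

theorem inv_act (g : GG) (v : VV) : (g⁻¹).val *ᵥ (g.val *ᵥ v) = v := by
  rw [← mul_act, inv_mul_cancel, Units.val_one, one_mulVec]

theorem act_inv (g : GG) (v : VV) : g.val *ᵥ ((g⁻¹).val *ᵥ v) = v := inv_act g⁻¹ v

theorem conj_fix (g s : GG) (v : VV) :
    (g * s * g⁻¹).val *ᵥ v = v ↔ s.val *ᵥ ((g⁻¹).val *ᵥ v) = (g⁻¹).val *ᵥ v := by
  rw [mul_act, mul_act]
  exact ⟨fun h => by rw [← inv_act g (s.val *ᵥ _), h], fun h => by rw [h, act_inv]⟩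

theorem finrank_comap (g : GG) (W : Submodule K2 VV) : finrank K2 (W.comap (lin g⁻¹)) = finrank K2 W :=
  (LinearEquiv.ofSubmodule' (LinearEquiv.ofLinearMap (lin g⁻¹) (lin g) (LinearMap.ext (inv_act g))
    (LinearMap.ext (act_inv g))) W).finrank_eq

theorem finrank_conj (g s : GG) :
    finrank K2 (End.eigenspace (lin (g * s * g⁻¹)) 1) = finrank K2 (End.eigenspace (lin s) 1) := by
  rw [← finrank_comap g (End.eigenspace (lin s) 1), show End.eigenspace (lin (g * s * g⁻¹)) 1 =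
    (End.eigenspace (lin s) 1).comap (lin g⁻¹) from Submodule.ext fun v => by rw [Submodule.mem_comap, mem_eig, mem_eig, conj_fix, lin_apply]]

variable {F : Type*} [Field F] [Fintype F] {H : Subgroup G0} {φ : SL(2, F) →* G0}

theorem core (hF : Fintype.card F = 64) (c : Ctx H φ) (hm : IsCoatom H) {x : SL(2, F)} (hx : orderOf x = 65)
    {a : G0} (ha : a ∉ Subgroup.zpowers (φ x)) (hc : a * φ x = φ x * a) {W : Submodule K2 VV} (h0 : W ≠ ⊥)
    (h1 : W ≠ ⊤) (hH : ∀ h ∈ H, ∀ v ∈ W, (emb h).val *ᵥ v ∈ W) (hA : ∀ v ∈ W, (emb a).val *ᵥ v ∈ W) :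
    False := by
  let S : Submonoid G0 :=
    { carrier := {b | ∀ v ∈ W, (emb b).val *ᵥ v ∈ W}
      mul_mem' := fun ha hb v hv => by rw [map_mul, mul_act]; exact ha _ (hb v hv)
      one_mem' := fun v hv => by simpa using hv }
  let T : Subgroup G0 := ⟨S, fun {b} hb => Submonoid.powers_le.2 hb
    (mem_powers_iff_mem_zpowers.2 (inv_mem (Subgroup.mem_zpowers b)))⟩
  have h2 : T ≠ ⊤ := fun e => (irr fun b => (e.ge (Subgroup.mem_top b) : b ∈ T)).elim h0 h1
  exact ha (c.mem_zpowers hF hx (((hm.le_iff.1 (show H ≤ T from hH)).resolve_left h2).le hA) hc)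

omit [Fintype F] in
theorem inv_conj (c : Ctx H φ) {h : G0} (hh : h ∈ H) {v : VV} (hv : v ∈ (rep φ).invariants) :
    (emb h).val *ᵥ v ∈ (rep φ).invariants := fun s => by
  obtain ⟨s', e⟩ := c.nrm _ (inv_mem hh) s
  rw [rep_apply, ← mul_act, ← map_mul, show φ s * h = h * φ s' by rw [← e]; group, map_mul, mul_act,
    ← rep_apply, hv s']

theorem cen_conj (hF : Fintype.card F = 64) (c : Ctx H φ) {β : VV →ₗ[K2] VV →ₗ[K2] VV} (hβ : IsBr β)
    {x : SL(2, F)} (hx : orderOf x = 65) {h : G0} (hh : h ∈ H) {v : VV} (hv : v ∈ (rep φ).invariants)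
    (h1 : ∀ w, rep φ x w = w → β v w = 0) (w : VV) (hw : rep φ x w = w) : β ((emb h).val *ᵥ v) w = 0 := by
  obtain ⟨α, hα⟩ := c.exists_aut (inv_mem hh)
  obtain ⟨s, hs⟩ := conj65 hF hx ((α.orderOf_eq x).trans hx)
  obtain ⟨k, hk⟩ := mem_powers_iff_mem_zpowers.2 (hs.ge (Subgroup.mem_zpowers _))
  have h2 : rep φ (α x) ((emb h⁻¹).val *ᵥ w) = (emb h⁻¹).val *ᵥ w := by
    rw [rep_apply, ← hα, ← mul_act, ← map_mul, inv_inv, mul_inv_cancel_right, map_mul, mul_act, ← rep_apply, hw]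
  have h3 : rep φ (s * x * s⁻¹) ((emb h⁻¹).val *ᵥ w) = (emb h⁻¹).val *ᵥ w := by
    rw [← hk, map_pow, End.pow_apply, Function.iterate_fixed h2]
  have h4 := h1 (rep φ s⁻¹ ((emb h⁻¹).val *ᵥ w)) (by
    conv_rhs => rw [← h3]
    rw [← End.mul_apply, ← End.mul_apply, ← map_mul, ← map_mul, mul_assoc, inv_mul_cancel_left])
  rw [← hv s⁻¹, rep_apply, rep_apply, hβ.inv _ (emb_mem _)] at h4
  rw [← act_inv (emb h) w, hβ.inv _ (emb_mem _), ← map_inv, ← inv_act (emb (φ s⁻¹)) (β _ _), h4, mulVec_zero,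
    mulVec_zero]

theorem main (hF : Fintype.card F = 64) (c : Ctx H φ) : ¬ IsCoatom H := fun hm => by
  have := charP_of_card_eq_prime_pow (p := 2) (f := 6) hF
  let _ := ZMod.algebra F 2
  let ι : F →+* K2 := (IsAlgClosed.lift : F →ₐ[ZMod 2] K2)
  obtain ⟨ξ, hξ⟩ := exists_root (n := 65) (by decide)
  obtain ⟨x, hx, ho⟩ := exists_elt ι hF (by norm_num) (.inr dvd_rfl) hξ
  obtain ⟨β, hβ⟩ := exists_br
  obtain ⟨g, hg, χ, hχ, ht, a, ha, hy⟩ := exists_tor ((orderOf_injective φ c.inj x).trans ho)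
  obtain ⟨A, hA⟩ := exists_ch ι hF (rep φ)
  have hc : a * φ x = φ x * a := emb_injective (by
    have := (TX_commute hχ hy).eq
    rw [← ht, conj_mul, conj_mul, mul_left_inj, mul_right_inj] at this
    rw [map_mul, map_mul, this])
  have hr := hA.finrank_eig (by norm_num) hξ hx 0
  rw [pow_zero] at hr
  have hr' := (finrank_conj g (emb (φ x))).trans hr
  rw [ht] at hr'
  have hf : ∀ v : VV, (chevE8.charG K2 χ).val *ᵥ v = v ↔
      rep φ x ((g⁻¹).val *ᵥ v) = (g⁻¹).val *ᵥ v := fun v => by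
    have := conj_fix g (emb (φ x)) v
    rwa [ht, ← rep_apply] at this
  have hf' : ∀ v : VV, rep φ x v = v → (chevE8.charG K2 χ).val *ᵥ (g.val *ᵥ v) = g.val *ᵥ v :=
    fun v hv => (hf _).2 (by rw [inv_act, hv])
  have hb : ∀ s a b, β (rep φ s a) (rep φ s b) = rep φ s (β a b) := fun s a b => by
    rw [rep_apply, rep_apply, rep_apply, hβ.inv _ (emb_mem _)]
  have hab : (∃ v ∈ (rep φ).invariants, v ≠ 0 ∧ ∀ w, rep φ x w = w → β v w = 0) →
      ((WW A).map (· % 65)).count (0 % 65) ≠ 248 → False := by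
    rintro ⟨v, hv, h0, h1⟩ h2
    refine core hF c hm ho ha hc (W := (rep φ).invariants ⊓
      ⨅ w ∈ {w | rep φ x w = w}, LinearMap.ker (β.flip w)) ?_ (fun e => h2 ?_) (fun h hh u hu => ?_)
      fun u hu => ?_
    · exact (Submodule.ne_bot_iff _).2 ⟨v, ⟨hv, by simpa using h1⟩, h0⟩
    · rw [← hr, show End.eigenspace (rep φ x) 1 = ⊤ from eq_top_iff.2 fun u _ => End.mem_eigenspace_iff.2
        (by rw [(e.ge Submodule.mem_top).1 x, one_smul]), finrank_top, finrank_fintype_fun_eq_card,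
        Fintype.card_sum, Fintype.card_fin, Fintype.card_fin]
      rfl
    · exact ⟨inv_conj c hh hu.1, by simpa using cen_conj hF c hβ ho hh hu.1 (by simpa using hu.2)⟩
    · have h3 : ∀ w, rep φ x w = w → β u w = 0 := by simpa using hu.2
      have := hβ.cen_fix (u := g.val *ᵥ u) (fun w hw => by
        rw [← act_inv g w, hβ.inv g hg, h3 _ ((hf w).1 hw), mulVec_zero]) hy
      rw [conj_fix, inv_act] at this
      rwa [this]
  rcases ch_cases hF c.inj hA with rfl | rfl | rfl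
  · have e : ((WW La).map (· % 65)).count (0 % 65) = 8 := by decide +kernel
    obtain ⟨v, hv, h0⟩ := (Submodule.ne_bot_iff _).1 (caseA hF hA)
    refine hab ⟨v, hv, h0, fun w hw => ?_⟩ (by rw [e]; norm_num)
    have := hβ.ab_of_eight (hr'.trans e) (hf' v (hv x)) (hf' w hw)
    rw [hβ.inv g hg] at this
    rw [← inv_act g (β v w), this, mulVec_zero]
  · have e : ((WW Lb).map (· % 65)).count (0 % 65) = 12 := by decide +kernel
    have h6 := hA.pressure hF (by decide +kernel)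
    rw [show Multiset.count 0 (Lb : Multiset ℕ) = 12 by decide +kernel, show dd Lb = 6 by decide +kernel,
      ← finrank_comap g] at h6
    obtain ⟨v, hv, h0, h1⟩ := hβ.exists_cen hχ (hr'.trans e) (V := (rep φ).invariants.comap (lin g⁻¹))
      (fun v hv => (hf v).2 (hv x)) (fun a ha b hb' s => by
        rw [lin_apply, ← hβ.inv _ (inv_mem hg), ← hb, ← lin_apply, ← lin_apply, ha s, hb' s]) (by omega)
    refine hab ⟨lin g⁻¹ v, Submodule.mem_comap.1 hv, fun e => h0 ?_, fun w hw => ?_⟩ (by rw [e]; norm_num)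
    · rw [← act_inv g v, ← lin_apply g⁻¹, e, mulVec_zero]
    · rw [← inv_act g w, lin_apply, hβ.inv _ (inv_mem hg), h1 _ (hf' w hw), mulVec_zero]
  · have e : ((WW Lc).map (· % 65)).count (0 % 65) = 12 := by decide +kernel
    obtain ⟨h1, h2, h3⟩ := caseC hF hA (by decide +kernel) (by decide +kernel) β hb
    have h4 : ∀ h ∈ H, ∀ v ∈ (zz (rep φ)).maxGenEigenspace 0,
        (emb h).val *ᵥ v ∈ (zz (rep φ)).maxGenEigenspace 0 := fun h hh => by
      obtain ⟨α, hα⟩ := c.exists_aut hh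
      exact End.mapsTo_maxGenEigenspace_of_comm (g := lin (emb h)) (zz_comm (α := α) fun s => by
        change lin (emb h) * lin (emb (φ s)) = lin (emb (φ (α s))) * lin (emb h)
        rw [← map_mul, ← map_mul, ← map_mul, ← map_mul, ← hα, inv_mul_cancel_right]).symm 0
    refine core hF c hm ho ha hc (fun e0 => ?_) h1 h4 fun v hv => ?_
    · rw [show End.eigenspace (rep φ x) 1 = ⊥ from eq_bot_iff.2 fun u hu => e0.le (h3 x ξ hξ hx u
        (by simpa using End.mem_eigenspace_iff.1 hu)), finrank_bot, e] at hr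
      omega
    · have := hβ.sub_inv hχ (W := ((zz (rep φ)).maxGenEigenspace 0).comap (lin g⁻¹))
        (fun v hv => h3 x ξ hξ hx _ ((hf v).1 hv)) (fun a ha b hb => by
          rw [Submodule.mem_comap, lin_apply, ← hβ.inv _ (inv_mem hg)]; exact h2 _ ha _ hb)
        (fun v hv => by
          rw [Submodule.mem_comap, lin_apply, ← ht, mul_act, mul_act, inv_act]
          exact h4 _ (c.le x) _ hv) hy (g.val *ᵥ v) (by rwa [Submodule.mem_comap, lin_apply, inv_act])
      rwa [Submodule.mem_comap, lin_apply, mul_act, mul_act, inv_act, inv_act] at this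

end Cfsg.Agent.E82
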